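import Mathlib
import Groth.Prelude.Def_EGA4b
import Groth.Agent.Lib.Helper29.CplFlat
import Groth.Agent.Lib.Helper18.AdicQuot

/-!
# Completion of a quotient of a Noetherian local ring (helper64)

For a Noetherian local ring `A` and a proper ideal `I`, the canonical map `Â → (A/I)^` is
surjective with kernel `I Â`, so `(A/I)^ = (A/I) ⊗_A Â` (`Algebra.IsPushout`).  We also record the
resulting isomorphism of (formal) fibres after any extension of the residue field.
-/

set_option autoImplicit false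
universe u

namespace Groth.Agent.Lib.Helper64

open IsLocalRing TensorProduct AdicCompletion

section

variable (A : Type u) [CommRing A] [IsLocalRing A] (I : Ideal A)
  [Nontrivial (A ⧸ I)]

theorem maximalIdeal_quotient :
    maximalIdeal (A ⧸ I) = (maximalIdeal A).map (Ideal.Quotient.mk I) :=
  (map_maximalIdeal_of_surjective _ Ideal.Quotient.mk_surjective).symm

theorem pow_le_comap_pow (n : ℕ) :
    maximalIdeal A ^ n ≤ (maximalIdeal (A ⧸ I) ^ n).comap (Algebra.ofId A (A ⧸ I)) := by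
  rw [maximalIdeal_quotient, ← Ideal.map_pow]
  exact Ideal.le_comap_map

/-- The maps `Â → A/𝔪ⁿ → (A/I)/𝔫ⁿ`. -/
noncomputable def cplQuotStage (n : ℕ) :
    EGA4.Cpl A →ₐ[A] (A ⧸ I) ⧸ maximalIdeal (A ⧸ I) ^ n :=
  (Ideal.quotientMapₐ (maximalIdeal (A ⧸ I) ^ n) (Algebra.ofId A (A ⧸ I))
    (pow_le_comap_pow A I n)).comp (evalₐ (maximalIdeal A) n)

theorem cplQuotStage_compat {m n : ℕ} (hle : m ≤ n) :
    (Ideal.Quotient.factorₐ A (Ideal.pow_le_pow_right hle)).comp (cplQuotStage A I n) =
      cplQuotStage A I m := by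
    ext x
    obtain ⟨x, rfl⟩ := AdicCompletion.mk_surjective _ _ x
    have h1 := AdicCompletion.Ideal.mk_eq_mk (I := maximalIdeal A) hle x
    rw [Ideal.Quotient.eq] at h1
    have h2 := pow_le_comap_pow A I m h1
    simp [cplQuotStage]
    rw [Ideal.Quotient.eq, ← map_sub]
    exact h2

/-- The canonical map `Â → (A/I)^`. -/
noncomputable def cplQuotMap : EGA4.Cpl A →ₐ[A] EGA4.Cpl (A ⧸ I) :=
  AdicCompletion.liftAlgHom (maximalIdeal (A ⧸ I)) (cplQuotStage A I)
    (fun hle => cplQuotStage_compat A I hle)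

theorem evalₐ_cplQuotMap (n : ℕ) (x : EGA4.Cpl A) :
    evalₐ (maximalIdeal (A ⧸ I)) n (cplQuotMap A I x) = cplQuotStage A I n x :=
  AdicCompletion.evalₐ_liftAlgHom (maximalIdeal (A ⧸ I)) (cplQuotStage A I)
    (fun hle => cplQuotStage_compat A I hle) n x

theorem cplQuotMap_of (a : A) :
    cplQuotMap A I (of (maximalIdeal A) A a) = of (maximalIdeal (A ⧸ I)) (A ⧸ I) (Ideal.Quotient.mk I a) := by
  have := (cplQuotMap A I).commutes a
  rwa [AdicCompletion.algebraMap_apply, AdicCompletion.algebraMap_apply] at this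

theorem cplQuotStage_of (n : ℕ) (a : A) :
    cplQuotStage A I n (of (maximalIdeal A) A a) = Ideal.Quotient.mk _ (Ideal.Quotient.mk I a) := by
  simp [cplQuotStage]

end

section Noeth

variable (A : Type u) [CommRing A] [IsNoetherianRing A] [IsLocalRing A] (I : Ideal A)
  [Nontrivial (A ⧸ I)]

omit [IsNoetherianRing A] in
theorem map_map_cplQuotMap (K : Ideal A) :
    (K.map (algebraMap A (EGA4.Cpl A))).map (cplQuotMap A I).toRingHom =
      (K.map (Ideal.Quotient.mk I)).map (algebraMap (A ⧸ I) (EGA4.Cpl (A ⧸ I))) := by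
  rw [Ideal.map_map, Ideal.map_map]
  congr 1

theorem cplQuotMap_surjective : Function.Surjective (cplQuotMap A I) := by
  have fgA : (maximalIdeal A).FG := (isNoetherianRing_iff_ideal_fg A).mp inferInstance _
  have fgQ : (maximalIdeal (A ⧸ I)).FG := (isNoetherianRing_iff_ideal_fg (A ⧸ I)).mp inferInstance _
  have h1 := AdicCompletion.isAdicComplete_self (maximalIdeal A) fgA
  have h2 := AdicCompletion.isAdicComplete_self (maximalIdeal (A ⧸ I)) fgQ
  have hJ : ((maximalIdeal A).map (algebraMap A (EGA4.Cpl A))).map (cplQuotMap A I).toRingHom =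
      (maximalIdeal (A ⧸ I)).map (algebraMap (A ⧸ I) (EGA4.Cpl (A ⧸ I))) := by
    rw [map_map_cplQuotMap, ← maximalIdeal_quotient]
  have : IsHausdorff (((maximalIdeal A).map (algebraMap A (EGA4.Cpl A))).map
      (cplQuotMap A I).toRingHom) (EGA4.Cpl (A ⧸ I)) := by
    rw [hJ]; infer_instance
  refine surjective_of_mk_map_comp_surjective
    (I := (maximalIdeal A).map (algebraMap A (EGA4.Cpl A))) (cplQuotMap A I).toRingHom ?_
  intro y
  obtain ⟨y, rfl⟩ := Ideal.Quotient.mk_surjective y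
  obtain ⟨b, hb⟩ := Ideal.Quotient.mk_surjective (evalₐ (maximalIdeal (A ⧸ I)) 1 y)
  obtain ⟨a, rfl⟩ := Ideal.Quotient.mk_surjective b
  refine ⟨of (maximalIdeal A) A a, ?_⟩
  change Ideal.Quotient.mk _ (cplQuotMap A I (of (maximalIdeal A) A a)) = Ideal.Quotient.mk _ y
  rw [Ideal.Quotient.eq, hJ]
  have hker := Groth.Agent.Lib.Helper18.ker_evalₐ_eq_map_pow (maximalIdeal (A ⧸ I)) fgQ 1
  rw [show ∀ K : Ideal (EGA4.Cpl (A ⧸ I)), K ^ 1 = K from fun K => pow_one K] at hker
  rw [← hker, RingHom.mem_ker, map_sub, cplQuotMap_of]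
  simp only [AlgHom.toRingHom_eq_coe, RingHom.coe_coe, evalₐ_of, sub_eq_zero]
  exact hb

theorem ker_cplQuotMap :
    RingHom.ker (cplQuotMap A I).toRingHom = I.map (algebraMap A (EGA4.Cpl A)) := by
  have fgA : (maximalIdeal A).FG := (isNoetherianRing_iff_ideal_fg A).mp inferInstance _
  have : IsNoetherianRing (EGA4.Cpl A) := Groth.Agent.Lib.Helper29.isNoetherianRing_cpl A
  have : IsLocalRing (EGA4.Cpl A) := Groth.Agent.Lib.Helper29.isLocalRing_cpl A
  apply le_antisymm
  · intro x hx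
    rw [RingHom.mem_ker] at hx
    have hstep : ∀ n : ℕ, x ∈ I.map (algebraMap A (EGA4.Cpl A)) ⊔
        (maximalIdeal A).map (algebraMap A (EGA4.Cpl A)) ^ n := by
      intro n
      obtain ⟨a, ha⟩ := Ideal.Quotient.mk_surjective (evalₐ (maximalIdeal A) n x)
      have h0 : evalₐ (maximalIdeal (A ⧸ I)) n (cplQuotMap A I x) = 0 := by
        have : cplQuotMap A I x = 0 := hx
        rw [this, _root_.map_zero]
      rw [evalₐ_cplQuotMap, cplQuotStage, AlgHom.comp_apply, ← ha] at h0
      have h1 : Ideal.Quotient.mk I a ∈ maximalIdeal (A ⧸ I) ^ n := by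
        rw [← Ideal.Quotient.eq_zero_iff_mem]
        simpa using h0
      rw [maximalIdeal_quotient, ← Ideal.map_pow,
        Ideal.mem_map_iff_of_surjective _ Ideal.Quotient.mk_surjective] at h1
      obtain ⟨b, hb, hba⟩ := h1
      have hc : a - b ∈ I := by
        rw [← Ideal.Quotient.eq]; exact hba.symm
      refine Submodule.mem_sup.mpr ⟨algebraMap A (EGA4.Cpl A) (a - b), Ideal.mem_map_of_mem _ hc,
        x - algebraMap A (EGA4.Cpl A) (a - b), ?_, by ring⟩
      rw [← Groth.Agent.Lib.Helper18.ker_evalₐ_eq_map_pow _ fgA n, RingHom.mem_ker]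
      simp only [AlgHom.toRingHom_eq_coe, RingHom.coe_coe, map_sub, AlgHom.commutes, ← ha]
      change Ideal.Quotient.mk (maximalIdeal A ^ n) a -
        (Ideal.Quotient.mk (maximalIdeal A ^ n) a - Ideal.Quotient.mk (maximalIdeal A ^ n) b) = 0
      rw [sub_sub_cancel]
      exact Ideal.Quotient.eq_zero_iff_mem.mpr hb
    -- Krull intersection in the finite `Â`-module `Â ⧸ I Â`
    have hJ : (maximalIdeal A).map (algebraMap A (EGA4.Cpl A)) ≠ ⊤ := by
      rw [← Groth.Agent.Lib.Helper29.maximalIdeal_adicCompletion_eq_map A (maximalIdeal A)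
        (Ideal.IsPrime.ne_top inferInstance)]
      exact Ideal.IsPrime.ne_top inferInstance
    have hK := Ideal.iInf_pow_smul_eq_bot_of_isLocalRing
      (I := (maximalIdeal A).map (algebraMap A (EGA4.Cpl A)))
      (M := EGA4.Cpl A ⧸ I.map (algebraMap A (EGA4.Cpl A))) hJ
    have hmem : (Submodule.mkQ (I.map (algebraMap A (EGA4.Cpl A))) x) ∈
        (⨅ i : ℕ, ((maximalIdeal A).map (algebraMap A (EGA4.Cpl A))) ^ i • ⊤ :
          Submodule (EGA4.Cpl A) (EGA4.Cpl A ⧸ I.map (algebraMap A (EGA4.Cpl A)))) := by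
      rw [Submodule.mem_iInf]
      intro n
      obtain ⟨y, hy, z, hz, hyz⟩ := Submodule.mem_sup.mp (hstep n)
      rw [← hyz, map_add]
      have hy0 : Submodule.mkQ (I.map (algebraMap A (EGA4.Cpl A))) y = 0 :=
        (Submodule.Quotient.mk_eq_zero _).mpr hy
      rw [hy0, zero_add]
      have : Submodule.mkQ (I.map (algebraMap A (EGA4.Cpl A))) z =
          z • Submodule.mkQ (I.map (algebraMap A (EGA4.Cpl A))) (1 : EGA4.Cpl A) := by
        rw [← map_smul, smul_eq_mul, mul_one]
      rw [this]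
      exact Submodule.smul_mem_smul hz Submodule.mem_top
    rw [hK, Submodule.mem_bot] at hmem
    exact (Submodule.Quotient.mk_eq_zero _).mp hmem
  · rw [Ideal.map_le_iff_le_comap]
    intro a ha
    rw [Ideal.mem_comap, RingHom.mem_ker]
    change cplQuotMap A I (algebraMap A (EGA4.Cpl A) a) = 0
    rw [AlgHom.commutes, AdicCompletion.algebraMap_apply, Ideal.Quotient.algebraMap_eq,
      Ideal.Quotient.eq_zero_iff_mem.mpr ha, _root_.map_zero]

/-- The `Â`-algebra structure on `(A/I)^`. -/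
@[reducible] noncomputable def cplQuotAlgebra : Algebra (EGA4.Cpl A) (EGA4.Cpl (A ⧸ I)) :=
  (cplQuotMap A I).toRingHom.toAlgebra

attribute [local instance] cplQuotAlgebra

omit [IsNoetherianRing A] in
theorem cplQuot_isScalarTower : IsScalarTower A (EGA4.Cpl A) (EGA4.Cpl (A ⧸ I)) :=
  IsScalarTower.of_algebraMap_eq fun a => ((cplQuotMap A I).commutes a).symm

attribute [local instance] cplQuot_isScalarTower

theorem smul_top_eq_ker :
    (I • ⊤ : Submodule A (EGA4.Cpl A)) = LinearMap.ker (cplQuotMap A I).toLinearMap := by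
  rw [Ideal.smul_top_eq_map, ← ker_cplQuotMap]
  ext x
  simp [RingHom.mem_ker]

/-- `(A/I) ⊗_A Â ≃ (A/I)^`. -/
noncomputable def cplQuotTensorEquiv : (A ⧸ I) ⊗[A] EGA4.Cpl A ≃ₗ[A ⧸ I] EGA4.Cpl (A ⧸ I) :=
  LinearEquiv.extendScalarsOfSurjective (Ideal.Quotient.mk_surjective (I := I))
    ((TensorProduct.quotTensorEquivQuotSMul (EGA4.Cpl A) I).trans
      ((Submodule.quotEquivOfEq _ _ (smul_top_eq_ker A I)).trans
        ((cplQuotMap A I).toLinearMap.quotKerEquivOfSurjective (cplQuotMap_surjective A I))))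

theorem cplQuotTensorEquiv_one_tmul (x : EGA4.Cpl A) :
    cplQuotTensorEquiv A I (1 ⊗ₜ x) = cplQuotMap A I x := by
  simp [cplQuotTensorEquiv, TensorProduct.quotTensorEquivQuotSMul_mk_one_tmul]

theorem cplQuot_isPushout : Algebra.IsPushout A (A ⧸ I) (EGA4.Cpl A) (EGA4.Cpl (A ⧸ I)) := by
  constructor
  refine IsBaseChange.of_equiv (cplQuotTensorEquiv A I) (fun x => ?_)
  rw [cplQuotTensorEquiv_one_tmul]
  rfl

end Noeth

section Fibre

/-- Fibres of a base change: for a pushout square `B' = A' ⊗_A B`, a prime `p'` of `A'` with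
contraction `p`, and a `κ(p')`-algebra `K`, the rings `K ⊗_{κ(p')} (κ(p') ⊗_{A'} B')` and
`K ⊗_{κ(p)} (κ(p) ⊗_A B)` are isomorphic (generalizing helper22's localization case). -/
theorem nonempty_ringEquiv_fiber_tensor_of_isPushout
    {A A' B B' : Type u} [CommRing A] [CommRing A'] [CommRing B] [CommRing B']
    [Algebra A A'] [Algebra A B] [Algebra B B'] [Algebra A' B'] [Algebra A B']
    [IsScalarTower A A' B'] [IsScalarTower A B B'] (hpush : Algebra.IsPushout A A' B B')
    (p' : Ideal A') [p'.IsPrime] (p : Ideal A) [p.IsPrime] (hp : p = p'.comap (algebraMap A A'))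
    (K : Type u) [CommRing K] [Algebra p'.ResidueField K] [Algebra p.ResidueField K]
    (hK : algebraMap p.ResidueField K =
      (algebraMap p'.ResidueField K).comp (Ideal.ResidueField.map p p' (algebraMap A A') hp)) :
    Nonempty (K ⊗[p'.ResidueField] (p'.Fiber B') ≃+* K ⊗[p.ResidueField] (p.Fiber B)) := by
  let _ : Algebra A' K := ((algebraMap p'.ResidueField K).comp (algebraMap A' p'.ResidueField)).toAlgebra
  let _ : Algebra A K := ((algebraMap A' K).comp (algebraMap A A')).toAlgebra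
  have : IsScalarTower A' p'.ResidueField K := IsScalarTower.of_algebraMap_eq fun x => rfl
  have : IsScalarTower A A' K := IsScalarTower.of_algebraMap_eq fun x => rfl
  have : IsScalarTower A p.ResidueField K := IsScalarTower.of_algebraMap_eq fun x => by
    rw [hK, RingHom.comp_apply, Ideal.ResidueField.map_algebraMap]
    rfl
  let e1 : K ⊗[p'.ResidueField] (p'.Fiber B') ≃ₐ[K] K ⊗[A'] B' :=
    Algebra.TensorProduct.cancelBaseChange A' p'.ResidueField K K B'
  let e : B' ≃ₐ[A'] A' ⊗[A] B := (Algebra.IsPushout.equiv A A' B B').symm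
  let e2 : K ⊗[A'] B' ≃ₐ[K] K ⊗[A'] (A' ⊗[A] B) :=
    Algebra.TensorProduct.congr AlgEquiv.refl e
  let e3 : K ⊗[A'] (A' ⊗[A] B) ≃ₐ[K] K ⊗[A] B :=
    Algebra.TensorProduct.cancelBaseChange A A' K K B
  let e4 : K ⊗[p.ResidueField] (p.Fiber B) ≃ₐ[K] K ⊗[A] B :=
    Algebra.TensorProduct.cancelBaseChange A p.ResidueField K K B
  exact ⟨(e1.trans (e2.trans (e3.trans e4.symm))).toRingEquiv⟩

variable (A : Type u) [CommRing A] [IsNoetherianRing A] [IsLocalRing A] (I : Ideal A)
  [Nontrivial (A ⧸ I)]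

omit [IsNoetherianRing A] [IsLocalRing A] [Nontrivial (A ⧸ I)] in
theorem residueFieldMap_quotient_bijective (P : Ideal (A ⧸ I)) [P.IsPrime] (p : Ideal A) [p.IsPrime]
    (hp : p = P.comap (algebraMap A (A ⧸ I))) :
    Function.Bijective (Ideal.ResidueField.map p P (algebraMap A (A ⧸ I)) hp) :=
  (RingHom.surjectiveOnStalks_of_surjective
    (f := algebraMap A (A ⧸ I)) Ideal.Quotient.mk_surjective).residueFieldMap_bijective p P hp

/-- The formal fibres of `A/I` are those of `A` (after any extension of the residue field). -/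
theorem nonempty_ringEquiv_formalFibre_tensor (P : Ideal (A ⧸ I)) [P.IsPrime] (p : Ideal A) [p.IsPrime]
    (hp : p = P.comap (algebraMap A (A ⧸ I)))
    (K : Type u) [CommRing K] [Algebra P.ResidueField K] [Algebra p.ResidueField K]
    (hK : algebraMap p.ResidueField K =
      (algebraMap P.ResidueField K).comp (Ideal.ResidueField.map p P (algebraMap A (A ⧸ I)) hp)) :
    Nonempty (K ⊗[P.ResidueField] (EGA4.formalFibre (A ⧸ I) P) ≃+*
      K ⊗[p.ResidueField] (EGA4.formalFibre A p)) := by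
  let _ := cplQuotAlgebra A I
  have := cplQuot_isScalarTower A I
  exact nonempty_ringEquiv_fiber_tensor_of_isPushout (cplQuot_isPushout A I) P p hp K hK

end Fibre

end Groth.Agent.Lib.Helper64
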