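import Groth.Agent.Lib.Helper64.PuncturedAffine
import Mathlib

set_option autoImplicit false
universe u
open CategoryTheory AlgebraicGeometry Opposite TopologicalSpace

namespace Groth.Agent.Lib.Helper64.AffineComplement

open Groth.Agent.Lib.Helper64.PuncturedAffine

/-- In a Noetherian quasi-sober space, a point in the closure of an open set is a specialization of
a point of that open set. -/
lemma exists_specializes_of_mem_closure {T : Type*} [TopologicalSpace T] [NoetherianSpace T]
    [QuasiSober T] {O : Set T} (hO : IsOpen O) {x : T} (hx : x ∈ closure O) :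
    ∃ y ∈ O, y ⤳ x := by
  have hfin : (irreducibleComponents T).Finite := NoetherianSpace.finite_irreducibleComponents
  let S : Set T := ⋃ Z ∈ {Z ∈ irreducibleComponents T | (Z ∩ O).Nonempty}, Z
  have hScl : IsClosed S := by
    apply Set.Finite.isClosed_biUnion (hfin.subset (fun Z hZ => hZ.1))
    intro Z hZ
    exact isClosed_of_mem_irreducibleComponents Z hZ.1
  have hOS : O ⊆ S := by
    intro y hy
    refine Set.mem_biUnion (x := irreducibleComponent y) ⟨irreducibleComponent_mem_irreducibleComponents y,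
      ⟨y, mem_irreducibleComponent, hy⟩⟩ mem_irreducibleComponent
  have hxS : x ∈ S := closure_minimal hOS hScl hx
  obtain ⟨Z, ⟨hZ, hZO⟩, hxZ⟩ := Set.mem_iUnion₂.mp hxS
  obtain ⟨η, hη⟩ := QuasiSober.sober hZ.1 (isClosed_of_mem_irreducibleComponents Z hZ)
  exact ⟨η, (hη.mem_open_set_iff hO).mpr hZO, hη.specializes hxZ⟩

/-- In a locally Noetherian scheme, a point in the closure of an open set is a specialization of a
point of that open set. -/
lemma exists_specializes_of_mem_closure_scheme (X : Scheme.{u}) [IsLocallyNoetherian X]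
    (U : X.Opens) (ξ : X) (hcl : ξ ∈ closure (U : Set X)) : ∃ y ∈ U, y ⤳ ξ := by
  obtain ⟨W, hW, hξW, -⟩ := exists_isAffineOpen_mem_and_subset (U := ⊤) (x := ξ) (by simp)
  have : IsNoetherianRing Γ(X, W) := IsLocallyNoetherian.component_noetherian ⟨W, hW⟩
  have : NoetherianSpace W := noetherianSpace_of_isAffineOpen W hW
  let O : Set W.toScheme := W.ι ⁻¹' (U : Set X)
  have hO : IsOpen O := U.2.preimage W.ι.continuous
  obtain ⟨x, rfl⟩ : ∃ x : W.toScheme, W.ι x = ξ := by
    have : ξ ∈ Set.range W.ι := by rw [Scheme.Opens.range_ι]; exact hξW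
    exact this
  have hx : x ∈ closure O := by
    rw [mem_closure_iff]
    intro N' hN' hxN'
    have hN : IsOpen (W.ι '' N') := W.ι.isOpenEmbedding.isOpenMap _ hN'
    obtain ⟨z, ⟨z', hz', rfl⟩, hzU⟩ := mem_closure_iff.mp hcl _ hN ⟨x, hxN', rfl⟩
    exact ⟨z', hz', hzU⟩
  obtain ⟨y, hyO, hy⟩ := exists_specializes_of_mem_closure hO hx
  exact ⟨W.ι y, hyO, hy.map W.ι.continuous⟩

section main

variable (X : Scheme.{u}) [IsLocallyNoetherian X] (U : X.Opens) [IsAffineHom U.ι] (ξ : X)
  (hξ : ξ ∉ U) (hgen : ∀ y : X, y ∉ U → y ⤳ ξ → y = ξ)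

omit [IsLocallyNoetherian X] [IsAffineHom U.ι] in
include hξ hgen in
lemma preimage_eq_puncturedSpec :
    (X.fromSpecStalk ξ) ⁻¹ᵁ U = FEt.puncturedSpec (X.presheaf.stalk ξ) := by
  ext p
  show (X.fromSpecStalk ξ) p ∈ U ↔ ¬ (p = IsLocalRing.closedPoint (X.presheaf.stalk ξ))
  constructor
  · rintro hp rfl
    rw [Scheme.fromSpecStalk_closedPoint] at hp
    exact hξ hp
  · intro hp
    by_contra hpU
    have hsp : (X.fromSpecStalk ξ) p ⤳ ξ := by
      have : (X.fromSpecStalk ξ) p ∈ Set.range (X.fromSpecStalk ξ) := ⟨p, rfl⟩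
      rw [Scheme.range_fromSpecStalk] at this
      exact this
    have h1 := hgen _ hpU hsp
    apply hp
    apply (X.fromSpecStalk ξ).isEmbedding.injective
    rw [h1, Scheme.fromSpecStalk_closedPoint]

include hξ hgen in
theorem ringKrullDim_stalk_le_one : ringKrullDim (X.presheaf.stalk ξ) ≤ 1 := by
  have h1 : IsAffineHom ((X.fromSpecStalk ξ) ⁻¹ᵁ U).ι :=
    MorphismProperty.of_isPullback (isPullback_morphismRestrict (X.fromSpecStalk ξ) U)
      inferInstance
  have h2 : IsAffineOpen ((X.fromSpecStalk ξ) ⁻¹ᵁ U) :=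
    isAffine_of_isAffineHom ((X.fromSpecStalk ξ) ⁻¹ᵁ U).ι
  rw [preimage_eq_puncturedSpec X U ξ hξ hgen] at h2
  exact ringKrullDim_le_one_of_isAffineOpen (A := X.presheaf.stalk ξ) h2

include hξ hgen in
theorem ringKrullDim_stalk_eq_one (hcl : ξ ∈ closure (U : Set X)) :
    ringKrullDim (X.presheaf.stalk ξ) = 1 := by
  apply le_antisymm (ringKrullDim_stalk_le_one X U ξ hξ hgen)
  obtain ⟨y, hyU, hy⟩ := exists_specializes_of_mem_closure_scheme X U ξ hcl
  have : y ∈ Set.range (X.fromSpecStalk ξ) := by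
    rw [Scheme.range_fromSpecStalk]; exact hy
  obtain ⟨p, rfl⟩ := this
  have hp : p ≠ IsLocalRing.closedPoint (X.presheaf.stalk ξ) := by
    rintro rfl
    rw [Scheme.fromSpecStalk_closedPoint] at hyU
    exact hξ hyU
  have := p.2
  have hpm : p.asIdeal < IsLocalRing.maximalIdeal (X.presheaf.stalk ξ) :=
    lt_of_le_of_ne (IsLocalRing.le_maximalIdeal p.2.ne_top) (fun h => hp (PrimeSpectrum.ext h))
  have h2 := Ideal.height_add_one_le_of_lt_of_isPrime hpm
  have h3 : (IsLocalRing.maximalIdeal (X.presheaf.stalk ξ)).height ≤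
      ringKrullDim (X.presheaf.stalk ξ) := Ideal.height_le_ringKrullDim_of_isPrime
  have h4 : (1 : ℕ∞) ≤ (IsLocalRing.maximalIdeal (X.presheaf.stalk ξ)).height :=
    le_trans (by simp) h2
  exact le_trans (by exact_mod_cast h4) h3

end main

end Groth.Agent.Lib.Helper64.AffineComplement
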