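import Mathlib
import Groth.Prelude
import Groth.Agent.Lib.Helper38.H0Const
import Groth.Agent.Lib.Helper70.SteinPI
import Groth.Agent.Lib.Helper24.SmoothNormalStalk
import Groth.Agent.Lib.Helper97.NormalSch

/-!
# Smooth proper schemes over a field: `h⁰ = 1` iff geometrically connected iff geometrically
integral (helper64)
-/

set_option autoImplicit false
set_option linter.style.haveILetI false
universe u

namespace Groth.Agent.Lib.Helper64.CurveGeom

open AlgebraicGeometry CategoryTheory Limits TensorProduct TopologicalSpace Opposite

/-- stalks of a scheme smooth over a field are normal domains. -/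
theorem isNormal_stalk_of_smooth (K : Type u) [Field K] {Y : Scheme.{u}}
    (g : Y ⟶ Spec (CommRingCat.of K)) [Smooth g] (y : Y) :
    IsDomain (Y.presheaf.stalk y) ∧ IsIntegrallyClosed (Y.presheaf.stalk y) := by
  have H : (g.stalkMap y).hom.FormallySmooth := by
    have hy : y ∈ g.smoothLocus := by
      rw [g.smoothLocus_eq_top]
      trivial
    exact hy
  refine Groth.Agent.Lib.Helper24.isIntegrallyClosed_stalk_of_formallySmooth_stalkMap g y H
    ⟨inferInstance, ?_⟩
  let K' := (Spec.structureSheaf K).presheaf.stalk (g y)
  let e : K ≃ₐ[K] K' := IsLocalization.atUnits _ (g y).asIdeal.primeCompl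
      (fun x hx ↦ by aesop (add simp IsUnit.mem_submonoid_iff))
  exact IsIntegrallyClosed.of_equiv e.toRingEquiv

/-- a connected scheme, smooth and quasi-compact over a field, is integral. -/
theorem isIntegral_of_connected_of_smooth (K : Type u) [Field K] {Y : Scheme.{u}}
    (g : Y ⟶ Spec (CommRingCat.of K)) [Smooth g] [QuasiCompact g] [ConnectedSpace Y] :
    IsIntegral Y := by
  have hst := isNormal_stalk_of_smooth K g
  have hdom : ∀ y : Y, IsDomain (Y.presheaf.stalk y) := fun y => (hst y).1
  haveI : IsReduced Y := by
    haveI : ∀ y : Y, _root_.IsReduced (Y.presheaf.stalk y) := fun y => by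
      haveI := hdom y
      infer_instance
    exact isReduced_of_isReduced_stalk Y
  haveI hLN : IsLocallyNoetherian Y := LocallyOfFiniteType.isLocallyNoetherian g
  haveI hcomp : CompactSpace Y := (quasiCompact_iff_compactSpace g).mp inferInstance
  haveI hNoeth : IsNoetherian Y := {}
  haveI hNS : NoetherianSpace Y := inferInstance
  obtain ⟨x⟩ : Nonempty Y := inferInstance
  have hopen := Groth.Agent.Lib.Helper97.NormalSch.isOpen_irreducibleComponent hdom x
  have hclosed : IsClosed (irreducibleComponent x) := isClosed_irreducibleComponent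
  have huniv : irreducibleComponent x = Set.univ :=
    IsClopen.eq_univ ⟨hclosed, hopen⟩ ⟨x, mem_irreducibleComponent⟩
  haveI : IrreducibleSpace Y := by
    rw [irreducibleSpace_def]
    have h := isIrreducible_irreducibleComponent (x := x)
    rw [huniv] at h
    exact h
  exact isIntegral_of_irreducibleSpace_of_isReduced Y

/-- a scheme smooth over a field is reduced. -/
theorem isReduced_of_smooth (K : Type u) [Field K] {Y : Scheme.{u}}
    (g : Y ⟶ Spec (CommRingCat.of K)) [Smooth g] : IsReduced Y := by
  have hst := isNormal_stalk_of_smooth K g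
  haveI : ∀ y : Y, _root_.IsReduced (Y.presheaf.stalk y) := fun y => by
    haveI := (hst y).1
    infer_instance
  exact isReduced_of_isReduced_stalk Y

/-- a smooth morphism to the spectrum of a field is geometrically reduced. -/
theorem geometricallyReduced_of_smooth (k : Type u) [Field k] {X : Scheme.{u}}
    (f : X ⟶ Spec (CommRingCat.of k)) [Smooth f] : GeometricallyReduced f := by
  refine ⟨geometrically_iff_of_commRing_of_isClosedUnderIsomorphisms.mpr fun K _ _ => ?_⟩
  exact isReduced_of_smooth K (pullback.snd f (Spec.map (CommRingCat.ofHom (algebraMap k K))))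

open Groth.Agent.Lib.Helper38.H0Const in
/-- `h⁰(X, O_X) = 1` for a proper `k`-scheme forces geometric connectedness. -/
theorem geometricallyConnected_of_finrank_eq_one (k : Type u) [Field k] (X : Scheme.{u})
    [X.Over (Spec (CommRingCat.of k))] [IsProper (X ↘ Spec (CommRingCat.of k))]
    (h0 : Module.finrank k (Coh.HH X (Coh.structureModule X) 0) = 1) :
    GeometricallyConnected (X ↘ Spec (CommRingCat.of k)) := by
  rw [finrank_HH_zero] at h0
  set f := X ↘ Spec (CommRingCat.of k) with hf
  refine ⟨geometrically_iff_of_commRing_of_isClosedUnderIsomorphisms.mpr fun K _ _ => ?_⟩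
  let φ : CommRingCat.of k ⟶ CommRingCat.of K := CommRingCat.ofHom (algebraMap k K)
  let g : pullback f (Spec.map φ) ⟶ Spec (CommRingCat.of K) := pullback.snd f (Spec.map φ)
  have : CompactSpace X := (quasiCompact_iff_compactSpace f).mp inferInstance
  have : QuasiSeparatedSpace X := (quasiSeparated_iff_quasiSeparatedSpace f).mp inferInstance
  have : Flat (Spec.map φ) := Groth.Agent.Lib.Helper50.flat_specMap_field k K _
  have hpo := Groth.Agent.Lib.Helper38.GammaBC.isPushout_appTop f φ
  have hpo' : IsPushout (CommRingCat.ofHom (tg f)) (CommRingCat.ofHom (algebraMap k K))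
      (CommRingCat.ofHom (pullback.fst f (Spec.map φ)).appTop.hom) (CommRingCat.ofHom (tg g)) := by
    refine hpo.of_iso (Scheme.ΓSpecIso (CommRingCat.of k)) (Iso.refl _)
      (Scheme.ΓSpecIso (CommRingCat.of K)) (Iso.refl _) ?_ ?_ ?_ ?_
    · simp [tg]
    · simp [φ]
    · simp
    · simp [tg, g]
  have hfr := finrank_eq_of_isPushout _ _ _ _ hpo'
  letI := (tg g).toAlgebra
  have h1 : Module.finrank K Γ(pullback f (Spec.map φ), ⊤) = 1 := hfr.trans h0
  haveI : Nontrivial Γ(pullback f (Spec.map φ), ⊤) :=
    Module.nontrivial_of_finrank_pos (R := K) (by omega)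
  have hne : Nonempty ↥(pullback f (Spec.map φ)) := by
    by_contra hcon
    rw [not_nonempty_iff] at hcon
    have : Subsingleton Γ(pullback f (Spec.map φ), ⊤) := inferInstance
    exact not_subsingleton _ this
  have hpre : PreconnectedSpace ↥(pullback f (Spec.map φ)) := by
    apply Groth.Agent.Lib.Helper70.SteinPI.preconnectedSpace_of_idempotent_trivial
    intro e he
    obtain ⟨c, hc⟩ := (finrank_eq_one_iff_of_nonzero' (1 : Γ(pullback f (Spec.map φ), ⊤))
      one_ne_zero).mp h1 e
    have hc' : algebraMap K Γ(pullback f (Spec.map φ), ⊤) c = e := by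
      rw [Algebra.algebraMap_eq_smul_one]
      exact hc
    have hcc : c * c = c := by
      apply (algebraMap K Γ(pullback f (Spec.map φ), ⊤)).injective
      rw [map_mul, hc']
      exact he.eq
    rcases (IsIdempotentElem.iff_eq_zero_or_one (p := c)).mp hcc with h | h
    · left; rw [← hc', h, map_zero]
    · right; rw [← hc', h, map_one]
  exact { toNonempty := hne }

/-- a geometrically connected smooth quasi-compact `k`-scheme is geometrically integral. -/
theorem geometricallyIntegral_of_geometricallyConnected (k : Type u) [Field k] {X : Scheme.{u}}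
    (f : X ⟶ Spec (CommRingCat.of k)) [Smooth f] [QuasiCompact f] [GeometricallyConnected f] :
    GeometricallyIntegral f := by
  refine ⟨geometrically_iff_of_commRing.mpr fun K _ _ Z fst snd h => ?_⟩
  haveI : ConnectedSpace Z :=
    GeometricallyConnected.geometrically_connectedSpace (f := f) _ fst snd h
  haveI : Smooth snd := MorphismProperty.of_isPullback h ‹Smooth f›
  haveI : QuasiCompact snd := MorphismProperty.of_isPullback h ‹QuasiCompact f›
  exact isIntegral_of_connected_of_smooth K snd

/-- a geometrically integral morphism is geometrically connected. -/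
theorem geometricallyConnected_of_geometricallyIntegral {X Y : Scheme.{u}} (f : X ⟶ Y)
    [GeometricallyIntegral f] : GeometricallyConnected f := by
  refine ⟨fun K _ y Z fst snd h => ?_⟩
  haveI : IsIntegral Z := GeometricallyIntegral.geometrically_isIntegral (f := f) y fst snd h
  infer_instance

theorem main (k : Type u) [Field k]
    (X : Scheme.{u}) [X.Over (Spec (CommRingCat.of k))] [IsProper (X ↘ Spec (CommRingCat.of k))]
    [Smooth (X ↘ Spec (CommRingCat.of k))] :
    (Module.finrank k (Coh.HH X (Coh.structureModule X) 0) = 1 ↔
        GeometricallyConnected (X ↘ Spec (CommRingCat.of k))) ∧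
      (GeometricallyConnected (X ↘ Spec (CommRingCat.of k)) ↔
        GeometricallyIntegral (X ↘ Spec (CommRingCat.of k))) := by
  refine ⟨⟨geometricallyConnected_of_finrank_eq_one k X, fun h => ?_⟩,
    ⟨fun h => geometricallyIntegral_of_geometricallyConnected k _,
      fun h => geometricallyConnected_of_geometricallyIntegral _⟩⟩
  haveI := geometricallyReduced_of_smooth k (X ↘ Spec (CommRingCat.of k))
  exact Groth.Agent.Lib.Helper38.H0Const.main k X

end Groth.Agent.Lib.Helper64.CurveGeom
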