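/-
Helper library (helper64): sheaves on the basis of affine opens of a scheme.
A presheaf of sets on the poset of affine opens is the restriction of a sheaf iff
it sends the empty open to a singleton and satisfies gluing for standard binary covers
`U = D(f) ∪ D(g)`.
-/
import Mathlib

set_option autoImplicit false
universe u

open AlgebraicGeometry CategoryTheory TopologicalSpace Opposite

namespace Groth.Agent.Lib.Helper64.AffBasis

variable (X : Scheme.{u})

/-- inclusion functor of affine opens into opens -/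
abbrev incl : X.affineOpens ⥤ X.Opens :=
  Monotone.functor (f := fun U : X.affineOpens => (U : X.Opens)) (fun _ _ h => h)

instance : (incl X).Faithful where

instance : (incl X).Full where
  map_surjective {U V} f := ⟨homOfLE (show U ≤ V from f.le), Subsingleton.elim _ _⟩

instance : (incl X).IsCoverDense (Opens.grothendieckTopology X) := by
  rw [TopCat.Opens.coverDense_iff_isBasis]
  have h : Set.range (incl X).obj = X.affineOpens := by
    ext U
    constructor
    · rintro ⟨V, rfl⟩
      exact V.2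
    · intro hU
      exact ⟨⟨U, hU⟩, rfl⟩
  rw [h]
  exact X.isBasis_affineOpens

/-- induced topology on affine opens -/
noncomputable abbrev J : GrothendieckTopology X.affineOpens :=
  (incl X).inducedTopology (Opens.grothendieckTopology X)

lemma mem_J {U : X.affineOpens} {S : Sieve U} :
    S ∈ J X U ↔ ∀ x ∈ (U : X.Opens), ∃ (V : X.affineOpens) (f : V ⟶ U), S.arrows f ∧ x ∈ (V : X.Opens) := by
  rw [J, Functor.mem_inducedTopology_iff_of_isCoverDense]
  apply forall₂_congr fun x hxU ↦ ⟨?_, ?_⟩
  · rintro ⟨V, f, ⟨W, g, h, hg, rfl⟩, hxV⟩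
    exact ⟨W, g, hg, h.le hxV⟩
  · rintro ⟨W, g, hg, hxW⟩
    exact ⟨(W : X.Opens), (incl X).map g, ⟨W, g, 𝟙 _, hg, by simp⟩, hxW⟩

variable {X}

/-- basic open as an affine open -/
def bo (U : X.affineOpens) (f : Γ(X, (U : X.Opens))) : X.affineOpens :=
  ⟨X.basicOpen f, U.2.basicOpen f⟩

lemma bo_le (U : X.affineOpens) (f : Γ(X, (U : X.Opens))) : bo U f ≤ U :=
  X.basicOpen_le f

@[simp] lemma bo_coe (U : X.affineOpens) (f : Γ(X, (U : X.Opens))) :
    ((bo U f : X.affineOpens) : X.Opens) = X.basicOpen f := rfl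

/-- restriction of a section to a smaller affine open -/
def res {U V : X.affineOpens} (h : V ≤ U) : Γ(X, (U : X.Opens)) →+* Γ(X, (V : X.Opens)) :=
  (X.presheaf.map (homOfLE (show (V : X.Opens) ≤ U from h)).op).hom

lemma bo_res {U V : X.affineOpens} (h : V ≤ U) (f : Γ(X, (U : X.Opens))) :
    ((bo V (res h f) : X.affineOpens) : X.Opens) = (V : X.Opens) ⊓ X.basicOpen f := by
  simp only [bo_coe, res]
  exact X.basicOpen_res f _

/-- the sieve generated by two basic opens -/
def binS (U : X.affineOpens) (f g : Γ(X, (U : X.Opens))) : Sieve U where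
  arrows W _ := W ≤ bo U f ∨ W ≤ bo U g
  downward_closed := by
    intro Y Z h hh k
    rcases hh with hh | hh
    · exact Or.inl (k.le.trans hh)
    · exact Or.inr (k.le.trans hh)

lemma binS_pullback (U : X.affineOpens) (f g : Γ(X, (U : X.Opens))) {V : X.affineOpens}
    (h : V ⟶ U) : (binS U f g).pullback h = binS V (res h.le f) (res h.le g) := by
  ext W k
  have hk : W ≤ V := k.le
  have e1 : W ≤ bo V (res h.le f) ↔ W ≤ bo U f := by
    change (W : X.Opens) ≤ _ ↔ (W : X.Opens) ≤ _
    rw [bo_res, bo_coe, le_inf_iff]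
    exact ⟨fun hh => hh.2, fun hh => ⟨hk, hh⟩⟩
  have e2 : W ≤ bo V (res h.le g) ↔ W ≤ bo U g := by
    change (W : X.Opens) ≤ _ ↔ (W : X.Opens) ≤ _
    rw [bo_res, bo_coe, le_inf_iff]
    exact ⟨fun hh => hh.2, fun hh => ⟨hk, hh⟩⟩
  change (W ≤ bo U f ∨ W ≤ bo U g) ↔ (W ≤ bo V (res h.le f) ∨ W ≤ bo V (res h.le g))
  rw [e1, e2]

variable (F : (X.affineOpens)ᵒᵖ ⥤ Type u)

/-- condition (b) -/
def CondB : Prop := ∀ (U V W VW : X.affineOpens) (f g : Γ(X, (U : X.Opens))),
    (V : X.Opens) = X.basicOpen f → (W : X.Opens) = X.basicOpen g →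
    (VW : X.Opens) = X.basicOpen (f * g) → (U : X.Opens) = (V : X.Opens) ⊔ (W : X.Opens) →
    ∀ (hV : V ≤ U) (hW : W ≤ U) (h1 : VW ≤ V) (h2 : VW ≤ W),
    Function.Injective (fun s : F.obj (op U) => (F.map (homOfLE hV).op s, F.map (homOfLE hW).op s)) ∧
    Set.range (fun s : F.obj (op U) => (F.map (homOfLE hV).op s, F.map (homOfLE hW).op s)) =
      {p | F.map (homOfLE h1).op p.1 = F.map (homOfLE h2).op p.2}

variable {F}

lemma isSheafFor_binS (hb : CondB F) (U : X.affineOpens) (f g : Γ(X, (U : X.Opens)))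
    (hU : (U : X.Opens) = X.basicOpen f ⊔ X.basicOpen g) :
    Presieve.IsSheafFor F (binS U f g).arrows := by
  have h1 : bo U (f * g) ≤ bo U f := by
    change X.basicOpen (f * g) ≤ X.basicOpen f
    rw [X.basicOpen_mul]; exact inf_le_left
  have h2 : bo U (f * g) ≤ bo U g := by
    change X.basicOpen (f * g) ≤ X.basicOpen g
    rw [X.basicOpen_mul]; exact inf_le_right
  obtain ⟨hinj, hrange⟩ := hb U (bo U f) (bo U g) (bo U (f * g)) f g rfl rfl rfl hU
    (bo_le U f) (bo_le U g) h1 h2
  intro x hx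
  have hmem : (x (homOfLE (bo_le U f)) (Or.inl le_rfl), x (homOfLE (bo_le U g)) (Or.inr le_rfl)) ∈
      {p : F.obj (op (bo U f)) × F.obj (op (bo U g)) |
        F.map (homOfLE h1).op p.1 = F.map (homOfLE h2).op p.2} := by
    exact hx (homOfLE h1) (homOfLE h2) (f₁ := homOfLE (bo_le U f)) (f₂ := homOfLE (bo_le U g)) (Or.inl le_rfl) (Or.inr le_rfl) (Subsingleton.elim _ _)
  rw [← hrange] at hmem
  obtain ⟨t, ht⟩ := hmem
  have ht1 : F.map (homOfLE (bo_le U f)).op t = x (homOfLE (bo_le U f)) (Or.inl le_rfl) :=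
    congrArg Prod.fst ht
  have ht2 : F.map (homOfLE (bo_le U g)).op t = x (homOfLE (bo_le U g)) (Or.inr le_rfl) :=
    congrArg Prod.snd ht
  refine ⟨t, ?_, ?_⟩
  · intro W k hk
    rcases hk with hk' | hk'
    · have := hx (homOfLE hk') (𝟙 W) (f₁ := homOfLE (bo_le U f)) (f₂ := k) (Or.inl le_rfl) (Or.inl hk') (Subsingleton.elim _ _)
      simp only [op_id, Functor.map_id_apply] at this
      rw [← this, ← ht1, ← Functor.map_comp_apply]
      rfl
    · have := hx (homOfLE hk') (𝟙 W) (f₁ := homOfLE (bo_le U g)) (f₂ := k) (Or.inr le_rfl) (Or.inr hk') (Subsingleton.elim _ _)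
      simp only [op_id, Functor.map_id_apply] at this
      rw [← this, ← ht2, ← Functor.map_comp_apply]
      rfl
  · intro t' ht'
    apply hinj
    have e1 := ht' (homOfLE (bo_le U f)) (Or.inl le_rfl)
    have e2 := ht' (homOfLE (bo_le U g)) (Or.inr le_rfl)
    exact Prod.ext (e1.trans ht1.symm) (e2.trans ht2.symm)


/-- the finest topology for which `F` is a sheaf -/
abbrev J' (F : (X.affineOpens)ᵒᵖ ⥤ Type u) : GrothendieckTopology X.affineOpens :=
  Sheaf.finestTopologySingle F

lemma binS_mem (hb : CondB F) (U : X.affineOpens) (f g : Γ(X, (U : X.Opens)))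
    (hU : (U : X.Opens) = X.basicOpen f ⊔ X.basicOpen g) :
    binS U f g ∈ J' F U := by
  intro V h
  rw [binS_pullback]
  apply isSheafFor_binS hb
  have hVU : (V : X.Opens) ≤ U := h.le
  have e1 : X.basicOpen (res h.le f) = (V : X.Opens) ⊓ X.basicOpen f := bo_res h.le f
  have e2 : X.basicOpen (res h.le g) = (V : X.Opens) ⊓ X.basicOpen g := bo_res h.le g
  rw [e1, e2, ← inf_sup_left, ← hU]
  exact (inf_eq_left.mpr hVU).symm

lemma mem_of_eq_bot (E : X.affineOpens) (hE : (E : X.Opens) = ⊥)
    (ha : Nonempty (F.obj (op E)) ∧ Subsingleton (F.obj (op E)))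
    (U : X.affineOpens) (hU : (U : X.Opens) = ⊥) (S : Sieve U) : S ∈ J' F U := by
  intro V h
  have hV : V = E := by
    apply Subtype.ext
    rw [hE]
    have : (V : X.Opens) ≤ U := h.le
    rw [hU] at this
    exact le_bot_iff.mp this
  subst hV
  obtain ⟨⟨t⟩, hsub⟩ := ha
  intro x _
  refine ⟨t, ?_, fun _ _ => Subsingleton.elim _ _⟩
  intro W k _
  have hW : W = V := by
    apply Subtype.ext
    rw [hE]
    have : (W : X.Opens) ≤ V := k.le
    rw [hE] at this
    exact le_bot_iff.mp this
  subst hW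
  exact Subsingleton.elim _ _


lemma eq_bot_of_subsingleton (U : X.affineOpens) (h : (1 : Γ(X, (U : X.Opens))) = 0) :
    (U : X.Opens) = ⊥ := by
  have h1 : X.basicOpen (1 : Γ(X, (U : X.Opens))) = U := X.basicOpen_of_isUnit isUnit_one
  rw [← h1, h]
  exact X.basicOpen_zero _

lemma cover_of_add_eq_one (U : X.affineOpens) (a f g : Γ(X, (U : X.Opens))) (h : a * f + g = 1) :
    (U : X.Opens) = X.basicOpen f ⊔ X.basicOpen g := by
  have hspan : Ideal.span ({f, g} : Set Γ(X, (U : X.Opens))) = ⊤ := by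
    rw [Ideal.eq_top_iff_one, ← h]
    apply Ideal.add_mem
    · exact Ideal.mul_mem_left _ _ (Ideal.subset_span (by simp))
    · exact Ideal.subset_span (by simp)
  have := (IsAffineOpen.iSup_basicOpen_eq_self_iff (U := (U : X.Opens)) U.2 (s := ({f, g} : Set Γ(X, (U : X.Opens))))).mpr hspan
  refine this.symm.trans ?_
  apply le_antisymm
  · apply iSup_le
    rintro ⟨k, hk⟩
    rcases hk with rfl | rfl
    · exact le_sup_left
    · exact le_sup_right
  · apply sup_le
    · exact le_iSup (fun k : ({f, g} : Set Γ(X, (U : X.Opens))) => X.basicOpen k.1) ⟨f, by simp⟩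
    · exact le_iSup (fun k : ({f, g} : Set Γ(X, (U : X.Opens))) => X.basicOpen k.1) ⟨g, by simp⟩

lemma span_mem (hb : CondB F) (E : X.affineOpens) (hE : (E : X.Opens) = ⊥)
    (ha : Nonempty (F.obj (op E)) ∧ Subsingleton (F.obj (op E))) :
    ∀ (n : ℕ) (U : X.affineOpens) (s : Finset Γ(X, (U : X.Opens))), s.card ≤ n →
      Ideal.span (s : Set Γ(X, (U : X.Opens))) = ⊤ →
      ∀ S : Sieve U, (∀ f ∈ s, S.arrows (homOfLE (bo_le U f))) → S ∈ J' F U := by
  classical
  have hempty : ∀ (U : X.affineOpens) (s : Finset Γ(X, (U : X.Opens))), s = ∅ →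
      Ideal.span (s : Set Γ(X, (U : X.Opens))) = ⊤ → ∀ S : Sieve U, S ∈ J' F U := by
    intro U s hs hspan S
    subst hs
    rw [Finset.coe_empty, Ideal.span_empty] at hspan
    have h10 : (1 : Γ(X, (U : X.Opens))) = 0 := by
      have : (1 : Γ(X, (U : X.Opens))) ∈ (⊥ : Ideal Γ(X, (U : X.Opens))) := by
        rw [hspan]; trivial
      simpa using this
    exact mem_of_eq_bot E hE ha U (eq_bot_of_subsingleton U h10) S
  intro n
  induction n with
  | zero =>
    intro U s hs hspan S _
    exact hempty U s (Finset.card_eq_zero.mp (Nat.le_zero.mp hs)) hspan S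
  | succ n ih =>
    intro U s hs hspan S hS
    by_cases hse : s = ∅
    · exact hempty U s hse hspan S
    obtain ⟨f₀, hf₀⟩ := Finset.nonempty_iff_ne_empty.mpr hse
    have hins : insert f₀ (s.erase f₀) = s := Finset.insert_erase hf₀
    have h1 : (1 : Γ(X, (U : X.Opens))) ∈ Ideal.span ((insert f₀ (s.erase f₀) : Finset _) : Set Γ(X, (U : X.Opens))) := by
      rw [hins, hspan]; trivial
    rw [Finset.coe_insert, Ideal.mem_span_insert] at h1
    obtain ⟨a, g, hg, h1g⟩ := h1
    have hcov : (U : X.Opens) = X.basicOpen f₀ ⊔ X.basicOpen g :=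
      cover_of_add_eq_one U a f₀ g h1g.symm
    have hT := binS_mem hb U f₀ g hcov
    refine (J' F).transitive hT S ?_
    intro Y h hh
    rcases hh with hh | hh
    · -- Y ≤ D(f₀)
      have : S.arrows h := by
        have := S.downward_closed (hS f₀ hf₀) (homOfLE hh)
        rwa [Subsingleton.elim h (homOfLE hh ≫ homOfLE (bo_le U f₀))]
      rw [Sieve.pullback_eq_top_of_mem S this]
      exact (J' F).top_mem Y
    · -- Y ≤ D(g)
      have hfac : h = homOfLE hh ≫ homOfLE (bo_le U g) := Subsingleton.elim _ _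
      rw [hfac, Sieve.pullback_comp]
      apply (J' F).pullback_stable
      have hcard : ((s.erase f₀).image (res (bo_le U g))).card ≤ n := by
        refine Finset.card_image_le.trans ?_
        rw [Finset.card_erase_of_mem hf₀]
        omega
      refine ih (bo U g) ((s.erase f₀).image (res (bo_le U g))) hcard ?_ _ ?_
      · -- span = ⊤
        have hunit : IsUnit (res (bo_le U g) g) := by
          exact RingedSpace.isUnit_res_basicOpen _ g
        apply Ideal.eq_top_of_isUnit_mem _ _ hunit
        rw [Finset.coe_image, ← Ideal.map_span]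
        exact Ideal.mem_map_of_mem _ hg
      · intro f' hf'
        rw [Finset.mem_image] at hf'
        obtain ⟨f, hf, rfl⟩ := hf'
        have hfs : f ∈ s := Finset.mem_of_mem_erase hf
        change S.arrows (_ ≫ homOfLE (bo_le U g))
        have hle : bo (bo U g) (res (bo_le U g) f) ≤ bo U f := by
          change ((bo (bo U g) (res (bo_le U g) f) : X.affineOpens) : X.Opens) ≤ _
          rw [bo_res]
          exact inf_le_right
        have := S.downward_closed (hS f hfs) (homOfLE hle)
        rwa [Subsingleton.elim (homOfLE (bo_le (bo U g) (res (bo_le U g) f)) ≫ homOfLE (bo_le U g))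
          (homOfLE hle ≫ homOfLE (bo_le U f))]


lemma J_le (hb : CondB F) (E : X.affineOpens) (hE : (E : X.Opens) = ⊥)
    (ha : Nonempty (F.obj (op E)) ∧ Subsingleton (F.obj (op E))) : J X ≤ J' F := by
  intro U S hS
  rw [mem_J] at hS
  let s : Set Γ(X, (U : X.Opens)) := {f | S.arrows (homOfLE (bo_le U f))}
  have hspan : Ideal.span s = ⊤ := by
    rw [← IsAffineOpen.iSup_basicOpen_eq_self_iff (U := (U : X.Opens)) U.2 (s := s)]
    apply le_antisymm
    · exact iSup_le fun f => X.basicOpen_le _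
    · intro x hx
      obtain ⟨V, k, hk, hxV⟩ := hS x hx
      obtain ⟨f, hfV, hxf⟩ := IsAffineOpen.exists_basicOpen_le (U := (U : X.Opens)) U.2
        (V := (V : X.Opens)) ⟨x, hxV⟩ hx
      have hfs : f ∈ s := by
        have hle : bo U f ≤ V := hfV
        have := S.downward_closed hk (homOfLE hle)
        change S.arrows _
        rwa [Subsingleton.elim (homOfLE (bo_le U f)) (homOfLE hle ≫ k)]
      exact Opens.mem_iSup.mpr ⟨⟨f, hfs⟩, hxf⟩
  obtain ⟨s', hs', hspan'⟩ := (Ideal.span_eq_top_iff_finite s).mp hspan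
  exact span_mem hb E hE ha s'.card U s' le_rfl hspan' S (fun f hf => hs' hf)

lemma isSheaf_J (hb : CondB F) (E : X.affineOpens) (hE : (E : X.Opens) = ⊥)
    (ha : Nonempty (F.obj (op E)) ∧ Subsingleton (F.obj (op E))) : Presieve.IsSheaf (J X) F := by
  intro U S hS
  have := J_le hb E hE ha U hS U (𝟙 U)
  rwa [Sieve.pullback_id] at this

theorem exists_sheaf (hb : CondB F) (E : X.affineOpens) (hE : (E : X.Opens) = ⊥)
    (ha : Nonempty (F.obj (op E)) ∧ Subsingleton (F.obj (op E))) :
    ∃ G : TopCat.Sheaf (Type u) X.carrier, Nonempty ((incl X).op ⋙ G.1 ≅ F) := by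
  let e := (incl X).sheafInducedTopologyEquivOfIsCoverDense (Opens.grothendieckTopology X) (Type u)
  let F' : Sheaf (J X) (Type u) := ⟨F, (isSheaf_iff_isSheaf_of_type _ _).2 (isSheaf_J hb E hE ha)⟩
  refine ⟨e.functor.obj F', ⟨?_⟩⟩
  exact ((sheafToPresheaf _ _).mapIso (e.unitIso.app F')).symm


lemma isSheaf_of_iso (G : TopCat.Sheaf (Type u) X.carrier) (α : (incl X).op ⋙ G.1 ≅ F) :
    Presieve.IsSheaf (J X) F := by
  let e := (incl X).sheafInducedTopologyEquivOfIsCoverDense (Opens.grothendieckTopology X) (Type u)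
  have h1 : Presheaf.IsSheaf (J X) ((incl X).op ⋙ G.1) := (e.inverse.obj G).property
  exact Presieve.isSheaf_iso (J X) α ((isSheaf_iff_isSheaf_of_type _ _).1 h1)

lemma condA_of_isSheaf (hF : Presieve.IsSheaf (J X) F) (E : X.affineOpens) (hE : (E : X.Opens) = ⊥) :
    Nonempty (F.obj (op E)) ∧ Subsingleton (F.obj (op E)) := by
  have hcov : (⊥ : Sieve E) ∈ J X E := by
    rw [mem_J]
    intro x hx
    rw [hE] at hx
    exact absurd hx (by simp)
  have hs := hF ⊥ hcov
  let x : Presieve.FamilyOfElements F (⊥ : Sieve E).arrows := fun Y f hf => False.elim hf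
  have hx : x.Compatible := by
    intro Y₁ Y₂ Z g₁ g₂ f₁ f₂ h₁ h₂ _
    exact False.elim h₁
  obtain ⟨t, _, htu⟩ := hs x hx
  refine ⟨⟨t⟩, ⟨fun a b => ?_⟩⟩
  have ha : x.IsAmalgamation a := fun Y f hf => False.elim hf
  have hb : x.IsAmalgamation b := fun Y f hf => False.elim hf
  rw [htu a ha, htu b hb]

lemma condB_of_isSheaf (hF : Presieve.IsSheaf (J X) F) : CondB F := by
  intro U V W VW f g hVe hWe hVWe hUe hV hW h1 h2
  obtain rfl : V = bo U f := Subtype.ext hVe
  obtain rfl : W = bo U g := Subtype.ext hWe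
  obtain rfl : VW = bo U (f * g) := Subtype.ext hVWe
  have hcov : binS U f g ∈ J X U := by
    rw [mem_J]
    intro x hx
    rw [hUe] at hx
    rcases hx with hx | hx
    · exact ⟨bo U f, homOfLE hV, Or.inl le_rfl, hx⟩
    · exact ⟨bo U g, homOfLE hW, Or.inr le_rfl, hx⟩
  have hs := hF (binS U f g) hcov
  -- key: restrictions of p1, p2 to any Y below both agree
  have key : ∀ (p1 : F.obj (op (bo U f))) (p2 : F.obj (op (bo U g))),
      F.map (homOfLE h1).op p1 = F.map (homOfLE h2).op p2 →
      ∀ (Y : X.affineOpens) (hY1 : Y ≤ bo U f) (hY2 : Y ≤ bo U g),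
        F.map (homOfLE hY1).op p1 = F.map (homOfLE hY2).op p2 := by
    intro p1 p2 h12 Y hY1 hY2
    have hY : Y ≤ bo U (f * g) := by
      change (Y : X.Opens) ≤ X.basicOpen (f * g)
      rw [X.basicOpen_mul]
      exact le_inf hY1 hY2
    have e1 : homOfLE hY1 = homOfLE hY ≫ homOfLE h1 := Subsingleton.elim _ _
    have e2 : homOfLE hY2 = homOfLE hY ≫ homOfLE h2 := Subsingleton.elim _ _
    rw [e1, e2, op_comp, op_comp, Functor.map_comp_apply, Functor.map_comp_apply, h12]
  constructor
  · intro s s' hss'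
    have e1 : F.map (homOfLE hV).op s = F.map (homOfLE hV).op s' := congrArg Prod.fst hss'
    have e2 : F.map (homOfLE hW).op s = F.map (homOfLE hW).op s' := congrArg Prod.snd hss'
    apply hs.isSeparatedFor.ext
    intro Y k hk
    rcases hk with hk | hk
    · have ek : k = homOfLE hk ≫ homOfLE hV := Subsingleton.elim _ _
      rw [ek, op_comp, Functor.map_comp_apply, Functor.map_comp_apply, e1]
    · have ek : k = homOfLE hk ≫ homOfLE hW := Subsingleton.elim _ _
      rw [ek, op_comp, Functor.map_comp_apply, Functor.map_comp_apply, e2]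
  · ext ⟨p1, p2⟩
    constructor
    · rintro ⟨s, hs'⟩
      have e1 : F.map (homOfLE hV).op s = p1 := congrArg Prod.fst hs'
      have e2 : F.map (homOfLE hW).op s = p2 := congrArg Prod.snd hs'
      change F.map (homOfLE h1).op p1 = F.map (homOfLE h2).op p2
      rw [← e1, ← e2, ← Functor.map_comp_apply, ← Functor.map_comp_apply]
      rfl
    · intro h12
      change F.map (homOfLE h1).op p1 = F.map (homOfLE h2).op p2 at h12
      classical
      let x : Presieve.FamilyOfElements F (binS U f g).arrows := fun Y k hk =>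
        if h : Y ≤ bo U f then F.map (homOfLE h).op p1
        else F.map (homOfLE (hk.resolve_left h)).op p2
      have hx : x.Compatible := by
        intro Y₁ Y₂ Z g₁ g₂ f₁ f₂ hf₁ hf₂ _
        have hZ1 : Z ≤ Y₁ := g₁.le
        have hZ2 : Z ≤ Y₂ := g₂.le
        by_cases c1 : Y₁ ≤ bo U f
        · by_cases c2 : Y₂ ≤ bo U f
          · simp only [x, dif_pos c1, dif_pos c2]
            rw [← Functor.map_comp_apply, ← Functor.map_comp_apply]
            rfl
          · simp only [x, dif_pos c1, dif_neg c2]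
            rw [← Functor.map_comp_apply, ← Functor.map_comp_apply]
            exact key p1 p2 h12 Z (hZ1.trans c1) (hZ2.trans (hf₂.resolve_left c2))
        · by_cases c2 : Y₂ ≤ bo U f
          · simp only [x, dif_neg c1, dif_pos c2]
            rw [← Functor.map_comp_apply, ← Functor.map_comp_apply]
            exact (key p1 p2 h12 Z (hZ2.trans c2) (hZ1.trans (hf₁.resolve_left c1))).symm
          · simp only [x, dif_neg c1, dif_neg c2]
            rw [← Functor.map_comp_apply, ← Functor.map_comp_apply]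
            rfl
      obtain ⟨t, ht, _⟩ := hs x hx
      refine ⟨t, ?_⟩
      have e1 : F.map (homOfLE hV).op t = p1 := by
        rw [ht (homOfLE hV) (Or.inl le_rfl)]
        simp only [x, dif_pos (le_refl (bo U f))]
        exact Functor.map_id_apply F _ p1
      have e2 : F.map (homOfLE hW).op t = p2 := by
        rw [ht (homOfLE hW) (Or.inr le_rfl)]
        by_cases c : bo U g ≤ bo U f
        · simp only [x, dif_pos c]
          rw [key p1 p2 h12 (bo U g) c le_rfl]
          exact Functor.map_id_apply F _ p2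
        · simp only [x, dif_neg c]
          exact Functor.map_id_apply F _ p2
      exact Prod.ext e1 e2


theorem main (X : Scheme.{u}) (F : (X.affineOpens)ᵒᵖ ⥤ Type u) (E : X.affineOpens)
    (hE : (E : X.Opens) = ⊥) :
    (∃ G : TopCat.Sheaf (Type u) X.carrier, Nonempty ((incl X).op ⋙ G.1 ≅ F)) ↔
      ((Nonempty (F.obj (op E)) ∧ Subsingleton (F.obj (op E))) ∧ CondB F) := by
  constructor
  · rintro ⟨G, ⟨α⟩⟩
    have hF := isSheaf_of_iso G α
    exact ⟨condA_of_isSheaf hF E hE, condB_of_isSheaf hF⟩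
  · rintro ⟨ha, hb⟩
    exact exists_sheaf hb E hE ha

end Groth.Agent.Lib.Helper64.AffBasis
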