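import Mathlib

/-!
# A finite Galois extension `L/k` and an arbitrary extension `K/k`:
if `K ⊗[k] L` is not a field then a nontrivial subextension of `L/k` embeds into `K`.
-/

set_option autoImplicit false

namespace Groth.Agent.Lib.Helper64.GalDisj

open Polynomial TensorProduct

section
variable {k K L : Type*} [Field k] [Field K] [Field L] [Algebra k K] [Algebra k L]
variable {Ω : Type*} [Field Ω] [Algebra k Ω] [Algebra K Ω] [IsScalarTower k K Ω]

/-- if the minimal polynomial over `K` of the image of a primitive element has full degree, then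
`K ⊗[k] L` is a field. -/
theorem isField_tensor_of_natDegree_eq [FiniteDimensional k L] (σ : L →ₐ[k] Ω) (θ : L)
    (hdeg : (minpoly K (σ θ)).natDegree = Module.finrank k L) : IsField (K ⊗[k] L) := by
  classical
  set n := Module.finrank k L with hn
  let μ : K ⊗[k] L →ₐ[K] Ω :=
    Algebra.TensorProduct.lift (Algebra.ofId K Ω) σ (fun _ _ => Commute.all _ _)
  let v : Fin (minpoly K (σ θ)).natDegree → K ⊗[k] L := fun i => (1 : K) ⊗ₜ[k] (θ ^ (i : ℕ))
  have hμv : ∀ i, μ (v i) = (σ θ) ^ (i : ℕ) := by
    intro i
    simp [μ, v]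
  have hli : LinearIndependent K (μ.toLinearMap ∘ v) := by
    have := linearIndependent_pow (K := K) (σ θ)
    convert this using 1
    funext i
    exact hμv i
  have hv : LinearIndependent K v := hli.of_comp μ.toLinearMap
  have hfr : Module.finrank K (K ⊗[k] L) = n := Module.finrank_baseChange
  have hcard : Fintype.card (Fin (minpoly K (σ θ)).natDegree) = Module.finrank K (K ⊗[k] L) := by
    rw [Fintype.card_fin, hdeg, hfr]
  have hspan : Submodule.span K (Set.range v) = ⊤ :=
    hv.span_eq_top_of_card_eq_finrank' hcard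
  have hinj : Function.Injective μ :=
    LinearMap.injective_of_linearIndependent (f := μ.toLinearMap) hspan hli
  have : IsDomain (K ⊗[k] L) := hinj.isDomain μ.toRingHom
  exact isField_of_isIntegral_of_isField' (R := K) (Field.toIsField K)

/-- The subfield of `L` of elements whose image in `Ω` lies in `K`. -/
noncomputable def interField (σ : L →ₐ[k] Ω) : IntermediateField k L :=
  (IsScalarTower.toAlgHom k K Ω).fieldRange.comap σ

theorem mem_interField (σ : L →ₐ[k] Ω) (x : L) :
    x ∈ interField (K := K) σ ↔ ∃ y : K, algebraMap K Ω y = σ x := by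
  unfold interField
  rw [← IntermediateField.mem_toSubalgebra]
  change σ x ∈ (IsScalarTower.toAlgHom k K Ω).fieldRange ↔ _
  rw [AlgHom.mem_fieldRange]
  rfl

/-- `interField σ` embeds into `K`. -/
theorem nonempty_interField_algHom (σ : L →ₐ[k] Ω) :
    Nonempty (interField (K := K) σ →ₐ[k] K) := by
  let f : K →ₐ[k] Ω := IsScalarTower.toAlgHom k K Ω
  let e : K ≃ₐ[k] f.range := AlgEquiv.ofInjectiveField f
  have hmem : ∀ x : interField (K := K) σ, (σ.comp (interField (K := K) σ).val) x ∈ f.range := by
    intro x
    obtain ⟨y, hy⟩ := (mem_interField σ x.1).mp x.2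
    exact ⟨y, hy⟩
  exact ⟨(e.symm : f.range →ₐ[k] K).comp
    (AlgHom.codRestrict (σ.comp (interField (K := K) σ).val) f.range hmem)⟩

theorem natDegree_minpoly_eq_of_interField_eq_bot [FiniteDimensional k L] [IsGalois k L]
    (σ : L →ₐ[k] Ω) (θ : L) (hθ : (minpoly k θ).natDegree = Module.finrank k L)
    (hF : interField (K := K) σ = ⊥) :
    (minpoly K (σ θ)).natDegree = Module.finrank k L := by
  have hθint : IsIntegral k θ := IsIntegral.of_finite k θ
  have hσθk : IsIntegral k (σ θ) := hθint.map σ
  have hσθ : IsIntegral K (σ θ) := hσθk.tower_top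
  set g := minpoly K (σ θ) with hg
  set m := minpoly k θ with hm
  have hgm : g ∣ m.map (algebraMap k K) := by
    have := minpoly.dvd_map_of_isScalarTower k K (σ θ)
    rwa [minpoly.algHom_eq σ σ.injective θ] at this
  have hgmon : g.Monic := minpoly.monic hσθ
  have hmmon : m.Monic := minpoly.monic hθint
  have hle : g.natDegree ≤ Module.finrank k L := by
    rw [← hθ]
    have := natDegree_le_of_dvd hgm ((hmmon.map _).ne_zero)
    rwa [natDegree_map] at this
  -- `m` splits in `L`
  have hmL : (m.map (algebraMap k L)).Splits := Normal.splits inferInstance θ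
  -- the image of `g` in `Ω` divides the image of `m`
  have hgΩ : g.map (algebraMap K Ω) ∣ (m.map (algebraMap k L)).map σ.toRingHom := by
    have h1 : (m.map (algebraMap k L)).map σ.toRingHom
        = (m.map (algebraMap k K)).map (algebraMap K Ω) := by
      rw [Polynomial.map_map, Polynomial.map_map]
      congr 1
      ext x
      simp [← IsScalarTower.algebraMap_apply]
    rw [h1]
    exact Polynomial.map_dvd _ hgm
  have hmΩsplits : ((m.map (algebraMap k L)).map σ.toRingHom).Splits := hmL.map _
  have hgΩsplits : (g.map (algebraMap K Ω)).Splits :=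
    hmΩsplits.of_dvd ((hmmon.map _).map _).ne_zero hgΩ
  have hroots : ∀ a ∈ (g.map (algebraMap K Ω)).roots, a ∈ σ.toRingHom.range := by
    intro a ha
    rw [mem_roots ((hgmon.map _).ne_zero)] at ha
    have ha' : ((m.map (algebraMap k L)).map σ.toRingHom).IsRoot a := by
      obtain ⟨q, hq⟩ := hgΩ
      rw [IsRoot.def, hq, eval_mul, ha, zero_mul]
    exact hmL.mem_range_of_isRoot (hmmon.map _).ne_zero ha'
  have hlift : g.map (algebraMap K Ω) ∈ Polynomial.lifts σ.toRingHom :=
    hgΩsplits.mem_lift_of_roots_mem_range (hgmon.map _) σ.toRingHom hroots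
  obtain ⟨q, hq, hqdeg, hqmon⟩ := lifts_and_natDegree_eq_and_monic hlift (hgmon.map _)
  -- coefficients of `q` lie in `k`
  have hqk : q ∈ Polynomial.lifts (algebraMap k L) := by
    rw [lifts_iff_coeff_lifts]
    intro i
    have hmem : q.coeff i ∈ interField (K := K) σ := by
      rw [mem_interField]
      refine ⟨g.coeff i, ?_⟩
      have := congrArg (fun p => p.coeff i) hq
      simp only [coeff_map] at this
      exact this.symm
    rw [hF] at hmem
    obtain ⟨y, hy⟩ := IntermediateField.mem_bot.mp hmem
    exact ⟨y, hy⟩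
  obtain ⟨q₀, hq₀, hq₀deg, hq₀mon⟩ := lifts_and_natDegree_eq_and_monic hqk hqmon
  have hq₀root : aeval θ q₀ = 0 := by
    have h2 : (q₀.map (algebraMap k L)).map σ.toRingHom = g.map (algebraMap K Ω) := by
      rw [hq₀, hq]
    have h3 : aeval (σ θ) q₀ = eval (σ θ) ((q₀.map (algebraMap k L)).map σ.toRingHom) := by
      rw [Polynomial.map_map, aeval_def, eval_map]
      congr 1
      ext x
      simp
    have h5 : σ (aeval θ q₀) = 0 := by
      rw [← aeval_algHom_apply, h3, h2, eval_map_algebraMap, hg, minpoly.aeval]
    exact (map_eq_zero_iff σ σ.injective).mp h5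
  have hdvd : m ∣ q₀ := minpoly.dvd k θ hq₀root
  have h4 := natDegree_le_of_dvd hdvd hq₀mon.ne_zero
  rw [hθ, hq₀deg, hqdeg, natDegree_map] at h4
  exact le_antisymm hle h4

/-- Main lemma: if `L/k` is finite Galois and `K ⊗[k] L` is not a field, then a nontrivial
subextension of `L/k` embeds in `K`. -/
theorem exists_intermediateField_of_not_isField (k K L : Type*) [Field k] [Field K] [Field L]
    [Algebra k K] [Algebra k L] [FiniteDimensional k L] [IsGalois k L]
    (h : ¬ IsField (K ⊗[k] L)) :
    ∃ F : IntermediateField k L, F ≠ ⊥ ∧ Nonempty (F →ₐ[k] K) := by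
  let σ : L →ₐ[k] AlgebraicClosure K := IsAlgClosed.lift
  refine ⟨interField (K := K) σ, ?_, nonempty_interField_algHom σ⟩
  intro hF
  obtain ⟨θ, hθ⟩ := Field.exists_primitive_element k L
  have hθdeg := (Field.primitive_element_iff_minpoly_natDegree_eq k θ).mp hθ
  exact h (isField_tensor_of_natDegree_eq σ θ
    (natDegree_minpoly_eq_of_interField_eq_bot σ θ hθdeg hF))

end

end Groth.Agent.Lib.Helper64.GalDisj
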