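import Mathlib
import Groth.Agent.Lib.Helper64.GalDisj

/-!
# Tensoring a field extension `K/k`, in which `k` is algebraically closed, with finite extensions
(helper64)

If `k` is algebraically closed in `K` and `K ⊗[k] N` is reduced for all finite extensions `N/k`,
then `K ⊗[k] E` is a field for every finite extension `E/k`.
-/

set_option autoImplicit false
set_option linter.style.haveILetI false
universe u

namespace Groth.Agent.Lib.Helper64.AlgClosedTensor

open TensorProduct IntermediateField

section
variable {k K : Type*} [Field k] [Field K] [Algebra k K]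

/-- the Galois case: no reducedness is needed. -/
theorem isField_tensor_of_isGalois
    (hcl : ∀ x : K, IsIntegral k x → x ∈ (algebraMap k K).range)
    (N : Type*) [Field N] [Algebra k N] [FiniteDimensional k N] [IsGalois k N] :
    IsField (K ⊗[k] N) := by
  by_contra h
  obtain ⟨F, hF, ⟨τ⟩⟩ := GalDisj.exists_intermediateField_of_not_isField k K N h
  apply hF
  rw [eq_bot_iff]
  intro x hx
  have hxint : IsIntegral k (⟨x, hx⟩ : F) := IsIntegral.of_finite k _
  have h1 : IsIntegral k (τ ⟨x, hx⟩) := hxint.map τ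
  obtain ⟨c, hc⟩ := hcl _ h1
  have h2 : τ (algebraMap k F c) = τ ⟨x, hx⟩ := by rw [τ.commutes, hc]
  have h3 : algebraMap k F c = ⟨x, hx⟩ := τ.injective h2
  rw [IntermediateField.mem_bot]
  exact ⟨c, congrArg Subtype.val h3⟩

/-- a reduced ring all of whose elements have a `q`-power in the image of a field is a field. -/
theorem isField_of_forall_pow_mem_range {R K' : Type*} [CommRing R] [Nontrivial R] [IsReduced R]
    [Field K'] (g : K' →+* R) (q : ℕ) (hq : q ≠ 0)
    (h : ∀ x : R, ∃ m : ℕ, x ^ q ^ m ∈ g.range) : IsField R := by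
  refine ⟨exists_pair_ne R, mul_comm, fun {x} hx => ?_⟩
  obtain ⟨m, u, hu⟩ := h x
  have hqm : q ^ m ≠ 0 := pow_ne_zero _ hq
  have hxq : x ^ q ^ m ≠ 0 := pow_ne_zero _ hx
  have hu0 : u ≠ 0 := by
    rintro rfl
    rw [map_zero] at hu
    exact hxq hu.symm
  have hunit : IsUnit (x ^ q ^ m) := by
    rw [← hu]
    exact (IsUnit.mk0 u hu0).map g
  have := (isUnit_pow_iff hqm).mp hunit
  obtain ⟨v, hv⟩ := this.exists_right_inv
  exact ⟨v, hv⟩

end

section
variable {k K N : Type*} [Field k] [Field K] [Algebra k K] [Field N] [Algebra k N]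

/-- if `N/N₀` is purely inseparable then every element of `K ⊗[k] N` has a `q`-power in the
image of `K ⊗[k] N₀`. -/
theorem forall_pow_mem_range_map (N₀ : IntermediateField k N) [IsPurelyInseparable N₀ N]
    (q : ℕ) [ExpChar k q] (x : K ⊗[k] N) :
    ∃ m : ℕ, x ^ q ^ m ∈
      (Algebra.TensorProduct.map (AlgHom.id K K) N₀.val : K ⊗[k] N₀ →ₐ[K] K ⊗[k] N).range := by
  have hinj : Function.Injective (algebraMap k (K ⊗[k] N)) := (algebraMap k (K ⊗[k] N)).injective
  haveI : ExpChar (K ⊗[k] N) q := expChar_of_injective_algebraMap hinj q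
  haveI : ExpChar N₀ q := expChar_of_injective_algebraMap (algebraMap k N₀).injective q
  set g : K ⊗[k] N₀ →ₐ[K] K ⊗[k] N := Algebra.TensorProduct.map (AlgHom.id K K) N₀.val with hg
  induction x using TensorProduct.induction_on with
  | zero =>
    refine ⟨0, ?_⟩
    simp
  | tmul a b =>
    obtain ⟨m, c, hc⟩ := IsPurelyInseparable.pow_mem N₀ q b
    refine ⟨m, ?_⟩
    rw [AlgHom.mem_range]
    refine ⟨(a ^ q ^ m) ⊗ₜ[k] c, ?_⟩
    rw [hg, Algebra.TensorProduct.map_tmul, Algebra.TensorProduct.tmul_pow]
    congr 1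
  | add x y hx hy =>
    obtain ⟨m₁, hx⟩ := hx
    obtain ⟨m₂, hy⟩ := hy
    refine ⟨m₁ + m₂, ?_⟩
    rw [add_pow_expChar_pow]
    refine add_mem ?_ ?_
    · rw [pow_add, pow_mul]
      exact pow_mem hx _
    · rw [add_comm m₁ m₂, pow_add, pow_mul]
      exact pow_mem hy _

end

/-- If `k` is algebraically closed in `K` and `K ⊗[k] N` is reduced for all finite extensions
`N/k`, then `K ⊗[k] E` is a field for every finite extension `E/k`. -/
theorem isField_tensor (k K E : Type u) [Field k] [Field K] [Field E] [Algebra k K] [Algebra k E]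
    [FiniteDimensional k E]
    (hcl : ∀ x : K, IsIntegral k x → x ∈ (algebraMap k K).range)
    (hred : ∀ (N : Type u) [Field N] [Algebra k N] [FiniteDimensional k N], IsReduced (K ⊗[k] N)) :
    IsField (K ⊗[k] E) := by
  let Ω := AlgebraicClosure E
  haveI : Algebra.IsAlgebraic k E := Algebra.IsAlgebraic.of_finite k E
  haveI : Normal k Ω := IsAlgClosure.normal k Ω
  let N := normalClosure k E Ω
  let Ns : IntermediateField k N := separableClosure k N
  haveI : FiniteDimensional k N := inferInstance
  haveI : Normal k N := inferInstance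
  haveI : IsGalois k Ns := inferInstance
  haveI : IsPurelyInseparable Ns N := inferInstance
  have h1 : IsField (K ⊗[k] Ns) := isField_tensor_of_isGalois hcl Ns
  letI : Field (K ⊗[k] Ns) := @IsField.toField (K ⊗[k] Ns) inferInstance h1
  haveI : IsReduced (K ⊗[k] N) := hred N
  let q := ringExpChar k
  haveI : ExpChar k q := inferInstance
  have hq : q ≠ 0 := (expChar_pos k q).ne'
  have h2 : IsField (K ⊗[k] N) :=
    isField_of_forall_pow_mem_range
      (Algebra.TensorProduct.map (AlgHom.id K K) Ns.val : K ⊗[k] Ns →ₐ[K] K ⊗[k] N).toRingHom q hq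
      (fun x => forall_pow_mem_range_map Ns q x)
  -- `K ⊗ E` embeds in `K ⊗ N`
  let ι : E →ₐ[k] N := IsScalarTower.toAlgHom k E N
  have hι : Function.Injective ι := ι.injective
  let j : K ⊗[k] E →ₐ[K] K ⊗[k] N := Algebra.TensorProduct.map (AlgHom.id K K) ι
  have hj : Function.Injective j := by
    have : Function.Injective (ι.toLinearMap.lTensor K) :=
      Module.Flat.lTensor_preserves_injective_linearMap _ hι
    intro x y hxy
    apply this
    exact hxy
  letI : Field (K ⊗[k] N) := @IsField.toField (K ⊗[k] N) inferInstance h2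
  haveI : IsDomain (K ⊗[k] E) := hj.isDomain j.toRingHom
  exact isField_of_isIntegral_of_isField' (R := K) (Field.toIsField K)

end Groth.Agent.Lib.Helper64.AlgClosedTensor
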