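import Groth.Agent.Lib.Helper64.Shrink
import Mathlib

set_option autoImplicit false
universe u
open scoped TensorProduct
open PrimeSpectrum

namespace Groth.Agent.Lib.Helper64.Shrink

section primes

variable {A A' : Type*} [CommRing A] [CommRing A'] [Algebra A A'] (t : A) [IsLocalization.Away t A']

include t in
lemma away_disjoint (P : Ideal A) [P.IsPrime] (ht : t ∉ P) :
    Disjoint (Submonoid.powers t : Set A) (P : Set A) := by
  rw [Set.disjoint_left]
  rintro _ ⟨n, rfl⟩ hn
  exact ht (‹P.IsPrime›.mem_of_pow_mem n hn)

include t in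
lemma away_prime (P : Ideal A) [P.IsPrime] (ht : t ∉ P) :
    (P.map (algebraMap A A')).IsPrime :=
  IsLocalization.isPrime_of_isPrime_disjoint (Submonoid.powers t) A' _ ‹_› (away_disjoint t P ht)

include t in
lemma away_comap_map (P : Ideal A) [P.IsPrime] (ht : t ∉ P) :
    (P.map (algebraMap A A')).comap (algebraMap A A') = P :=
  IsLocalization.under_map_of_isPrime_disjoint (Submonoid.powers t) A' ‹_› (away_disjoint t P ht)

include t in
lemma away_eq_of_comap_eq (I J : Ideal A')
    (h : I.comap (algebraMap A A') = J.comap (algebraMap A A')) : I = J := by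
  rw [← IsLocalization.map_under (Submonoid.powers t) A' I,
    ← IsLocalization.map_under (Submonoid.powers t) A' J]
  exact congrArg (Ideal.map (algebraMap A A')) h

variable {B B' : Type*} [CommRing B] [CommRing B'] [Algebra B B'] [Algebra A B] [Algebra A' B']
  [Algebra A B'] [IsScalarTower A A' B'] [IsScalarTower A B B'] (s : B) [IsLocalization.Away s B']

include t s in
lemma liesOver_map (P : Ideal A) [P.IsPrime] (Q : Ideal B) [Q.IsPrime] [hQP : Q.LiesOver P]
    (ht : t ∉ P) (hs : s ∉ Q) :
    (Q.map (algebraMap B B')).LiesOver (P.map (algebraMap A A')) := by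
  constructor
  apply away_eq_of_comap_eq t
  rw [away_comap_map t P ht, Ideal.under, Ideal.comap_comap, ← IsScalarTower.algebraMap_eq A A' B',
    IsScalarTower.algebraMap_eq A B B', ← Ideal.comap_comap, away_comap_map s Q hs]
  exact hQP.over

end primes

section abstractShrink

open Groth.Agent.S12239

theorem shrink_abstract
    (R S : Type u) [CommRing R] [CommRing S] [Algebra R S]
    (N : Type u) [AddCommGroup N] [Module S N] [Module R N] [IsScalarTower R S N] [Module.Finite S N]
    (p : Ideal R) [p.IsPrime] (q : Ideal S) [q.IsPrime] [q.LiesOver p]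
    (C D G : Type u) [CommRing C] [CommRing D] [Algebra S C] [Algebra R C] [IsScalarTower R S C]
    [Algebra R D] [Algebra D C] [IsScalarTower R D C] [AddCommGroup G] [Module C G] [Module S G]
    [IsScalarTower S C G] (n : ℕ)
    (h : FlatCA.IsOneStepDevissage R S N p C D G n)
    (z : Ideal C) [z.IsPrime] (y : Ideal D) [y.IsPrime] [z.LiesOver q] [z.LiesOver y] [y.LiesOver p]
    (h1 : ∃ (ξ : PrimeSpectrum (p.Fiber S)) (hξ : ξ ∈ Module.support (p.Fiber S) (FlatCA.fiberMod p S N)),
      ξ.asIdeal = FlatCA.fiberIdeal p q ∧
      FlatMor.localDim (Module.support (p.Fiber S) (FlatCA.fiberMod p S N)) ⟨ξ, hξ⟩ = n)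
    (h3 : ∀ (z₁ : Ideal C) [z₁.IsPrime], z₁.LiesOver y → z₁ = z)
    (h4 : FlatCA.PurelyTranscendental p y)
    (g : R) (hX : S) (hY : D) (hg : g ∉ p) (hYy : hY ∉ y)
    (hXY : algebraMap S C hX = algebraMap D C hY)
    (hsurj : ∀ P : PrimeSpectrum R, g ∉ P.asIdeal →
      ∃ Q : PrimeSpectrum D, hY ∉ Q.asIdeal ∧ Q.asIdeal.comap (algebraMap R D) = P.asIdeal)
    (R' S' C' D' : Type u) [CommRing R'] [CommRing S'] [CommRing C'] [CommRing D']
    [Algebra R R'] [IsLocalization.Away g R']
    [Algebra S S'] [IsLocalization.Away hX S']
    [Algebra C C'] [IsLocalization.Away (algebraMap S C hX) C']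
    [Algebra D D'] [IsLocalization.Away hY D']
    [Algebra R S'] [IsScalarTower R S S'] [Algebra R D'] [IsScalarTower R D D']
    [Algebra S C'] [IsScalarTower S C C'] [Algebra D C'] [IsScalarTower D C C']
    [Algebra R' S'] [IsScalarTower R R' S'] [Algebra R' C'] [Algebra R' D'] [IsScalarTower R R' D']
    [Algebra S' C'] [IsScalarTower S S' C'] [IsScalarTower R' S' C']
    [Algebra D' C'] [IsScalarTower D D' C'] [IsScalarTower R' D' C']
    (N' : Type u) [AddCommGroup N'] [Module S N'] [Module S' N'] [IsScalarTower S S' N']
    (fN : N →ₗ[S] N') [IsLocalizedModule (Submonoid.powers hX) fN]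
    [Module R' N'] [IsScalarTower R' S' N']
    (G' : Type u) [AddCommGroup G'] [Module C G'] [Module C' G'] [IsScalarTower C C' G']
    (fG : G →ₗ[C] G') [IsLocalizedModule (Submonoid.powers (algebraMap S C hX)) fG]
    [Module S G'] [IsScalarTower S C G'] [Module S' G'] [IsScalarTower S' C' G'] :
    hX ∉ q ∧ algebraMap S C hX ∉ z ∧
    ∃ (_ : (Ideal.map (algebraMap R R') p).IsPrime) (_ : (Ideal.map (algebraMap D D') y).IsPrime)
      (_ : (Ideal.map (algebraMap D D') y).LiesOver (Ideal.map (algebraMap R R') p)),
      FlatCA.IsOneStepDevissage R' S' N' (Ideal.map (algebraMap R R') p) C' D' G' n ∧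
      (∃ (ξ : PrimeSpectrum ((Ideal.map (algebraMap R R') p).Fiber S'))
          (hξ : ξ ∈ Module.support ((Ideal.map (algebraMap R R') p).Fiber S')
            (FlatCA.fiberMod (Ideal.map (algebraMap R R') p) S' N')),
        ξ.asIdeal = FlatCA.fiberIdeal (Ideal.map (algebraMap R R') p)
          (Ideal.map (algebraMap S S') q) ∧
        FlatMor.localDim (Module.support ((Ideal.map (algebraMap R R') p).Fiber S')
          (FlatCA.fiberMod (Ideal.map (algebraMap R R') p) S' N')) ⟨ξ, hξ⟩ = n) ∧
      (Ideal.map (algebraMap C C') z).LiesOver (Ideal.map (algebraMap S S') q) ∧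
      (Ideal.map (algebraMap C C') z).LiesOver (Ideal.map (algebraMap D D') y) ∧
      (∀ (z₂ : Ideal C') [z₂.IsPrime], z₂.LiesOver (Ideal.map (algebraMap D D') y) →
        z₂ = Ideal.map (algebraMap C C') z) ∧
      FlatCA.PurelyTranscendental (Ideal.map (algebraMap R R') p)
        (Ideal.map (algebraMap D D') y) := by
  have hzq : z.LiesOver q := inferInstance
  have hzy : z.LiesOver y := inferInstance
  have hyp : y.LiesOver p := inferInstance
  have hqp : q.LiesOver p := inferInstance
  -- the elements avoid the primes
  have hZz : algebraMap S C hX ∉ z := by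
    rw [hXY]
    intro hmem
    apply hYy
    rw [hzy.over]
    exact hmem
  have hXq : hX ∉ q := by
    intro hmem
    apply hZz
    rw [hzq.over] at hmem
    exact hmem
  refine ⟨hXq, hZz, ?_⟩
  -- the localization of `C` seen from `D`
  have hC'D : IsLocalization.Away (algebraMap D C hY) C' := by rw [← hXY]; infer_instance
  have hp' : (Ideal.map (algebraMap R R') p).IsPrime := away_prime g p hg
  have hq' : (Ideal.map (algebraMap S S') q).IsPrime := away_prime hX q hXq
  have hz' : (Ideal.map (algebraMap C C') z).IsPrime := away_prime (algebraMap S C hX) z hZz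
  have hy' : (Ideal.map (algebraMap D D') y).IsPrime := away_prime hY y hYy
  have hy'p' : (Ideal.map (algebraMap D D') y).LiesOver (Ideal.map (algebraMap R R') p) :=
    liesOver_map g hY p y hg hYy
  have hz'q' : (Ideal.map (algebraMap C C') z).LiesOver (Ideal.map (algebraMap S S') q) :=
    liesOver_map hX (algebraMap S C hX) q z hXq hZz
  have hz'y' : (Ideal.map (algebraMap C C') z).LiesOver (Ideal.map (algebraMap D D') y) :=
    liesOver_map hY (algebraMap D C hY) y z hYy (hXY ▸ hZz)
  have hp'p : (Ideal.map (algebraMap R R') p).LiesOver p := ⟨(away_comap_map g p hg).symm⟩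
  have hq'q : (Ideal.map (algebraMap S S') q).LiesOver q := ⟨(away_comap_map hX q hXq).symm⟩
  have hy'y : (Ideal.map (algebraMap D D') y).LiesOver y := ⟨(away_comap_map hY y hYy).symm⟩
  have hκ : Function.Bijective (Ideal.ResidueField.mapₐ p (Ideal.map (algebraMap R R') p)
      (Algebra.ofId R R') hp'p.over) :=
    residueField_map_bijective_of_isLocalization (Submonoid.powers g) p _
  have hψ : Function.Bijective (Ideal.ResidueField.mapₐ y (Ideal.map (algebraMap D D') y)
      (Algebra.ofId D D') hy'y.over) :=
    residueField_map_bijective_of_isLocalization (Submonoid.powers hY) y _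
  obtain ⟨⟨e⟩, hsurjSC, hfp, hfinDC, hfinCG, hsm, hgi, hdim⟩ := h
  -- trivial pushout over the base
  have hPush : Algebra.IsPushout R R' S' S' := by
    have : IsLocalization (Algebra.algebraMapSubmonoid S' (Submonoid.powers g)) S' := by
      apply IsLocalization.of_le_isUnit
      rintro _ ⟨_, ⟨k, rfl⟩, rfl⟩
      change IsUnit (algebraMap R S' (g ^ k))
      rw [IsScalarTower.algebraMap_apply R R' S', map_pow, map_pow]
      exact ((IsLocalization.Away.algebraMap_isUnit g).map _).pow k
    exact (Algebra.isPushout_of_isLocalization (Submonoid.powers g) R' S' S').symm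
  obtain ⟨hdim', hloc'⟩ := fibre_shrink_loc p (Ideal.map (algebraMap R R') p) hX N N' hκ fN q
    (Ideal.map (algebraMap S S') q) hXq n h1 hdim
  -- pushout squares for `C'`
  have hlocCS : IsLocalization (Algebra.algebraMapSubmonoid C (Submonoid.powers hX)) C' := by
    rw [Algebra.algebraMapSubmonoid_powers]; infer_instance
  have hlocCD : IsLocalization (Algebra.algebraMapSubmonoid C (Submonoid.powers hY)) C' := by
    rw [Algebra.algebraMapSubmonoid_powers]; exact hC'D
  have hPS : Algebra.IsPushout S S' C C' :=
    (Algebra.isPushout_of_isLocalization (Submonoid.powers hX) S' C C').symm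
  -- surjectivity on spectra
  have hsurj' : Function.Surjective (PrimeSpectrum.comap (algebraMap R' D')) := by
    intro P'
    have hgP : g ∉ (PrimeSpectrum.comap (algebraMap R R') P').asIdeal := by
      intro hmem
      exact P'.2.ne_top (Ideal.eq_top_of_isUnit_mem _ hmem (IsLocalization.Away.algebraMap_isUnit g))
    obtain ⟨Q, hQ, hQP⟩ := hsurj _ hgP
    have hQ' : (Ideal.map (algebraMap D D') Q.asIdeal).IsPrime := away_prime hY Q.asIdeal hQ
    refine ⟨⟨_, hQ'⟩, ?_⟩
    apply PrimeSpectrum.ext
    apply away_eq_of_comap_eq g
    change Ideal.comap (algebraMap R R') (Ideal.comap (algebraMap R' D')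
      (Ideal.map (algebraMap D D') Q.asIdeal)) = Ideal.comap (algebraMap R R') P'.asIdeal
    rw [Ideal.comap_comap, ← IsScalarTower.algebraMap_eq R R' D',
      IsScalarTower.algebraMap_eq R D D', ← Ideal.comap_comap, away_comap_map hY Q.asIdeal hQ, hQP]
    rfl
  obtain ⟨hsm', hgi'⟩ := smooth_geomIrred_shrink g hY n hsm hgi hsurj'
  refine ⟨hp', hy', hy'p', ⟨?_, ?_, ?_, ?_, ?_, hsm', hgi', hdim'⟩, hloc', hz'q', hz'y', ?_, ?_⟩
  · -- N' ≃ G'
    have hSS'G' : IsScalarTower S S' G' := by
      refine IsScalarTower.of_algebraMap_smul fun s x => ?_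
      rw [← algebraMap_smul C' (algebraMap S S' s) x, ← IsScalarTower.algebraMap_apply S S' C',
        IsScalarTower.algebraMap_apply S C C', algebraMap_smul C' (algebraMap S C s) x,
        algebraMap_smul C s x]
    have hlocG : IsLocalizedModule (Submonoid.powers hX) (fG.restrictScalars S) :=
      IsLocalizedModule.restrictScalars_powers hX fG
    let fG' : N →ₗ[S] G' := (fG.restrictScalars S) ∘ₗ e.toLinearMap
    have hlocG' : IsLocalizedModule (Submonoid.powers hX) fG' :=
      IsLocalizedModule.of_linearEquiv_right _ _ e
    let e' : N' ≃ₗ[S] G' := IsLocalizedModule.linearEquiv (Submonoid.powers hX) fN fG'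
    exact ⟨e'.extendScalarsOfIsLocalization (Submonoid.powers hX) S'⟩
  · exact Groth.Agent.S12231.surjective_of_isPushout S S' C C' hsurjSC
  · have : Algebra.IsPushout S C S' C' := hPS.symm
    exact Algebra.FinitePresentation.equiv (Algebra.IsPushout.equiv S S' C C')
  · exact Module.Finite.of_isLocalization D C (Submonoid.powers hY)
  · exact Module.Finite.of_isLocalizedModule (Submonoid.powers (algebraMap S C hX)) fG
  · -- uniqueness
    intro z₂ _ hz₂
    apply away_eq_of_comap_eq (algebraMap S C hX)
    rw [away_comap_map (algebraMap S C hX) z hZz]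
    have hprime : (z₂.comap (algebraMap C C')).IsPrime := Ideal.comap_isPrime _ _
    refine h3 _ ⟨?_⟩
    change y = Ideal.comap (algebraMap D C) (Ideal.comap (algebraMap C C') z₂)
    rw [Ideal.comap_comap, ← IsScalarTower.algebraMap_eq D C C',
      IsScalarTower.algebraMap_eq D D' C', ← Ideal.comap_comap]
    exact hy'y.over.trans (congrArg _ hz₂.over)
  · exact purelyTranscendental_of_surjective p _ hκ y _ hψ.2 h4

end abstractShrink

section concrete

lemma tower_of_away {A A' B C : Type*} [CommRing A] [CommRing A'] [CommRing B] [CommRing C]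
    [Algebra A A'] (t : A) [IsLocalization.Away t A'] [Algebra A' B] [Algebra B C] [Algebra A' C]
    [Algebra A B] [Algebra A C] [IsScalarTower A A' B] [IsScalarTower A A' C]
    [IsScalarTower A B C] : IsScalarTower A' B C := by
  refine .of_algebraMap_eq' (IsLocalization.ringHom_ext (Submonoid.powers t) ?_)
  ext a
  simp only [RingHom.comp_apply]
  rw [← IsScalarTower.algebraMap_apply A A' C, ← IsScalarTower.algebraMap_apply A A' B,
    ← IsScalarTower.algebraMap_apply A B C]

theorem shrink_concrete
    (R S : Type u) [CommRing R] [CommRing S] [Algebra R S]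
    (N : Type u) [AddCommGroup N] [Module S N] [Module R N] [IsScalarTower R S N] [Module.Finite S N]
    (p : Ideal R) [p.IsPrime] (q : Ideal S) [q.IsPrime] [q.LiesOver p]
    (C D G : Type u) [CommRing C] [CommRing D] [Algebra S C] [Algebra R C] [IsScalarTower R S C]
    [Algebra R D] [Algebra D C] [IsScalarTower R D C] [AddCommGroup G] [Module C G] [Module S G]
    [IsScalarTower S C G] (n : ℕ)
    (h : FlatCA.IsOneStepDevissage R S N p C D G n)
    (z : Ideal C) [z.IsPrime] (y : Ideal D) [y.IsPrime] [z.LiesOver q] [z.LiesOver y] [y.LiesOver p]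
    (h1 : ∃ (ξ : PrimeSpectrum (p.Fiber S)) (hξ : ξ ∈ Module.support (p.Fiber S) (FlatCA.fiberMod p S N)),
      ξ.asIdeal = FlatCA.fiberIdeal p q ∧
      FlatMor.localDim (Module.support (p.Fiber S) (FlatCA.fiberMod p S N)) ⟨ξ, hξ⟩ = n)
    (h3 : ∀ (z₁ : Ideal C) [z₁.IsPrime], z₁.LiesOver y → z₁ = z)
    (h4 : FlatCA.PurelyTranscendental p y)
    (g : R) (hX : S) (hZ : C) (hY : D) (hg : g ∉ p) (hYy : hY ∉ y)
    (hXZ : algebraMap S C hX = hZ) (hYZ : algebraMap D C hY = hZ)
    (hsurj : ∀ P : PrimeSpectrum R, g ∉ P.asIdeal →
      ∃ Q : PrimeSpectrum D, hY ∉ Q.asIdeal ∧ Q.asIdeal.comap (algebraMap R D) = P.asIdeal)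
    (hgX : algebraMap R S g ∣ hX) (hgY : algebraMap R D g ∣ hY) :
    hX ∉ q ∧ hZ ∉ z ∧
      ∃ (_ : Algebra (Localization.Away g) (Localization.Away hX)) (_ : IsScalarTower R (Localization.Away g) (Localization.Away hX))
        (_ : Algebra (Localization.Away g) (Localization.Away hZ)) (_ : IsScalarTower R (Localization.Away g) (Localization.Away hZ))
        (_ : Algebra (Localization.Away g) (Localization.Away hY)) (_ : IsScalarTower R (Localization.Away g) (Localization.Away hY))
        (_ : Algebra (Localization.Away hX) (Localization.Away hZ)) (_ : IsScalarTower S (Localization.Away hX) (Localization.Away hZ))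
        (_ : IsScalarTower (Localization.Away g) (Localization.Away hX) (Localization.Away hZ))
        (_ : Algebra (Localization.Away hY) (Localization.Away hZ)) (_ : IsScalarTower D (Localization.Away hY) (Localization.Away hZ))
        (_ : IsScalarTower (Localization.Away g) (Localization.Away hY) (Localization.Away hZ))
        (_ : Module (Localization.Away g) (LocalizedModule (Submonoid.powers hX) N)) (_ : IsScalarTower (Localization.Away g) (Localization.Away hX) (LocalizedModule (Submonoid.powers hX) N))
        (_ : Module (Localization.Away hX) (LocalizedModule (Submonoid.powers hZ) G)) (_ : IsScalarTower (Localization.Away hX) (Localization.Away hZ) (LocalizedModule (Submonoid.powers hZ) G))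
        (_ : (Ideal.map (algebraMap R (Localization.Away g)) p).IsPrime) (_ : (Ideal.map (algebraMap D (Localization.Away hY)) y).IsPrime) (_ : (Ideal.map (algebraMap D (Localization.Away hY)) y).LiesOver (Ideal.map (algebraMap R (Localization.Away g)) p)),
        FlatCA.IsOneStepDevissage (Localization.Away g) (Localization.Away hX) (LocalizedModule (Submonoid.powers hX) N) (Ideal.map (algebraMap R (Localization.Away g)) p) (Localization.Away hZ) (Localization.Away hY) (LocalizedModule (Submonoid.powers hZ) G) n ∧
        (∃ (ξ : PrimeSpectrum ((Ideal.map (algebraMap R (Localization.Away g)) p).Fiber (Localization.Away hX)))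
            (hξ : ξ ∈ Module.support ((Ideal.map (algebraMap R (Localization.Away g)) p).Fiber (Localization.Away hX)) (FlatCA.fiberMod (Ideal.map (algebraMap R (Localization.Away g)) p) (Localization.Away hX) (LocalizedModule (Submonoid.powers hX) N))),
          ξ.asIdeal = FlatCA.fiberIdeal (Ideal.map (algebraMap R (Localization.Away g)) p) (Ideal.map (algebraMap S (Localization.Away hX)) q) ∧
          FlatMor.localDim (Module.support ((Ideal.map (algebraMap R (Localization.Away g)) p).Fiber (Localization.Away hX)) (FlatCA.fiberMod (Ideal.map (algebraMap R (Localization.Away g)) p) (Localization.Away hX) (LocalizedModule (Submonoid.powers hX) N))) ⟨ξ, hξ⟩ = n) ∧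
        (Ideal.map (algebraMap C (Localization.Away hZ)) z).LiesOver (Ideal.map (algebraMap S (Localization.Away hX)) q) ∧ (Ideal.map (algebraMap C (Localization.Away hZ)) z).LiesOver (Ideal.map (algebraMap D (Localization.Away hY)) y) ∧
        (∀ (z₂ : Ideal (Localization.Away hZ)) [z₂.IsPrime], z₂.LiesOver (Ideal.map (algebraMap D (Localization.Away hY)) y) → z₂ = Ideal.map (algebraMap C (Localization.Away hZ)) z) ∧
        FlatCA.PurelyTranscendental (Ideal.map (algebraMap R (Localization.Away g)) p) (Ideal.map (algebraMap D (Localization.Away hY)) y) := by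
  subst hXZ
  have huS : IsUnit (algebraMap R (Localization.Away hX) g) := by
    rw [IsScalarTower.algebraMap_apply R S (Localization.Away hX)]
    exact isUnit_of_dvd_unit (map_dvd _ hgX) (IsLocalization.Away.algebraMap_isUnit hX)
  have huD : IsUnit (algebraMap R (Localization.Away hY) g) := by
    rw [IsScalarTower.algebraMap_apply R D (Localization.Away hY)]
    exact isUnit_of_dvd_unit (map_dvd _ hgY) (IsLocalization.Away.algebraMap_isUnit hY)
  have huSC : IsUnit (algebraMap S (Localization.Away (algebraMap S C hX)) hX) := by
    rw [IsScalarTower.algebraMap_apply S C (Localization.Away (algebraMap S C hX))]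
    exact IsLocalization.Away.algebraMap_isUnit _
  have huDC : IsUnit (algebraMap D (Localization.Away (algebraMap S C hX)) hY) := by
    rw [IsScalarTower.algebraMap_apply D C (Localization.Away (algebraMap S C hX)), hYZ]
    exact IsLocalization.Away.algebraMap_isUnit _
  have huC : IsUnit (algebraMap R (Localization.Away (algebraMap S C hX)) g) := by
    rw [IsScalarTower.algebraMap_apply R S (Localization.Away (algebraMap S C hX))]
    exact isUnit_of_dvd_unit (map_dvd _ hgX) huSC
  let i1 : Algebra (Localization.Away g) (Localization.Away hX) :=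
    (IsLocalization.Away.lift g huS).toAlgebra
  have i2 : IsScalarTower R (Localization.Away g) (Localization.Away hX) :=
    .of_algebraMap_eq fun r => (IsLocalization.Away.lift_eq g huS r).symm
  let i3 : Algebra (Localization.Away g) (Localization.Away (algebraMap S C hX)) :=
    (IsLocalization.Away.lift g huC).toAlgebra
  have i4 : IsScalarTower R (Localization.Away g) (Localization.Away (algebraMap S C hX)) :=
    .of_algebraMap_eq fun r => (IsLocalization.Away.lift_eq g huC r).symm
  let i5 : Algebra (Localization.Away g) (Localization.Away hY) :=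
    (IsLocalization.Away.lift g huD).toAlgebra
  have i6 : IsScalarTower R (Localization.Away g) (Localization.Away hY) :=
    .of_algebraMap_eq fun r => (IsLocalization.Away.lift_eq g huD r).symm
  let i7 : Algebra (Localization.Away hX) (Localization.Away (algebraMap S C hX)) :=
    (IsLocalization.Away.lift hX huSC).toAlgebra
  have i8 : IsScalarTower S (Localization.Away hX) (Localization.Away (algebraMap S C hX)) :=
    .of_algebraMap_eq fun r => (IsLocalization.Away.lift_eq hX huSC r).symm
  have i9a : IsScalarTower R (Localization.Away hX) (Localization.Away (algebraMap S C hX)) :=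
    .of_algebraMap_eq fun r => by
      rw [IsScalarTower.algebraMap_apply R S (Localization.Away hX),
        ← IsScalarTower.algebraMap_apply S (Localization.Away hX)
          (Localization.Away (algebraMap S C hX)),
        ← IsScalarTower.algebraMap_apply R S (Localization.Away (algebraMap S C hX))]
  have i9 : IsScalarTower (Localization.Away g) (Localization.Away hX)
      (Localization.Away (algebraMap S C hX)) := tower_of_away g
  let i10 : Algebra (Localization.Away hY) (Localization.Away (algebraMap S C hX)) :=
    (IsLocalization.Away.lift hY huDC).toAlgebra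
  have i11 : IsScalarTower D (Localization.Away hY) (Localization.Away (algebraMap S C hX)) :=
    .of_algebraMap_eq fun r => (IsLocalization.Away.lift_eq hY huDC r).symm
  have i12a : IsScalarTower R (Localization.Away hY) (Localization.Away (algebraMap S C hX)) :=
    .of_algebraMap_eq fun r => by
      rw [IsScalarTower.algebraMap_apply R D (Localization.Away hY),
        ← IsScalarTower.algebraMap_apply D (Localization.Away hY)
          (Localization.Away (algebraMap S C hX)),
        ← IsScalarTower.algebraMap_apply R D (Localization.Away (algebraMap S C hX))]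
  have i12 : IsScalarTower (Localization.Away g) (Localization.Away hY)
      (Localization.Away (algebraMap S C hX)) := tower_of_away g
  let i13 : Module (Localization.Away g) (LocalizedModule (Submonoid.powers hX) N) :=
    Module.compHom _ (algebraMap (Localization.Away g) (Localization.Away hX))
  have i14 : IsScalarTower (Localization.Away g) (Localization.Away hX)
      (LocalizedModule (Submonoid.powers hX) N) :=
    IsScalarTower.of_algebraMap_smul fun _ _ => rfl
  let i15 : Module (Localization.Away hX)
      (LocalizedModule (Submonoid.powers (algebraMap S C hX)) G) :=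
    Module.compHom _ (algebraMap (Localization.Away hX) (Localization.Away (algebraMap S C hX)))
  have i16 : IsScalarTower (Localization.Away hX) (Localization.Away (algebraMap S C hX))
      (LocalizedModule (Submonoid.powers (algebraMap S C hX)) G) :=
    IsScalarTower.of_algebraMap_smul fun _ _ => rfl
  have hlocD : IsLocalization.Away (algebraMap D C hY) (Localization.Away (algebraMap S C hX)) := by
    rw [hYZ]; infer_instance
  obtain ⟨hXq, hZz, H⟩ := shrink_abstract R S N p q C D G n h z y h1 h3 h4 g hX hY hg hYy hYZ.symm
    hsurj (Localization.Away g) (Localization.Away hX) (Localization.Away (algebraMap S C hX))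
    (Localization.Away hY) (LocalizedModule (Submonoid.powers hX) N)
    (LocalizedModule.mkLinearMap (Submonoid.powers hX) N)
    (LocalizedModule (Submonoid.powers (algebraMap S C hX)) G)
    (LocalizedModule.mkLinearMap (Submonoid.powers (algebraMap S C hX)) G)
  exact ⟨hXq, hZz, i1, i2, i3, i4, i5, i6, i7, i8, i9, i10, i11, i12, i13, i14, i15, i16, H⟩

end concrete

end Groth.Agent.Lib.Helper64.Shrink
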