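import Mathlib
import Groth.Agent.Lib.Helper64.ShrinkCore

/-!
# Generic algebra structures between `Localization.Away` rings (helper64)

`AwayDvd x y` says that the image of `x : X` is invertible in `Y[1/y]`; it is used as a class so that
the induced algebra structures `X[1/x] → Y[1/y]`, the towers and the module structures on localized
modules are found by instance resolution.
-/

set_option autoImplicit false
universe u

namespace Groth.Agent.Lib.Helper64.AwayGen

open Groth.Agent.Lib.Helper64.Shrink

/-- the image of `x` is invertible in `Y[1/y]` -/
class AwayDvd {X Y : Type*} [CommRing X] [CommRing Y] [Algebra X Y] (x : X) (y : Y) : Prop where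
  isUnit : IsUnit (algebraMap X (Localization.Away y) x)

theorem AwayDvd.of_dvd {X Y : Type*} [CommRing X] [CommRing Y] [Algebra X Y] {x : X} {y : Y}
    (h : algebraMap X Y x ∣ y) : AwayDvd x y := by
  constructor
  rw [IsScalarTower.algebraMap_apply X Y (Localization.Away y)]
  exact isUnit_of_dvd_unit (map_dvd _ h) (IsLocalization.Away.algebraMap_isUnit y)

section ring

variable {X Y : Type*} [CommRing X] [CommRing Y] [Algebra X Y] (x : X) (y : Y) [h : AwayDvd x y]

noncomputable instance awayAlgebra : Algebra (Localization.Away x) (Localization.Away y) :=
  (IsLocalization.Away.lift x h.isUnit).toAlgebra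

instance awayTower : IsScalarTower X (Localization.Away x) (Localization.Away y) :=
  .of_algebraMap_eq fun r => (IsLocalization.Away.lift_eq x h.isUnit r).symm

variable {Z : Type*} [CommRing Z] [Algebra Y Z] [Algebra X Z] [IsScalarTower X Y Z] (z : Z)
  [AwayDvd y z] [AwayDvd x z]

theorem tower_base : IsScalarTower X (Localization.Away y) (Localization.Away z) :=
  .of_algebraMap_eq fun r => by
    rw [IsScalarTower.algebraMap_apply X Y (Localization.Away y),
      ← IsScalarTower.algebraMap_apply Y (Localization.Away y) (Localization.Away z),
      IsScalarTower.algebraMap_apply X Z (Localization.Away z),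
      IsScalarTower.algebraMap_apply X Y Z,
      ← IsScalarTower.algebraMap_apply Y Z (Localization.Away z)]

instance awayTower3 :
    IsScalarTower (Localization.Away x) (Localization.Away y) (Localization.Away z) :=
  have := tower_base (X := X) y z
  tower_of_away x

end ring

section module

variable {X Y : Type*} [CommRing X] [CommRing Y] [Algebra X Y] (x : X) (y : Y) [h : AwayDvd x y]
  (M : Type*) [AddCommGroup M] [Module Y M]

noncomputable instance awayModule :
    Module (Localization.Away x) (LocalizedModule (Submonoid.powers y) M) :=
  Module.compHom _ (algebraMap (Localization.Away x) (Localization.Away y))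

instance awayModuleTower : IsScalarTower (Localization.Away x) (Localization.Away y)
    (LocalizedModule (Submonoid.powers y) M) :=
  IsScalarTower.of_algebraMap_smul fun _ _ => rfl

variable {Z : Type*} [CommRing Z] [Algebra Y Z] [Algebra X Z] [IsScalarTower X Y Z] (z : Z)
  [AwayDvd y z] [AwayDvd x z] (M' : Type*) [AddCommGroup M'] [Module Z M']

instance awayModuleTower3 : IsScalarTower (Localization.Away x) (Localization.Away y)
    (LocalizedModule (Submonoid.powers z) M') := by
  refine ⟨fun a b m => ?_⟩
  show algebraMap (Localization.Away y) (Localization.Away z) (a • b) • m =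
    algebraMap (Localization.Away x) (Localization.Away z) a •
      algebraMap (Localization.Away y) (Localization.Away z) b • m
  rw [Algebra.smul_def, map_mul, mul_smul,
    ← IsScalarTower.algebraMap_apply (Localization.Away x) (Localization.Away y)
      (Localization.Away z)]

end module


section base

variable {X Y : Type*} [CommRing X] [CommRing Y] [Algebra X Y] (x : X) (y : Y) [h : AwayDvd x y]
  (M : Type*) [AddCommGroup M] [Module Y M] [Module X M] [IsScalarTower X Y M]

instance awayModuleBase : IsScalarTower X (Localization.Away x)
    (LocalizedModule (Submonoid.powers y) M) := by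
  refine IsScalarTower.of_algebraMap_smul fun r m => ?_
  show algebraMap (Localization.Away x) (Localization.Away y) (algebraMap X (Localization.Away x) r)
    • m = r • m
  rw [← IsScalarTower.algebraMap_apply X (Localization.Away x) (Localization.Away y),
    algebraMap_smul]

end base

section sq

/-- localizing away from `u * u` is localizing away from `u` -/
theorem away_sq {C : Type*} [CommRing C] (u v : C) (h : v = u * u) :
    IsLocalization.Away u (Localization.Away v) :=
  away_of_dvd v u 2 1 (by rw [h, pow_two]) (by rw [pow_one, h]; exact Dvd.intro _ rfl)

theorem locMod_sq {C : Type*} [CommRing C] (u v : C) (h : v = u * u) (M : Type*) [AddCommGroup M]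
    [Module C M] :
    IsLocalizedModule (Submonoid.powers u)
      (LocalizedModule.mkLinearMap (Submonoid.powers v) M) := by
  refine IsLocalizedModule.of_exists_mul_mem (Submonoid.powers v) (Submonoid.powers u) ?_ ?_ _
  · rintro _ ⟨k, rfl⟩
    exact ⟨2 * k, by simp only; rw [h, pow_mul, pow_two]⟩
  · rintro ⟨_, k, rfl⟩
    exact ⟨u ^ k, k, by simp only; rw [h, mul_pow]⟩

end sq

end Groth.Agent.Lib.Helper64.AwayGen
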