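import Mathlib
import Groth.Agent.S12231

/-!
# General base change lemmas for linear maps and pushouts of algebras (helper64)
-/

set_option autoImplicit false
universe u
open TensorProduct

namespace Groth.Agent.Lib.Helper64.BCGen


section

variable {B B' : Type*} [CommRing B] [CommRing B'] [Algebra B B']
  {X Y X' Y' : Type*} [AddCommGroup X] [Module B X] [AddCommGroup Y] [Module B Y]
  [AddCommGroup X'] [Module B' X'] [Module B X'] [IsScalarTower B B' X']
  [AddCommGroup Y'] [Module B' Y'] [Module B Y'] [IsScalarTower B B' Y']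

theorem span_range_eq_top_of_isBaseChange {gX : X →ₗ[B] X'} (hX : IsBaseChange B' gX) :
    Submodule.span B' (Set.range gX) = ⊤ := by
  rw [eq_top_iff]
  rintro x -
  induction x using hX.inductionOn with
  | zero => exact zero_mem _
  | tmul m => exact Submodule.subset_span ⟨m, rfl⟩
  | smul s n hn => exact Submodule.smul_mem _ s hn
  | add a b ha hb => exact add_mem ha hb

variable (f : X →ₗ[B] Y) (f' : X' →ₗ[B'] Y') {gX : X →ₗ[B] X'} {gY : Y →ₗ[B] Y'}
  (hX : IsBaseChange B' gX) (hY : IsBaseChange B' gY) (hcomm : ∀ x, f' (gX x) = gY (f x))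

include hX hY hcomm

/-- bijectivity on a fibre is stable under base change -/
theorem bijective_baseChange_of_isBaseChange
    (K K' : Type*) [CommRing K] [CommRing K'] [Algebra B K] [Algebra B' K'] [Algebra K K']
    [Algebra B K'] [IsScalarTower B K K'] [IsScalarTower B B' K']
    (h : Function.Bijective (f.baseChange K)) : Function.Bijective (f'.baseChange K') := by
  -- step 1: `f.baseChange K'` is bijective
  have h1 : Function.Bijective (f.baseChange K') := by
    let eX := TensorProduct.AlgebraTensorModule.cancelBaseChange B K K' K' X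
    let eY := TensorProduct.AlgebraTensorModule.cancelBaseChange B K K' K' Y
    have hc : (f.baseChange K') ∘ₗ eX.toLinearMap =
        eY.toLinearMap ∘ₗ ((f.baseChange K).baseChange K') := by
      ext x
      simp [eX, eY]
    have h2 : Function.Bijective ((f.baseChange K).baseChange K') :=
      ((LinearEquiv.ofBijective _ h).baseChange K K' _ _).bijective
    have h3 : Function.Bijective ((f.baseChange K') ∘ₗ eX.toLinearMap) := by
      rw [hc]; exact eY.bijective.comp h2
    have := h3.comp eX.symm.bijective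
    convert this using 1
    ext x
    simp
  -- step 2: transfer along the base change isomorphisms
  let eX := (hX.comp (TensorProduct.isBaseChange B' X' K')).equiv
  let eY := (hY.comp (TensorProduct.isBaseChange B' Y' K')).equiv
  have hc : (f'.baseChange K') ∘ₗ eX.toLinearMap = eY.toLinearMap ∘ₗ (f.baseChange K') := by
    ext x
    simp [eX, eY, IsBaseChange.equiv_tmul, hcomm]
  have h3 : Function.Bijective ((f'.baseChange K') ∘ₗ eX.toLinearMap) := by
    rw [hc]; exact eY.bijective.comp h1
  have := h3.comp eX.symm.bijective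
  convert this using 1
  ext x
  simp

/-- cokernels are stable under base change (up to a non-canonical isomorphism) -/
theorem nonempty_cokerEquiv_of_isBaseChange
    {Z Z' : Type*} [AddCommGroup Z] [Module B Z] [AddCommGroup Z'] [Module B' Z'] [Module B Z']
    [IsScalarTower B B' Z'] {gZ : Z →ₗ[B] Z'} (hZ : IsBaseChange B' gZ)
    (e : (Y ⧸ LinearMap.range f) ≃ₗ[B] Z) :
    Nonempty ((Y' ⧸ LinearMap.range f') ≃ₗ[B'] Z') := by
  let π : Y →ₗ[B] Z := e.toLinearMap ∘ₗ (LinearMap.range f).mkQ
  have hπs : Function.Surjective π := e.surjective.comp (Submodule.mkQ_surjective _)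
  have hex : Function.Exact f π := by
    intro y
    simp only [π, LinearMap.coe_comp, LinearEquiv.coe_coe, Function.comp_apply,
      EmbeddingLike.map_eq_zero_iff, Submodule.mkQ_apply, Submodule.Quotient.mk_eq_zero]
    rfl
  let π' : Y' →ₗ[B'] Z' := hY.lift (gZ ∘ₗ π)
  have hπ' : ∀ y, π' (gY y) = gZ (π y) := fun y => hY.lift_eq _ y
  let eX := hX.equiv
  let eY := hY.equiv
  let eZ := hZ.equiv
  have hc1 : f' ∘ₗ eX.toLinearMap = eY.toLinearMap ∘ₗ (f.baseChange B') := by
    ext x
    simp [eX, eY, IsBaseChange.equiv_tmul, hcomm]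
  have hc2 : π' ∘ₗ eY.toLinearMap = eZ.toLinearMap ∘ₗ (π.baseChange B') := by
    ext x
    simp [eY, eZ, IsBaseChange.equiv_tmul, hπ']
  have hex' : Function.Exact (f.baseChange B') (π.baseChange B') := by
    have := lTensor_exact B' hex hπs
    intro y
    have h1 := this y
    simpa [LinearMap.baseChange_eq_ltensor] using h1
  have hs' : Function.Surjective (π.baseChange B') := by
    have := LinearMap.lTensor_surjective B' hπs
    simpa [LinearMap.baseChange_eq_ltensor] using this
  have hsurj : Function.Surjective π' := by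
    have h3 : Function.Surjective (π' ∘ₗ eY.toLinearMap) := by
      rw [hc2]; exact eZ.surjective.comp hs'
    intro z
    obtain ⟨t, ht⟩ := h3 z
    exact ⟨eY t, ht⟩
  have hker : LinearMap.ker π' = LinearMap.range f' := by
    ext y
    obtain ⟨t, rfl⟩ := eY.surjective y
    have e1 : π' (eY t) = eZ (π.baseChange B' t) := LinearMap.congr_fun hc2 t
    rw [LinearMap.mem_ker, e1, EmbeddingLike.map_eq_zero_iff, hex' t]
    constructor
    · rintro ⟨s, rfl⟩
      exact ⟨eX s, LinearMap.congr_fun hc1 s⟩
    · rintro ⟨x', hx'⟩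
      obtain ⟨s, rfl⟩ := eX.surjective x'
      refine ⟨s, eY.injective ?_⟩
      rw [← hx']
      exact (LinearMap.congr_fun hc1 s).symm
  exact ⟨(Submodule.quotEquivOfEq _ _ hker.symm).trans (π'.quotKerEquivOfSurjective hsurj)⟩

end



attribute [local instance] Algebra.TensorProduct.rightAlgebra

/-- for `B` flat over `R` and `p'` over `p`, the extension of `p'` to `R' ⊗ B` contracts to the
extension of `p` to `B`. -/
theorem comap_map_eq_of_flat (R B R' : Type*) [CommRing R] [CommRing B] [Algebra R B]
    [Module.Flat R B] [CommRing R'] [Algebra R R'] (p : Ideal R) (p' : Ideal R') [p'.LiesOver p] :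
    (p'.map (algebraMap R' (R' ⊗[R] B))).comap (algebraMap B (R' ⊗[R] B)) =
      p.map (algebraMap R B) := by
  apply le_antisymm
  · intro b hb
    rw [Ideal.mem_comap] at hb
    let ψ : R ⧸ p →ₗ[R] R' ⧸ p' := (IsScalarTower.toAlgHom R (R ⧸ p) (R' ⧸ p')).toLinearMap
    have hψ : Function.Injective ψ := FaithfulSMul.algebraMap_injective (R ⧸ p) (R' ⧸ p')
    have hinj := Module.Flat.rTensor_preserves_injective_linearMap (M := B) ψ hψ
    let e' := Algebra.TensorProduct.quotientTensorEquiv (R := R) R' B R' p'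
    have h1 : ((1 : R' ⧸ p') ⊗ₜ[R] b) = 0 := by
      apply e'.injective
      rw [map_zero]
      have : e' ((Ideal.Quotient.mk p' 1) ⊗ₜ[R] b) = Ideal.Quotient.mk _ ((1 : R') ⊗ₜ[R] b) :=
        Algebra.TensorProduct.quotientTensorEquiv_apply_tmul _ _ _ _ _ _
      rw [map_one] at this
      rw [this, Ideal.Quotient.eq_zero_iff_mem]
      exact hb
    have h2 : ((1 : R ⧸ p) ⊗ₜ[R] b) = 0 := by
      apply hinj
      rw [map_zero, LinearMap.rTensor_tmul]
      simpa [ψ] using h1
    let e := Algebra.TensorProduct.quotIdealMapEquivQuotTensor B p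
    have h3 : e (Ideal.Quotient.mk _ b) = 0 := by
      rw [Algebra.TensorProduct.quotIdealMapEquivQuotTensor_mk]; exact h2
    rw [EmbeddingLike.map_eq_zero_iff, Ideal.Quotient.eq_zero_iff_mem] at h3
    exact h3
  · rw [Ideal.map_le_iff_le_comap]
    intro r hr
    rw [Ideal.mem_comap, Ideal.mem_comap, ← IsScalarTower.algebraMap_apply,
      IsScalarTower.algebraMap_apply R R' (R' ⊗[R] B)]
    apply Ideal.mem_map_of_mem
    rw [Ideal.LiesOver.over (P := p') (p := p)] at hr
    exact hr



attribute [local instance] Algebra.TensorProduct.rightAlgebra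

section GenBC

variable (R R' B A : Type*) [CommRing R] [CommRing R'] [CommRing B] [CommRing A]
  [Algebra R R'] [Algebra R B] [Algebra R A] [Algebra B A] [IsScalarTower R B A]

/-- `R' ⊗ B → R' ⊗ A` -/
noncomputable def tmap : R' ⊗[R] B →ₐ[R'] R' ⊗[R] A :=
  Algebra.TensorProduct.map (AlgHom.id R' R') (IsScalarTower.toAlgHom R B A)

/-- the algebra structure of `R' ⊗ A` over `R' ⊗ B` -/
@[instance_reducible]
noncomputable def algTT : Algebra (R' ⊗[R] B) (R' ⊗[R] A) := (tmap R R' B A).toRingHom.toAlgebra

/-- the algebra structure of `R' ⊗ A` over `B` -/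
@[instance_reducible]
noncomputable def algBT : Algebra B (R' ⊗[R] A) :=
  ((algebraMap A (R' ⊗[R] A)).comp (algebraMap B A)).toAlgebra

variable {R R' B A}
variable [Algebra (R' ⊗[R] B) (R' ⊗[R] A)] [Algebra B (R' ⊗[R] A)]
  (h1 : ∀ x, algebraMap (R' ⊗[R] B) (R' ⊗[R] A) x = tmap R R' B A x)
  (h2 : ∀ b, algebraMap B (R' ⊗[R] A) b = (1 : R') ⊗ₜ[R] algebraMap B A b)

include h1 in
omit [Algebra B (R' ⊗[R] A)] in
theorem tower_R'TT : IsScalarTower R' (R' ⊗[R] B) (R' ⊗[R] A) :=
  IsScalarTower.of_algebraMap_eq (fun x => by rw [h1, AlgHom.commutes])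

include h2 in
omit [Algebra R B] [IsScalarTower R B A] [Algebra (R' ⊗[R] B) (R' ⊗[R] A)] in
theorem tower_BAT : IsScalarTower B A (R' ⊗[R] A) :=
  IsScalarTower.of_algebraMap_eq (fun b => by rw [h2]; rfl)

include h1 h2 in
theorem tower_BTT : IsScalarTower B (R' ⊗[R] B) (R' ⊗[R] A) :=
  IsScalarTower.of_algebraMap_eq (fun b => by
    rw [h2, h1]
    show _ = tmap R R' B A ((1 : R') ⊗ₜ[R] b)
    simp [tmap])

variable [IsScalarTower B A (R' ⊗[R] A)] [IsScalarTower B (R' ⊗[R] B) (R' ⊗[R] A)]

include h1 in
theorem pushout_BT : Algebra.IsPushout B (R' ⊗[R] B) A (R' ⊗[R] A) :=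
  have := tower_R'TT h1
  Groth.Agent.S12231.isPushout_right R B A R' (R' ⊗[R] B) (R' ⊗[R] A)

include h1 in
theorem surjective_TT (h : Function.Surjective (algebraMap B A)) :
    Function.Surjective (algebraMap (R' ⊗[R] B) (R' ⊗[R] A)) :=
  have := pushout_BT h1
  Groth.Agent.S12231.surjective_of_isPushout B (R' ⊗[R] B) A (R' ⊗[R] A) h

include h1 in
theorem fp_TT [Algebra.FinitePresentation B A] :
    Algebra.FinitePresentation (R' ⊗[R] B) (R' ⊗[R] A) :=
  have := pushout_BT h1
  Algebra.FinitePresentation.equiv (Algebra.IsPushout.equiv B (R' ⊗[R] B) A (R' ⊗[R] A))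

include h1 in
theorem finite_TT [Module.Finite B A] : Module.Finite (R' ⊗[R] B) (R' ⊗[R] A) :=
  have := pushout_BT h1
  Module.Finite.equiv (Algebra.IsPushout.equiv B (R' ⊗[R] B) A (R' ⊗[R] A)).toLinearEquiv

include h1 in
/-- the base change of a module along `A → R' ⊗ A` is its base change along `B → R' ⊗ B`. -/
theorem isBaseChange_mk (M : Type*) [AddCommGroup M] [Module A M] [Module B M]
    [IsScalarTower B A M] :
    IsBaseChange (R' ⊗[R] B) ((TensorProduct.mk A (R' ⊗[R] A) M 1).restrictScalars B) := by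
  have := pushout_BT h1
  refine IsBaseChange.of_equiv
    (Algebra.IsPushout.cancelBaseChange B (R' ⊗[R] B) A (R' ⊗[R] A) M).symm (fun x => ?_)
  rw [Algebra.IsPushout.cancelBaseChange_symm_tmul, map_one]
  rfl

end GenBC

end Groth.Agent.Lib.Helper64.BCGen
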