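/-
Helper library (helper64): the Grothendieck topology on S-schemes attached to a class C of
quasi-compact morphisms (affine-local finite C-covering data); used for S14463 / S14465.
-/
import Mathlib

set_option autoImplicit false
universe u

open AlgebraicGeometry CategoryTheory CategoryTheory.Limits TopologicalSpace Opposite

namespace Groth.Agent.Lib.Helper64.BigSiteC

variable (C : MorphismProperty Scheme.{u})

/-- hypotheses on the class `C` -/
structure Hyp : Prop where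
  hcoprod : ∀ (κ : Type u) [Finite κ] (A B : κ → Scheme.{u}) (f : ∀ j, A j ⟶ B j),
      (∀ j, C (f j)) → C (Limits.Sigma.map f)
  haff : ∀ (U : Scheme.{u}) [IsAffine U] (κ : Type u) [Finite κ] (V : κ → U.Opens),
      (∀ j, IsAffineOpen (V j)) → ⨆ j, V j = ⊤ → C (Limits.Sigma.desc fun j => (V j).ι)

variable {C} [C.IsStableUnderComposition] [C.IsStableUnderBaseChange]

/-- composition of `C`-families -/
lemma comp_family (h : Hyp C) {κ : Type u} [Finite κ] {V : κ → Scheme.{u}} {U : Scheme.{u}}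
    (ψ : ∀ j, V j ⟶ U) (hψ : C (Limits.Sigma.desc ψ)) {lam : κ → Type u} [∀ j, Finite (lam j)]
    {T : ∀ j, lam j → Scheme.{u}} (χ : ∀ j l, T j l ⟶ V j) (hχ : ∀ j, C (Limits.Sigma.desc (χ j))) :
    C (Limits.Sigma.desc (fun p : Σ j, lam j => χ p.1 p.2 ≫ ψ p.1)) := by
  have h1 : C (Limits.Sigma.map (fun j => Limits.Sigma.desc (χ j))) := h.hcoprod κ _ _ _ hχ
  have h2 : C (Limits.Sigma.map (fun j => Limits.Sigma.desc (χ j)) ≫ Limits.Sigma.desc ψ) := C.comp_mem _ _ h1 hψ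
  have e : Limits.Sigma.desc (fun p : Σ j, lam j => χ p.1 p.2 ≫ ψ p.1) =
      (sigmaSigmaIso lam T).inv ≫ Limits.Sigma.map (fun j => Limits.Sigma.desc (χ j)) ≫ Limits.Sigma.desc ψ := by
    apply Limits.Sigma.hom_ext
    rintro ⟨j, l⟩
    simp
  rw [e]
  exact (C.cancel_left_of_respectsIso _ _).mpr h2


omit [C.IsStableUnderComposition] in
/-- pullback of a `C`-family along a morphism of the base -/
lemma pullback_family {κ : Type u} [Finite κ] {V : κ → Scheme.{u}} {U W : Scheme.{u}}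
    (ψ : ∀ j, V j ⟶ U) (hψ : C (Limits.Sigma.desc ψ)) (w : W ⟶ U) :
    ∃ (V' : κ → Scheme.{u}) (ψ' : ∀ j, V' j ⟶ W) (p : ∀ j, V' j ⟶ V j),
      (∀ j, ψ' j ≫ w = p j ≫ ψ j) ∧
      ((∀ j, IsAffine (V j)) → IsAffine U → IsAffine W → ∀ j, IsAffine (V' j)) ∧
      C (Limits.Sigma.desc ψ') := by
  let sψ := Limits.Sigma.desc ψ
  let P := pullback sψ w
  let fstP : P ⟶ ∐ V := pullback.fst sψ w
  let sndP : P ⟶ W := pullback.snd sψ w
  let V' : κ → Scheme.{u} := fun j => pullback (Limits.Sigma.ι V j) fstP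
  let g : ∀ j, V' j ⟶ P := fun j => pullback.snd (Limits.Sigma.ι V j) fstP
  refine ⟨V', fun j => g j ≫ sndP, fun j => pullback.fst (Limits.Sigma.ι V j) fstP, ?_, ?_, ?_⟩
  · intro j
    have h1 : sndP ≫ w = fstP ≫ sψ := pullback.condition.symm
    have h2 : g j ≫ fstP = pullback.fst (Limits.Sigma.ι V j) fstP ≫ Limits.Sigma.ι V j :=
      pullback.condition.symm
    rw [Category.assoc, h1, ← Category.assoc, h2, Category.assoc]
    simp [sψ]
  · intro hV hU hW j
    have := hV; have := hU; have := hW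
    infer_instance
  · have hiso : IsIso (Limits.Sigma.desc g) := by
      have hcol : Nonempty (IsColimit (Cofan.mk P g)) := by
        apply nonempty_isColimit_cofanMk_of
        · rw [eq_top_iff]
          intro x _
          obtain ⟨j, y, hy⟩ := (sigmaOpenCover V).exists_eq (fstP x)
          have hx : x ∈ Set.range (g j) := by
            rw [Scheme.Pullback.range_snd]
            exact ⟨y, hy⟩
          exact Opens.mem_iSup.mpr ⟨j, hx⟩
        · intro i j hij
          have hd := disjoint_opensRange_sigmaι V i j hij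
          rw [Function.onFun, disjoint_iff, eq_bot_iff]
          intro x hx
          have hxi : x ∈ Set.range (g i) := hx.1
          have hxj : x ∈ Set.range (g j) := hx.2
          rw [Scheme.Pullback.range_snd] at hxi hxj
          have : fstP x ∈ (Limits.Sigma.ι V i).opensRange ⊓ (Limits.Sigma.ι V j).opensRange :=
            ⟨hxi, hxj⟩
          rw [disjoint_iff.mp hd] at this
          exact this
      exact (Cofan.nonempty_isColimit_iff_isIso_sigmaDesc (Cofan.mk P g)).mp hcol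
    have e : Limits.Sigma.desc (fun j => g j ≫ sndP) = Limits.Sigma.desc g ≫ sndP := by
      apply Limits.Sigma.hom_ext
      intro j
      simp
    rw [e]
    have := hiso
    exact (C.cancel_left_of_respectsIso _ _).mpr (C.pullback_snd _ _ hψ)


variable {S : Scheme.{u}}

/-- the object of `Over S` attached to a morphism into `X.left` -/
abbrev ovr (X : Over S) {V : Scheme.{u}} (a : V ⟶ X.left) : Over S := Over.mk (a ≫ X.hom)

/-- the morphism of `Over S` attached to a morphism into `X.left` -/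
abbrev ovrHom (X : Over S) {V : Scheme.{u}} (a : V ⟶ X.left) : ovr X a ⟶ X := Over.homMk a rfl

lemma sieve_of_left {X : Over S} (R : Sieve X) {Z Z' : Over S} (g : Z ⟶ X) (g' : Z' ⟶ X)
    (e : Z'.left ⟶ Z.left) (he : e ≫ g.left = g'.left) (hg : R.arrows g) : R.arrows g' := by
  have hw : e ≫ Z.hom = Z'.hom := by
    rw [← Over.w g, ← Category.assoc, he, Over.w g']
  have : g' = Over.homMk e hw ≫ g := by
    ext
    simp [he]
  rw [this]
  exact R.downward_closed hg _

variable (C)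

/-- local covering datum over an affine open `U` of `X.left` -/
def LC (X : Over S) (R : Sieve X) (U : X.left.Opens) : Prop :=
  ∃ (κ : Type u) (_ : Finite κ) (V : κ → Scheme.{u}) (ψ : ∀ j, V j ⟶ (U : Scheme.{u})),
    (∀ j, IsAffine (V j)) ∧ (∀ j, R.arrows (ovrHom X (ψ j ≫ U.ι))) ∧ C (Limits.Sigma.desc ψ)

/-- the form of the local covering datum used in the statement -/
def LCs (X : Over S) (R : Sieve X) (U : X.left.Opens) : Prop :=
  ∃ (κ : Type u) (_ : Finite κ) (V : κ → Over S) (φ : ∀ j, V j ⟶ X)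
    (ψ : ∀ j, (V j).left ⟶ (U : Scheme.{u})),
    (∀ j, IsAffine (V j).left) ∧ (∀ j, R.arrows (φ j)) ∧ (∀ j, ψ j ≫ U.ι = (φ j).left) ∧
      C (Limits.Sigma.desc ψ)

omit [C.IsStableUnderComposition] [C.IsStableUnderBaseChange] in
lemma LCs_iff_LC (X : Over S) (R : Sieve X) (U : X.left.Opens) : LCs C X R U ↔ LC C X R U := by
  constructor
  · rintro ⟨κ, hκ, V, φ, ψ, haff, hR, hψ, hC⟩
    refine ⟨κ, hκ, fun j => (V j).left, ψ, haff, fun j => ?_, hC⟩
    exact sieve_of_left R (φ j) _ (𝟙 _) (by simp [hψ j]) (hR j)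
  · rintro ⟨κ, hκ, V, ψ, haff, hR, hC⟩
    exact ⟨κ, hκ, fun j => ovr X (ψ j ≫ U.ι), fun j => ovrHom X (ψ j ≫ U.ι), ψ, haff, hR,
      fun j => rfl, hC⟩

variable {C}

omit [C.IsStableUnderComposition] [C.IsStableUnderBaseChange] in
lemma LC_top (h : Hyp C) (X : Over S) (U : X.left.Opens) (hU : IsAffineOpen U) : LC C X ⊤ U := by
  have : IsAffine (U : Scheme.{u}) := hU
  refine ⟨PUnit.{u+1}, inferInstance, fun _ => ((⊤ : (U : Scheme.{u}).Opens) : Scheme.{u}),
    fun _ => (⊤ : (U : Scheme.{u}).Opens).ι, fun _ => ?_, fun _ => trivial, ?_⟩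
  · exact isAffineOpen_top (U : Scheme.{u})
  · exact h.haff (U : Scheme.{u}) PUnit.{u+1} (fun _ => ⊤) (fun _ => isAffineOpen_top _) (by simp)

omit [C.IsStableUnderComposition] in
lemma LC_pullback {X Y : Over S} (R : Sieve X) (U : X.left.Opens) (hU : IsAffineOpen U)
    (hLC : LC C X R U) (f : Y ⟶ X) (W : Y.left.Opens) (hWa : IsAffineOpen W)
    (hW : W ≤ f.left ⁻¹ᵁ U) : LC C Y (R.pullback f) W := by
  obtain ⟨κ, hκ, V, ψ, haff, hR, hC⟩ := hLC
  let w : (W : Scheme.{u}) ⟶ (U : Scheme.{u}) := f.left.resLE U W hW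
  have hw : w ≫ U.ι = W.ι ≫ f.left := Scheme.Hom.resLE_comp_ι _ _
  obtain ⟨V', ψ', p, hcomm, haffn, hC'⟩ := pullback_family ψ hC w
  refine ⟨κ, hκ, V', ψ', haffn haff hU hWa, fun j => ?_, hC'⟩
  change R.arrows (ovrHom Y (ψ' j ≫ W.ι) ≫ f)
  refine sieve_of_left R (ovrHom X (ψ j ≫ U.ι)) _ (p j) ?_ (hR j)
  simp only [Over.homMk_left, Over.comp_left, Category.assoc]
  rw [← hw, ← Category.assoc, ← hcomm j, Category.assoc]


variable (C)

/-- covering sieves, in terms of `LC` -/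
def CovL (X : Over S) (R : Sieve X) : Prop :=
  ∃ (ι : Type u) (U : ι → X.left.Opens), (∀ i, IsAffineOpen (U i)) ∧ ⨆ i, U i = ⊤ ∧
    ∀ i, LC C X R (U i)

variable {C}

lemma LC_trans (h : Hyp C) {X : Over S} (S' R : Sieve X) (U : X.left.Opens)
    (hLC : LC C X S' U)
    (hR : ∀ (Y : Over S) (f : Y ⟶ X), S'.arrows f → CovL C Y (R.pullback f)) : LC C X R U := by
  classical
  obtain ⟨κ, hκ, V, ψ, haff, hS, hC⟩ := hLC
  have hcov := fun j => hR _ (ovrHom X (ψ j ≫ U.ι)) (hS j)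
  choose ι' Uo hUoa hUocov hUoLC using hcov
  -- finite subcovers
  have hfin : ∀ j, ∃ K : Finset (ι' j), ⨆ k : K, Uo j k.1 = ⊤ := by
    intro j
    have : IsAffine (V j) := haff j
    have hc : IsCompact (Set.univ : Set (V j)) := isCompact_univ
    obtain ⟨K, hK⟩ := hc.elim_finite_subcover (fun k => (Uo j k).1)
      (fun k => (Uo j k).isOpen) (by
        intro x _
        have : x ∈ (⨆ k, Uo j k) := by rw [hUocov j]; trivial
        obtain ⟨k, hk⟩ := Opens.mem_iSup.mp this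
        exact Set.mem_iUnion.mpr ⟨k, hk⟩)
    refine ⟨K, ?_⟩
    rw [eq_top_iff]
    intro x _
    obtain ⟨k, hk⟩ := Set.mem_iUnion.mp (hK (Set.mem_univ x))
    obtain ⟨hkK, hxk⟩ := Set.mem_iUnion.mp hk
    exact Opens.mem_iSup.mpr ⟨⟨k, hkK⟩, hxk⟩
  choose K hK using hfin
  choose lam hlam T χ hTa hχR hχC using hUoLC
  -- the intermediate family over `V j`
  have hmid : ∀ j, C (Limits.Sigma.desc (fun q : Σ k : K j, lam j k.1 =>
      χ j q.1.1 q.2 ≫ (Uo j q.1.1).ι)) := by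
    intro j
    have : IsAffine (V j) := haff j
    have h1 : C (Limits.Sigma.desc (fun k : K j => (Uo j k.1).ι)) :=
      h.haff (V j) (K j) (fun k => Uo j k.1) (fun k => hUoa j k.1) (hK j)
    exact comp_family h (fun k : K j => (Uo j k.1).ι) h1 (lam := fun k : K j => lam j k.1)
      (fun (k : K j) l => χ j k.1 l) (fun k => hχC j k.1)
  have hall := comp_family h ψ hC (lam := fun j => Σ k : K j, lam j k.1)
    (fun j (q : Σ k : K j, lam j k.1) => χ j q.1.1 q.2 ≫ (Uo j q.1.1).ι) hmid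
  refine ⟨Σ j, Σ k : K j, lam j k.1, inferInstance, fun p => T p.1 p.2.1.1 p.2.2,
    fun p => (χ p.1 p.2.1.1 p.2.2 ≫ (Uo p.1 p.2.1.1).ι) ≫ ψ p.1, fun p => hTa _ _ _, ?_, hall⟩
  rintro ⟨j, ⟨k, l⟩⟩
  have := hχR j k.1 l
  change R.arrows (ovrHom _ (χ j k.1 l ≫ (Uo j k.1).ι) ≫ ovrHom X (ψ j ≫ U.ι)) at this
  refine sieve_of_left R _ _ (𝟙 _) ?_ this
  simp


omit [C.IsStableUnderComposition] [C.IsStableUnderBaseChange] in
lemma CovL_top (h : Hyp C) (X : Over S) : CovL C X ⊤ := by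
  refine ⟨X.left.affineOpens, fun U => U.1, fun U => U.2, ?_, fun U => LC_top h X U.1 U.2⟩
  exact iSup_affineOpens_eq_top X.left

omit [C.IsStableUnderComposition] in
lemma CovL_pullback {X Y : Over S} (f : Y ⟶ X) (R : Sieve X) (hR : CovL C X R) :
    CovL C Y (R.pullback f) := by
  obtain ⟨ι, U, hUa, hUcov, hLC⟩ := hR
  refine ⟨{p : ι × Y.left.affineOpens // (p.2 : Y.left.Opens) ≤ f.left ⁻¹ᵁ U p.1},
    fun p => p.1.2.1, fun p => p.1.2.2, ?_, fun p => ?_⟩
  · rw [eq_top_iff]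
    intro y _
    have hy : f.left y ∈ (⨆ i, U i) := by rw [hUcov]; trivial
    obtain ⟨i, hi⟩ := Opens.mem_iSup.mp hy
    have hy' : y ∈ f.left ⁻¹ᵁ U i := hi
    obtain ⟨_, ⟨W, hW, rfl⟩, hyW, hWU⟩ :=
      Y.left.isBasis_affineOpens.exists_subset_of_mem_open hy' (f.left ⁻¹ᵁ U i).2
    exact Opens.mem_iSup.mpr ⟨⟨(i, ⟨W, hW⟩), hWU⟩, hyW⟩
  · exact LC_pullback R (U p.1.1) (hUa p.1.1) (hLC p.1.1) f p.1.2.1 p.1.2.2 p.2

lemma CovL_trans (h : Hyp C) {X : Over S} (S' R : Sieve X) (hS : CovL C X S')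
    (hR : ∀ (Y : Over S) (f : Y ⟶ X), S'.arrows f → CovL C Y (R.pullback f)) : CovL C X R := by
  obtain ⟨ι, U, hUa, hUcov, hLC⟩ := hS
  exact ⟨ι, U, hUa, hUcov, fun i => LC_trans h S' R (U i) (hLC i) hR⟩

/-- the Grothendieck topology -/
def topo (h : Hyp C) : GrothendieckTopology (Over S) where
  sieves X := {R | CovL C X R}
  top_mem' X := CovL_top h X
  pullback_stable' _ _ R f hR := CovL_pullback f R hR
  transitive' _ S' hS R hR := CovL_trans h S' R hS (fun _ _ hf => hR hf)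

variable (C) in
/-- statement-form covering predicate -/
def Cov (X : Over S) (R : Sieve X) : Prop :=
  ∃ (ι : Type u) (U : ι → X.left.Opens), (∀ i, IsAffineOpen (U i)) ∧ ⨆ i, U i = ⊤ ∧
    ∀ i, LCs C X R (U i)

omit [C.IsStableUnderComposition] [C.IsStableUnderBaseChange] in
lemma Cov_iff (X : Over S) (R : Sieve X) : Cov C X R ↔ CovL C X R := by
  constructor
  · rintro ⟨ι, U, hUa, hUcov, hLC⟩
    exact ⟨ι, U, hUa, hUcov, fun i => (LCs_iff_LC C X R (U i)).mp (hLC i)⟩
  · rintro ⟨ι, U, hUa, hUcov, hLC⟩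
    exact ⟨ι, U, hUa, hUcov, fun i => (LCs_iff_LC C X R (U i)).mpr (hLC i)⟩

theorem main (h : Hyp C) :
    ∃ J : GrothendieckTopology (Over S), ∀ (X : Over S) (R : Sieve X), R ∈ J X ↔ Cov C X R :=
  ⟨topo h, fun X R => (Cov_iff X R).symm⟩

end Groth.Agent.Lib.Helper64.BigSiteC
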