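/-
Helper library (helper64): sheaf criterion for the topology attached to a class C (S14465).
-/
import Mathlib
import Groth.Agent.Lib.Helper64.BigSiteC

set_option autoImplicit false
universe u v

open AlgebraicGeometry CategoryTheory CategoryTheory.Limits TopologicalSpace Opposite

namespace Groth.Agent.Lib.Helper64.BigSiteC

variable {C : MorphismProperty Scheme.{u}} [C.IsStableUnderComposition] [C.IsStableUnderBaseChange]
variable {S : Scheme.{u}}

omit [C.IsStableUnderComposition] [C.IsStableUnderBaseChange] in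
/-- local covering datum from a member of the sieve through which `U` factors -/
lemma LC_of_mem (h : Hyp C) (X : Over S) (R : Sieve X) (U : X.left.Opens) (hU : IsAffineOpen U)
    {Z : Over S} (g : Z ⟶ X) (hg : R.arrows g) (e : (U : Scheme.{u}) ⟶ Z.left)
    (he : e ≫ g.left = U.ι) : LC C X R U := by
  have : IsAffine (U : Scheme.{u}) := hU
  refine ⟨PUnit.{u+1}, inferInstance, fun _ => ((⊤ : (U : Scheme.{u}).Opens) : Scheme.{u}),
    fun _ => (⊤ : (U : Scheme.{u}).Opens).ι, fun _ => ?_, fun _ => ?_, ?_⟩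
  · exact isAffineOpen_top (U : Scheme.{u})
  · refine sieve_of_left R g _ ((⊤ : (U : Scheme.{u}).Opens).ι ≫ e) ?_ hg
    simp [he]
  · exact h.haff (U : Scheme.{u}) PUnit.{u+1} (fun _ => ⊤) (fun _ => isAffineOpen_top _) (by simp)

/-- a sieve containing an open cover is Zariski covering -/
lemma zar_of_cover {Y : Over S} (T : Sieve Y) (𝒰 : Scheme.OpenCover.{u} Y.left)
    (hT : ∀ i, T.arrows (ovrHom Y (𝒰.f i))) : T ∈ (Scheme.zariskiTopology.over S) Y := by
  rw [GrothendieckTopology.mem_over_iff, Scheme.mem_grothendieckTopology_iff]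
  refine ⟨𝒰, ?_⟩
  rintro Z g ⟨i⟩
  rw [Sieve.overEquiv_iff]
  exact hT i


omit [C.IsStableUnderComposition] [C.IsStableUnderBaseChange] in
lemma zar_le (h : Hyp C) (J : GrothendieckTopology (Over S))
    (hJ : ∀ (X : Over S) (R : Sieve X), R ∈ J X ↔ Cov C X R) :
    Scheme.zariskiTopology.over S ≤ J := by
  intro X R hR
  rw [hJ, Cov_iff]
  rw [GrothendieckTopology.mem_over_iff, Scheme.mem_grothendieckTopology_iff] at hR
  obtain ⟨𝒰, h𝒰⟩ := hR
  refine ⟨{U : X.left.affineOpens // ∃ i, U.1 ≤ (𝒰.f i).opensRange}, fun U => U.1.1,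
    fun U => U.1.2, ?_, fun U => ?_⟩
  · rw [eq_top_iff]
    intro x _
    obtain ⟨i, y, hy⟩ := 𝒰.exists_eq x
    have hx : x ∈ (𝒰.f i).opensRange := ⟨y, hy⟩
    obtain ⟨_, ⟨W, hW, rfl⟩, hxW, hWU⟩ :=
      X.left.isBasis_affineOpens.exists_subset_of_mem_open hx (𝒰.f i).opensRange.2
    exact Opens.mem_iSup.mpr ⟨⟨⟨W, hW⟩, i, hWU⟩, hxW⟩
  · obtain ⟨i, hi⟩ := U.2
    have hR' : R.arrows (ovrHom X (𝒰.f i)) := by
      have := h𝒰 _ _ (Presieve.ofArrows.mk i)
      rwa [Sieve.overEquiv_iff] at this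
    have hsub : Set.range U.1.1.ι ⊆ Set.range (𝒰.f i) := by
      rw [Scheme.Opens.range_ι]
      exact hi
    exact LC_of_mem h X R U.1.1 U.1.2 (ovrHom X (𝒰.f i)) hR'
      (IsOpenImmersion.lift (𝒰.f i) U.1.1.ι hsub) (IsOpenImmersion.lift_fac _ _ _)


omit [C.IsStableUnderComposition] in
lemma gen_mem (hqc : ∀ {A B : Scheme.{u}} (f : A ⟶ B), C f → QuasiCompact f)
    (hres : ∀ (W X' : Scheme.{u}) [IsAffine W] (f : X' ⟶ W), C f →
      ∀ (κ : Type u) [Finite κ] (A : κ → X'.Opens), (∀ l, IsAffineOpen (A l)) → ⨆ l, A l = ⊤ →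
        C (Limits.Sigma.desc fun l => (A l).ι ≫ f))
    (J : GrothendieckTopology (Over S))
    (hJ : ∀ (X : Over S) (R : Sieve X), R ∈ J X ↔ Cov C X R)
    {X X' : Over S} (f : X' ⟶ X) (hf : C f.left) :
    Sieve.generate (Presieve.singleton f) ∈ J X := by
  classical
  rw [hJ, Cov_iff]
  refine ⟨X.left.affineOpens, fun U => U.1, fun U => U.2, iSup_affineOpens_eq_top _, fun U => ?_⟩
  have hUa : IsAffine (U.1 : Scheme.{u}) := U.2
  let P : X'.left.Opens := f.left ⁻¹ᵁ U.1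
  let fU : (P : Scheme.{u}) ⟶ (U.1 : Scheme.{u}) := f.left ∣_ U.1
  have hfU : C fU := C.of_isPullback (isPullback_morphismRestrict f.left U.1).flip hf
  have hqcU : QuasiCompact fU := hqc fU hfU
  have hcpt : CompactSpace (P : Scheme.{u}) := QuasiCompact.compactSpace_of_compactSpace fU
  obtain ⟨K, hK⟩ := (isCompact_univ (X := (P : Scheme.{u}))).elim_finite_subcover
    (fun W : (P : Scheme.{u}).affineOpens => (W.1.1 : Set (P : Scheme.{u})))
    (fun W => W.1.isOpen) (by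
      intro x _
      have : x ∈ (⨆ W : (P : Scheme.{u}).affineOpens, (W : (P : Scheme.{u}).Opens)) := by
        rw [iSup_affineOpens_eq_top]; trivial
      obtain ⟨W, hW⟩ := Opens.mem_iSup.mp this
      exact Set.mem_iUnion.mpr ⟨W, hW⟩)
  have hcov : ⨆ l : K, (l.1.1 : (P : Scheme.{u}).Opens) = ⊤ := by
    rw [eq_top_iff]
    intro x _
    obtain ⟨W, hW⟩ := Set.mem_iUnion.mp (hK (Set.mem_univ x))
    obtain ⟨hWK, hxW⟩ := Set.mem_iUnion.mp hW
    exact Opens.mem_iSup.mpr ⟨⟨W, hWK⟩, hxW⟩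
  have hC := hres (U.1 : Scheme.{u}) (P : Scheme.{u}) fU hfU K (fun l => l.1.1) (fun l => l.1.2) hcov
  refine ⟨K, inferInstance, fun l => (l.1.1 : Scheme.{u}), fun l => l.1.1.ι ≫ fU,
    fun l => l.1.2, fun l => ?_, hC⟩
  refine sieve_of_left _ f _ (l.1.1.ι ≫ P.ι) ?_ (Sieve.le_generate _ _ _ (Presieve.singleton.mk))
  simp only [Over.homMk_left, Category.assoc]
  rw [morphismRestrict_ι]


section Conv

variable (F : (Over S)ᵒᵖ ⥤ Type v)

omit [C.IsStableUnderComposition] [C.IsStableUnderBaseChange] in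
lemma zar_le_J' (hZ : Presieve.IsSheaf (Scheme.zariskiTopology.over S) F) :
    Scheme.zariskiTopology.over S ≤ Sheaf.finestTopologySingle F := by
  intro X R hR Y g
  exact hZ _ ((Scheme.zariskiTopology.over S).pullback_stable g hR)

omit [C.IsStableUnderComposition] in
lemma gen_mem_J'
    (hCs : ∀ (X X' : Over S) (f : X' ⟶ X), C f.left → Presieve.IsSheafFor F (Presieve.singleton f))
    {X X' : Over S} (f : X' ⟶ X) (hf : C f.left) :
    Sieve.generate (Presieve.singleton f) ∈ Sheaf.finestTopologySingle F X := by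
  intro Y g
  rw [← Sieve.pullbackArrows_comm, Presieve.pullback_singleton, ← Presieve.isSheafFor_iff_generate]
  apply hCs
  have := (IsPullback.of_hasPullback f g).map (Over.forget S)
  exact C.of_isPullback this hf

omit [C.IsStableUnderComposition] in
lemma J_le_J' (hZ : Presieve.IsSheaf (Scheme.zariskiTopology.over S) F)
    (hCs : ∀ (X X' : Over S) (f : X' ⟶ X), C f.left → Presieve.IsSheafFor F (Presieve.singleton f))
    (J : GrothendieckTopology (Over S))
    (hJ : ∀ (X : Over S) (R : Sieve X), R ∈ J X ↔ Cov C X R) :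
    J ≤ Sheaf.finestTopologySingle F := by
  intro X R hR
  rw [hJ, Cov_iff] at hR
  obtain ⟨ι, U, hUa, hUcov, hLC⟩ := hR
  let Z : Sieve X := Sieve.ofArrows (fun i => ovr X (U i).ι) (fun i => ovrHom X (U i).ι)
  have hZmem : Z ∈ Sheaf.finestTopologySingle F X :=
    zar_le_J' F hZ X (zar_of_cover Z (X.left.openCoverOfIsOpenCover U hUcov)
      (fun i => Sieve.ofArrows_mk _ _ i))
  refine (Sheaf.finestTopologySingle F).transitive hZmem R ?_
  intro Y g hg
  obtain ⟨i, a, rfl⟩ := (Sieve.mem_ofArrows_iff _ _ _).mp hg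
  rw [Sieve.pullback_comp]
  apply (Sheaf.finestTopologySingle F).pullback_stable
  obtain ⟨κ, hκ, V, ψ, haff, hRψ, hC⟩ := hLC i
  let Ui : Over S := ovr X (U i).ι
  let σ : (∐ V) ⟶ Ui.left := Limits.Sigma.desc ψ
  let sO : Over S := ovr Ui σ
  let σO : sO ⟶ Ui := ovrHom Ui σ
  have hσ : Sieve.generate (Presieve.singleton σO) ∈ Sheaf.finestTopologySingle F Ui :=
    gen_mem_J' F hCs σO hC
  refine (Sheaf.finestTopologySingle F).transitive hσ _ ?_
  intro Y g hg
  obtain ⟨Y', a, b, ⟨⟩, rfl⟩ := hg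
  rw [Sieve.pullback_comp]
  apply (Sheaf.finestTopologySingle F).pullback_stable
  apply zar_le_J' F hZ
  apply zar_of_cover _ (sigmaOpenCover V)
  intro j
  change R.arrows ((ovrHom sO (Limits.Sigma.ι V j) ≫ σO) ≫ ovrHom X (U i).ι)
  refine sieve_of_left R (ovrHom X (ψ j ≫ (U i).ι)) _ (𝟙 (V j)) ?_ (hRψ j)
  simp [σ, σO, sO, Ui]

end Conv

omit [C.IsStableUnderComposition] in
theorem main2 (h : Hyp C) (hqc : ∀ {A B : Scheme.{u}} (f : A ⟶ B), C f → QuasiCompact f)
    (hres : ∀ (W X' : Scheme.{u}) [IsAffine W] (f : X' ⟶ W), C f →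
      ∀ (κ : Type u) [Finite κ] (A : κ → X'.Opens), (∀ l, IsAffineOpen (A l)) → ⨆ l, A l = ⊤ →
        C (Limits.Sigma.desc fun l => (A l).ι ≫ f))
    (J : GrothendieckTopology (Over S))
    (hJ : ∀ (X : Over S) (R : Sieve X), R ∈ J X ↔ Cov C X R)
    (F : (Over S)ᵒᵖ ⥤ Type v) :
    Presieve.IsSheaf J F ↔
      (Presieve.IsSheaf (Scheme.zariskiTopology.over S) F ∧
        ∀ (X X' : Over S) (f : X' ⟶ X), C f.left → Presieve.IsSheafFor F (Presieve.singleton f)) := by
  constructor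
  · intro hF
    refine ⟨Presieve.isSheaf_of_le F (zar_le h J hJ) hF, fun X X' f hf => ?_⟩
    rw [Presieve.isSheafFor_iff_generate]
    exact hF _ (gen_mem hqc hres J hJ f hf)
  · rintro ⟨hZ, hCs⟩ X R hR
    have := J_le_J' F hZ hCs J hJ X hR X (𝟙 X)
    rwa [Sieve.pullback_id] at this

end Groth.Agent.Lib.Helper64.BigSiteC
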