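import Mathlib
import Groth.Prelude.Def_FlatCA
import Groth.Agent.S12239
import Groth.Agent.Lib.Helper64.BCGen

set_option autoImplicit false
universe u
open TensorProduct

namespace Groth.Agent.Lib.Helper64.CDAtBase

open Groth.Agent.S12239

section existsPrime

variable {R R' T T' : Type u} [CommRing R] [CommRing R'] [Algebra R R'] (p : Ideal R) [p.IsPrime]
  (p' : Ideal R') [p'.IsPrime] [hp' : p'.LiesOver p]
  [CommRing T] [CommRing T'] [Algebra R T] [Algebra R' T'] [Algebra R T']
  [Algebra T T'] [IsScalarTower R R' T'] [IsScalarTower R T T'] [Algebra.IsPushout R R' T T']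

/-- existence of a prime of the pushout over `p'` and a given prime over `p`. -/
lemma exists_prime_over
    (hκ : Function.Bijective (Ideal.ResidueField.mapₐ p p' (Algebra.ofId R R') hp'.over))
    (t : Ideal T) [t.IsPrime] [ht : t.LiesOver p] :
    ∃ t' : Ideal T', t'.IsPrime ∧ t'.LiesOver t ∧ t'.LiesOver p' := by
  obtain ⟨Q, -, hQt⟩ := exists_prime_fiberIdeal p t
  let Φ := fibreIso (S := T) (S' := T') p p' hκ
  let Q' : PrimeSpectrum (p'.Fiber T') :=
    PrimeSpectrum.comap (Φ.symm : p'.Fiber T' →+* p.Fiber T) Q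
  let z := (PrimeSpectrum.preimageEquivFiber R' T' ⟨p', inferInstance⟩).symm Q'
  refine ⟨z.1.asIdeal, z.1.2, ⟨?_⟩, ⟨?_⟩⟩
  · rw [← hQt]
    ext s
    change (1 : p.ResidueField) ⊗ₜ[R] s ∈ Q.asIdeal ↔
      Φ.symm ((1 : p'.ResidueField) ⊗ₜ[R'] (algebraMap T T' s)) ∈ Q.asIdeal
    rw [← fibreIso_one_tmul p p' hκ s, RingEquiv.symm_apply_apply]
  · have := z.2
    simp only [Set.mem_preimage, Set.mem_singleton_iff] at this
    exact (congrArg PrimeSpectrum.asIdeal this).symm

end existsPrime

section tower

lemma comap_tower (X Y Z : Type*) [CommRing X] [CommRing Y] [CommRing Z] [Algebra X Y]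
    [Algebra Y Z] [Algebra X Z] [IsScalarTower X Y Z] (I : Ideal Z) :
    (I.comap (algebraMap Y Z)).comap (algebraMap X Y) = I.comap (algebraMap X Z) := by
  rw [Ideal.comap_comap, ← IsScalarTower.algebraMap_eq]

/-- base change of modules along `A → A'` is base change along `B → B'` for a pushout square. -/
lemma isBaseChange_of_isPushout {B B' A A' M M' : Type*} [CommRing B] [CommRing B'] [CommRing A]
    [CommRing A'] [Algebra B B'] [Algebra B A] [Algebra B' A'] [Algebra A A'] [Algebra B A']
    [IsScalarTower B A A'] [IsScalarTower B B' A'] [Algebra.IsPushout B B' A A']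
    [AddCommGroup M] [Module A M] [Module B M] [IsScalarTower B A M]
    [AddCommGroup M'] [Module A' M'] [Module B' M'] [IsScalarTower B' A' M'] [Module A M']
    [IsScalarTower A A' M'] [Module B M'] [IsScalarTower B B' M'] [IsScalarTower B A M']
    (g : M →ₗ[A] M') (hg : IsBaseChange A' g) : IsBaseChange B' (g.restrictScalars B) := by
  refine IsBaseChange.of_equiv
    ((Algebra.IsPushout.cancelBaseChange B B' A A' M).symm ≪≫ₗ hg.equiv.restrictScalars B')
    (fun x => ?_)
  simp [IsBaseChange.equiv_tmul]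

end tower

section locDim

variable {R R' B B' A A' M M' : Type u} [CommRing R] [CommRing R'] [Algebra R R'] (p : Ideal R)
  [p.IsPrime] (p' : Ideal R') [p'.IsPrime] [hp' : p'.LiesOver p]
  [CommRing B] [CommRing B'] [CommRing A] [CommRing A']
  [Algebra R B] [Algebra R A] [Algebra B A] [IsScalarTower R B A]
  [Algebra R' B'] [Algebra R' A'] [Algebra B' A'] [IsScalarTower R' B' A']
  [Algebra B B'] [Algebra R B'] [IsScalarTower R R' B'] [IsScalarTower R B B']
  [Algebra.IsPushout R R' B B']
  [Algebra A A'] [Algebra R A'] [IsScalarTower R R' A'] [IsScalarTower R A A']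
  [Algebra.IsPushout R R' A A']
  [Algebra B A'] [IsScalarTower B A A'] [IsScalarTower B B' A']
  [AddCommGroup M] [Module A M] [Module B M] [IsScalarTower B A M] [Module.Finite B M]
  [AddCommGroup M'] [Module A' M'] [Module B' M'] [IsScalarTower B' A' M'] [Module A M']
  [IsScalarTower A A' M']

theorem locDim_baseChange (g : M →ₗ[A] M') (hg : IsBaseChange A' g)
    (hκ : Function.Bijective (Ideal.ResidueField.mapₐ p p' (Algebra.ofId R R') hp'.over))
    (q : Ideal B) [q.IsPrime] [q.LiesOver p] (q' : Ideal B') [q'.IsPrime] [q'.LiesOver q]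
    [q'.LiesOver p'] (n : ℕ)
    (h1 : ∃ (ξ : PrimeSpectrum (p.Fiber B))
      (hξ : ξ ∈ Module.support (p.Fiber B) (FlatCA.fiberMod p B M)),
      ξ.asIdeal = FlatCA.fiberIdeal p q ∧
      FlatMor.localDim (Module.support (p.Fiber B) (FlatCA.fiberMod p B M)) ⟨ξ, hξ⟩ = n) :
    ∃ (ξ' : PrimeSpectrum (p'.Fiber B'))
      (hξ' : ξ' ∈ Module.support (p'.Fiber B') (FlatCA.fiberMod p' B' M')),
      ξ'.asIdeal = FlatCA.fiberIdeal p' q' ∧
      FlatMor.localDim (Module.support (p'.Fiber B') (FlatCA.fiberMod p' B' M')) ⟨ξ', hξ'⟩ = n := by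
  let _ : Module B M' := Module.compHom _ (algebraMap B B')
  have : IsScalarTower B B' M' := IsScalarTower.of_algebraMap_smul (fun _ _ => rfl)
  have hsm : ∀ (b : B) (m : M'), b • m = (algebraMap B A b) • m := by
    intro b m
    show (algebraMap B B' b) • m = _
    rw [← algebraMap_smul A' (algebraMap B B' b) m, ← IsScalarTower.algebraMap_apply B B' A',
      IsScalarTower.algebraMap_apply B A A', algebraMap_smul]
  have : IsScalarTower B A M' := IsScalarTower.of_algebraMap_smul (fun b m => (hsm b m).symm)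
  have : Algebra.IsPushout B B' A A' := Groth.Agent.S12231.isPushout_right R B A R' B' A'
  exact exists_localDim_baseChange p p' M M' hκ (g.restrictScalars B)
    (isBaseChange_of_isPushout g hg) q q' n h1

end locDim

end Groth.Agent.Lib.Helper64.CDAtBase
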