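import Mathlib

/-!
# Two-option type families indexed by `Bool` (helper64)

`Two P F b` is `P` for `b = true` and `F` for `b = false`; all structure is defined by matching on
`b`, so that after substituting `b = true` everything reduces definitionally to the structure of `P`.
Used to build ℕ-indexed families which are "good" below a bound and trivial above it without
type-level `if`.
-/

set_option autoImplicit false
universe u v w

namespace Groth.Agent.Lib.Helper64

/-- two-option type family -/
def Two (P F : Type u) : Bool → Type u
  | true => P
  | false => F

namespace Two

variable (P F : Type u)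

instance commRing [CommRing P] [CommRing F] : ∀ b, CommRing (Two P F b)
  | true => inferInstanceAs (CommRing P)
  | false => inferInstanceAs (CommRing F)

/-- algebra structure over a common base -/
instance algebraFrom (K : Type v) [CommRing K] [CommRing P] [CommRing F] [Algebra K P]
    [Algebra K F] : ∀ b, Algebra K (Two P F b)
  | true => inferInstanceAs (Algebra K P)
  | false => inferInstanceAs (Algebra K F)

/-- algebra structure to a common target -/
@[instance_reducible]
def algebraTo (Q : Type v) [CommRing Q] [CommRing P] [CommRing F] [Algebra P Q]
    [Algebra F Q] : ∀ b, Algebra (Two P F b) Q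
  | true => inferInstanceAs (Algebra P Q)
  | false => inferInstanceAs (Algebra F Q)

theorem tower_from_to (K : Type v) (Q : Type w) [CommRing K] [CommRing Q] [CommRing P] [CommRing F]
    [Algebra K P] [Algebra K F] [Algebra P Q] [Algebra F Q] [Algebra K Q]
    [IsScalarTower K P Q] [IsScalarTower K F Q] : ∀ b,
    @IsScalarTower K (Two P F b) Q (algebraFrom P F K b).toSMul (algebraTo P F Q b).toSMul _
  | true => inferInstanceAs (IsScalarTower K P Q)
  | false => inferInstanceAs (IsScalarTower K F Q)

/-- module structure on a common module -/
@[instance_reducible]
def moduleTo (M : Type v) [AddCommGroup M] [CommRing P] [CommRing F] [Module P M]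
    [Module F M] : ∀ b, Module (Two P F b) M
  | true => inferInstanceAs (Module P M)
  | false => inferInstanceAs (Module F M)

theorem tower_to_module (Q : Type v) (M : Type w) [CommRing Q] [AddCommGroup M] [CommRing P]
    [CommRing F] [Algebra P Q] [Algebra F Q] [Module Q M] [Module P M] [Module F M]
    [IsScalarTower P Q M] [IsScalarTower F Q M] : ∀ b,
    @IsScalarTower (Two P F b) Q M (algebraTo P F Q b).toSMul _ (moduleTo P F M b).toSMul
  | true => inferInstanceAs (IsScalarTower P Q M)
  | false => inferInstanceAs (IsScalarTower F Q M)

theorem tower_from_module (K : Type v) (M : Type w) [CommRing K] [AddCommGroup M] [CommRing P]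
    [CommRing F] [Algebra K P] [Algebra K F] [Module K M] [Module P M] [Module F M]
    [IsScalarTower K P M] [IsScalarTower K F M] : ∀ b,
    @IsScalarTower K (Two P F b) M (algebraFrom P F K b).toSMul (moduleTo P F M b).toSMul _
  | true => inferInstanceAs (IsScalarTower K P M)
  | false => inferInstanceAs (IsScalarTower K F M)

end Two

end Groth.Agent.Lib.Helper64
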