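import Mathlib
import Groth.Prelude.Def_FlatCA
import Groth.Agent.Lib.Helper64.Two
import Groth.Agent.Lib.Helper64.BCGen
import Groth.Agent.Lib.Helper54.Reduced
import Groth.Agent.S12231

set_option autoImplicit false
universe u
open TensorProduct

namespace Groth.Agent.Lib.Helper64.CDBase

attribute [local instance] Algebra.TensorProduct.rightAlgebra


open AlgebraicGeometry CategoryTheory CategoryTheory.Limits in
/-- smooth with geometrically irreducible fibres: base change to a domain is a domain -/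
theorem isDomain_tensor_of_smooth_geomIrred {R B : Type u} [CommRing R] [CommRing B] [Algebra R B]
    [Algebra.Smooth R B] (hgi : FlatCA.GeomIrredFibres R B) (T : Type u) [CommRing T] [IsDomain T]
    [Algebra R T] : IsDomain (T ⊗[R] B) := by
  let f := Spec.map (CommRingCat.ofHom (algebraMap R B))
  let f' := Spec.map (CommRingCat.ofHom (algebraMap T (T ⊗[R] B)))
  have hgi' : GeometricallyIrreducible f := hgi
  have hsm : Smooth f := by
    rw [HasRingHomProperty.Spec_iff (P := @Smooth)]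
    exact RingHom.smooth_algebraMap.mpr inferInstance
  have hpo : Algebra.IsPushout R B T (T ⊗[R] B) := Algebra.IsPushout.symm inferInstance
  have hpb := isPullback_SpecMap_of_isPushout _ _ _ _
      (CommRingCat.isPushout_of_isPushout R B T (T ⊗[R] B))
  have hsm' : Smooth f' := MorphismProperty.of_isPullback (P := @Smooth) hpb hsm
  have hgi'' : GeometricallyIrreducible f' :=
    MorphismProperty.of_isPullback (P := @GeometricallyIrreducible) hpb hgi'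
  have hirr : IrreducibleSpace (Spec (CommRingCat.of T)) := inferInstance
  have hirr' : IrreducibleSpace (Spec (CommRingCat.of (T ⊗[R] B))) :=
    GeometricallyIrreducible.irreducibleSpace f' f'.isOpenMap
  have hred : IsReduced (Spec (CommRingCat.of (T ⊗[R] B))) :=
    Groth.Agent.Lib.Helper54.isReduced_of_smooth_scheme f'
  have hint : IsIntegral (Spec (CommRingCat.of (T ⊗[R] B))) :=
    isIntegral_of_irreducibleSpace_of_isReduced _
  exact (affine_isIntegral_iff _).mp hint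

/-- the extension of a prime of `R'` to `R' ⊗[R] B` is prime, for `B` smooth over `R` with
geometrically irreducible fibres. -/
theorem isPrime_map_of_smooth_geomIrred {R B : Type u} [CommRing R] [CommRing B] [Algebra R B]
    [Algebra.Smooth R B] (hgi : FlatCA.GeomIrredFibres R B) (R' : Type u) [CommRing R']
    [Algebra R R'] (p' : Ideal R') [p'.IsPrime] :
    (p'.map (algebraMap R' (R' ⊗[R] B))).IsPrime := by
  have hdom : IsDomain ((R' ⧸ p') ⊗[R] B) := isDomain_tensor_of_smooth_geomIrred hgi (R' ⧸ p')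
  have e := Algebra.TensorProduct.quotientTensorEquiv (R := R) R' B R' p'
  rw [← Ideal.Quotient.isDomain_iff_prime]
  exact e.symm.toMulEquiv.isDomain _


section defs

variable {R S : Type u} [CommRing R] [CommRing S] [Algebra R S]
  {N : Type u} [AddCommGroup N] [Module S N] {p : Ideal R} [p.IsPrime]
  (𝒟 : FlatCA.CompleteDevissage R S N p) (R' : Type u) [CommRing R'] [Algebra R R']

abbrev A' (i : ℕ) : Type u := R' ⊗[R] 𝒟.A i
abbrev B₀ (i : ℕ) : Type u := R' ⊗[R] 𝒟.B i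
abbrev M' (i : ℕ) : Type u := A' 𝒟 R' i ⊗[𝒟.A i] 𝒟.M i

variable (i : ℕ)

noncomputable instance algB₀A : Algebra (B₀ 𝒟 R' i) (A' 𝒟 R' i) := BCGen.algTT R R' (𝒟.B i) (𝒟.A i)

noncomputable instance algB₀A1 : Algebra (B₀ 𝒟 R' i) (A' 𝒟 R' (i + 1)) :=
  BCGen.algTT R R' (𝒟.B i) (𝒟.A (i + 1))

noncomputable instance algBA : Algebra (𝒟.B i) (A' 𝒟 R' i) := BCGen.algBT R R' (𝒟.B i) (𝒟.A i)

noncomputable instance algBA1 : Algebra (𝒟.B i) (A' 𝒟 R' (i + 1)) :=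
  BCGen.algBT R R' (𝒟.B i) (𝒟.A (i + 1))

instance towerR'B₀A : IsScalarTower R' (B₀ 𝒟 R' i) (A' 𝒟 R' i) :=
  BCGen.tower_R'TT (fun _ => rfl)

instance towerR'B₀A1 : IsScalarTower R' (B₀ 𝒟 R' i) (A' 𝒟 R' (i + 1)) :=
  BCGen.tower_R'TT (fun _ => rfl)

instance towerBAA : IsScalarTower (𝒟.B i) (𝒟.A i) (A' 𝒟 R' i) :=
  BCGen.tower_BAT (fun _ => rfl)

instance towerBAA1 : IsScalarTower (𝒟.B i) (𝒟.A (i + 1)) (A' 𝒟 R' (i + 1)) :=
  BCGen.tower_BAT (fun _ => rfl)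

instance towerBB₀A : IsScalarTower (𝒟.B i) (B₀ 𝒟 R' i) (A' 𝒟 R' i) :=
  BCGen.tower_BTT (fun _ => rfl) (fun _ => rfl)

instance towerBB₀A1 : IsScalarTower (𝒟.B i) (B₀ 𝒟 R' i) (A' 𝒟 R' (i + 1)) :=
  BCGen.tower_BTT (fun _ => rfl) (fun _ => rfl)

/-- the base change map of modules -/
noncomputable abbrev gM (i : ℕ) : 𝒟.M i →ₗ[𝒟.A i] M' 𝒟 R' i := TensorProduct.mk (𝒟.A i) (A' 𝒟 R' i) (𝒟.M i) 1

/-- the base change of `α i` -/
noncomputable def α₀ : (Fin (𝒟.r i) → B₀ 𝒟 R' i) →ₗ[B₀ 𝒟 R' i] M' 𝒟 R' i :=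
  Fintype.linearCombination (B₀ 𝒟 R' i) (fun j => gM 𝒟 R' i (𝒟.α i (Pi.single j 1)))

/-- the base change map of free modules -/
noncomputable abbrev gX : (Fin (𝒟.r i) → 𝒟.B i) →ₗ[𝒟.B i] (Fin (𝒟.r i) → B₀ 𝒟 R' i) :=
  (Algebra.linearMap (𝒟.B i) (B₀ 𝒟 R' i)).compLeft (Fin (𝒟.r i))

theorem hgX : IsBaseChange (B₀ 𝒟 R' i) (gX 𝒟 R' i) :=
  IsBaseChange.finitePow (Fin (𝒟.r i)) (IsBaseChange.linearMap (𝒟.B i) (B₀ 𝒟 R' i))

theorem hgY : IsBaseChange (B₀ 𝒟 R' i) ((gM 𝒟 R' i).restrictScalars (𝒟.B i)) :=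
  BCGen.isBaseChange_mk (fun _ => rfl) (𝒟.M i)

theorem hgZ : IsBaseChange (B₀ 𝒟 R' i) ((gM 𝒟 R' (i + 1)).restrictScalars (𝒟.B i)) :=
  BCGen.isBaseChange_mk (fun _ => rfl) (𝒟.M (i + 1))

theorem α₀_comm (x : Fin (𝒟.r i) → 𝒟.B i) :
    α₀ 𝒟 R' i (gX 𝒟 R' i x) = gM 𝒟 R' i (𝒟.α i x) := by
  rw [α₀, Fintype.linearCombination_apply]
  have hx : x = ∑ j, x j • (Pi.single j 1 : Fin (𝒟.r i) → 𝒟.B i) := by
    ext k
    simp [Finset.sum_apply, Pi.single_apply]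
  conv_rhs => rw [hx, map_sum, map_sum]
  refine Finset.sum_congr rfl (fun j _ => ?_)
  rw [map_smul]
  show algebraMap (𝒟.B i) (B₀ 𝒟 R' i) (x j) • _ = ((gM 𝒟 R' i).restrictScalars (𝒟.B i)) (x j • _)
  rw [map_smul, algebraMap_smul]
  rfl

/-- `A i → A' i` -/
@[instance_reducible]
noncomputable def algAA : Algebra (𝒟.A i) (A' 𝒟 R' i) := inferInstance

/-- `R → A' i` -/
@[instance_reducible]
noncomputable def algRA : Algebra R (A' 𝒟 R' i) := inferInstance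

theorem towerRR'A : IsScalarTower R R' (A' 𝒟 R' i) := inferInstance

theorem towerRAA : IsScalarTower R (𝒟.A i) (A' 𝒟 R' i) := inferInstance

/-- the `A i`-module structure of `M' i` -/
@[instance_reducible]
noncomputable def modAM : Module (𝒟.A i) (M' 𝒟 R' i) := inferInstance

theorem towerAAM : IsScalarTower (𝒟.A i) (A' 𝒟 R' i) (M' 𝒟 R' i) := inferInstance

theorem pushoutA : Algebra.IsPushout R R' (𝒟.A i) (A' 𝒟 R' i) := inferInstance

theorem baseChange_gM : IsBaseChange (A' 𝒟 R' i) (gM 𝒟 R' i) :=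
  TensorProduct.isBaseChange (𝒟.A i) (𝒟.M i) (A' 𝒟 R' i)

theorem range_α₀ : LinearMap.range (α₀ 𝒟 R' i) =
    Submodule.span (B₀ 𝒟 R' i) ((gM 𝒟 R' i) '' (LinearMap.range (𝒟.α i) : Set (𝒟.M i))) := by
  apply le_antisymm
  · rw [α₀, Fintype.range_linearCombination]
    apply Submodule.span_mono
    rintro _ ⟨j, rfl⟩
    exact ⟨_, ⟨_, rfl⟩, rfl⟩
  · rw [Submodule.span_le]
    rintro _ ⟨_, ⟨x, rfl⟩, rfl⟩
    exact ⟨gX 𝒟 R' i x, α₀_comm 𝒟 R' i x⟩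

theorem cokerLast₀ (h : Function.Surjective (𝒟.α i)) : Function.Surjective (α₀ 𝒟 R' i) := by
  rw [← LinearMap.range_eq_top, range_α₀, LinearMap.range_eq_top.mpr h]
  have := BCGen.span_range_eq_top_of_isBaseChange (hgY 𝒟 R' i)
  rw [← this]
  congr 1
  ext y
  simp

theorem surj₀ (hi : i + 1 < 𝒟.n) :
    Function.Surjective (algebraMap (B₀ 𝒟 R' i) (A' 𝒟 R' (i + 1))) :=
  BCGen.surjective_TT (fun _ => rfl) (𝒟.surjBA' i hi)

theorem fp₀ (hi : i + 1 < 𝒟.n) : Algebra.FinitePresentation (B₀ 𝒟 R' i) (A' 𝒟 R' (i + 1)) :=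
  have := 𝒟.fpBA' i hi
  BCGen.fp_TT (fun _ => rfl)

theorem finite₀ (hi : i < 𝒟.n) : Module.Finite (B₀ 𝒟 R' i) (A' 𝒟 R' i) :=
  have := 𝒟.finiteBA i hi
  BCGen.finite_TT (fun _ => rfl)

theorem smooth₀ (hi : i < 𝒟.n) : Algebra.Smooth R' (B₀ 𝒟 R' i) :=
  have := 𝒟.smooth i hi
  inferInstance

open AlgebraicGeometry CategoryTheory in
theorem geomIrred₀ (hi : i < 𝒟.n) : FlatCA.GeomIrredFibres R' (B₀ 𝒟 R' i) := by
  have : Algebra.IsPushout R (𝒟.B i) R' (B₀ 𝒟 R' i) := Algebra.IsPushout.symm inferInstance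
  have hpb := AlgebraicGeometry.isPullback_SpecMap_of_isPushout _ _ _ _
    (CommRingCat.isPushout_of_isPushout R (𝒟.B i) R' (B₀ 𝒟 R' i))
  exact CategoryTheory.MorphismProperty.of_isPullback
    (P := @AlgebraicGeometry.GeometricallyIrreducible) hpb (𝒟.geomIrred i hi)

theorem finiteM₀ (hi : i < 𝒟.n) : Module.Finite (A' 𝒟 R' i) (M' 𝒟 R' i) :=
  have := 𝒟.finiteM i hi
  inferInstance

/-- the cokernel identification for the base change -/
noncomputable def isoCoker₀ (hi : i + 1 < 𝒟.n) :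
    (M' 𝒟 R' i ⧸ LinearMap.range (α₀ 𝒟 R' i)) ≃ₗ[B₀ 𝒟 R' i] M' 𝒟 R' (i + 1) :=
  (BCGen.nonempty_cokerEquiv_of_isBaseChange (𝒟.α i) (α₀ 𝒟 R' i) (hgX 𝒟 R' i) (hgY 𝒟 R' i)
    (α₀_comm 𝒟 R' i) (hgZ 𝒟 R' i) (𝒟.isoCoker i hi)).some

variable (p' : Ideal R') [p'.IsPrime] [p'.LiesOver p]

omit [p'.LiesOver p] in
theorem hp₀ (hi : i < 𝒟.n) : (p'.map (algebraMap R' (B₀ 𝒟 R' i))).IsPrime :=
  have := 𝒟.smooth i hi
  isPrime_map_of_smooth_geomIrred (𝒟.geomIrred i hi) R' p'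

omit [p'.IsPrime] in
theorem fibreIso₀ (hi : i < 𝒟.n) [(p'.map (algebraMap R' (B₀ 𝒟 R' i))).IsPrime] :
    Function.Bijective
      ((α₀ 𝒟 R' i).baseChange (p'.map (algebraMap R' (B₀ 𝒟 R' i))).ResidueField) := by
  have := 𝒟.smooth i hi
  have hPP : p.map (algebraMap R (𝒟.B i)) =
      (p'.map (algebraMap R' (B₀ 𝒟 R' i))).comap (algebraMap (𝒟.B i) (B₀ 𝒟 R' i)) :=
    (BCGen.comap_map_eq_of_flat R (𝒟.B i) R' p p').symm
  let φ := Ideal.ResidueField.map (p.map (algebraMap R (𝒟.B i)))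
    (p'.map (algebraMap R' (B₀ 𝒟 R' i))) (algebraMap (𝒟.B i) (B₀ 𝒟 R' i)) hPP
  let _ : Algebra (p.map (algebraMap R (𝒟.B i))).ResidueField
    (p'.map (algebraMap R' (B₀ 𝒟 R' i))).ResidueField := φ.toAlgebra
  have : IsScalarTower (𝒟.B i) (p.map (algebraMap R (𝒟.B i))).ResidueField
      (p'.map (algebraMap R' (B₀ 𝒟 R' i))).ResidueField :=
    .of_algebraMap_eq (fun b => by
      rw [IsScalarTower.algebraMap_apply (𝒟.B i) (B₀ 𝒟 R' i)
        (p'.map (algebraMap R' (B₀ 𝒟 R' i))).ResidueField]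
      exact (Ideal.ResidueField.map_algebraMap _ _ _ hPP b).symm)
  exact BCGen.bijective_baseChange_of_isBaseChange (𝒟.α i) (α₀ 𝒟 R' i) (hgX 𝒟 R' i) (hgY 𝒟 R' i)
    (α₀_comm 𝒟 R' i) (p.map (algebraMap R (𝒟.B i))).ResidueField
    (p'.map (algebraMap R' (B₀ 𝒟 R' i))).ResidueField (𝒟.fibreIso i hi)

end defs

section S'

variable {R S : Type u} [CommRing R] [CommRing S] [Algebra R S]
  {N : Type u} [AddCommGroup N] [Module S N] {p : Ideal R} [p.IsPrime]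
  (𝒟 : FlatCA.CompleteDevissage R S N p) (R' : Type u) [CommRing R'] [Algebra R R']
  (S' : Type u) [CommRing S'] [Algebra R' S'] [Algebra R S'] [Algebra S S'] [IsScalarTower R R' S']
  [IsScalarTower R S S'] [Algebra.IsPushout R R' S S']

/-- `S' → R' ⊗ A 0` -/
noncomputable def φ₀ : S' →ₐ[R'] A' 𝒟 R' 0 :=
  (Algebra.TensorProduct.map (AlgHom.id R' R') (IsScalarTower.toAlgHom R S (𝒟.A 0))).comp
    (Algebra.IsPushout.equiv R R' S S').symm.toAlgHom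

/-- the `S'`-algebra structure on `A' 0` -/
@[instance_reducible]
noncomputable def algS'A : Algebra S' (A' 𝒟 R' 0) := (φ₀ 𝒟 R' S').toRingHom.toAlgebra

/-- the `S`-algebra structure on `A' 0` -/
@[instance_reducible]
noncomputable def algSA : Algebra S (A' 𝒟 R' 0) :=
  ((algebraMap (𝒟.A 0) (A' 𝒟 R' 0)).comp (algebraMap S (𝒟.A 0))).toAlgebra

theorem φ₀_algebraMap (s : S) : φ₀ 𝒟 R' S' (algebraMap S S' s) =
    (1 : R') ⊗ₜ[R] algebraMap S (𝒟.A 0) s := by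
  have h : (Algebra.IsPushout.equiv R R' S S').symm (algebraMap S S' s) = (1 : R') ⊗ₜ[R] s := by
    rw [AlgEquiv.symm_apply_eq, Algebra.IsPushout.equiv_tmul, map_one, one_mul]
  simp [φ₀, h]

attribute [local instance] algS'A algSA

instance towerR'S'A : IsScalarTower R' S' (A' 𝒟 R' 0) :=
  IsScalarTower.of_algebraMap_eq (fun x => ((φ₀ 𝒟 R' S').commutes x).symm)

omit [Algebra R S] in
instance towerSAA : IsScalarTower S (𝒟.A 0) (A' 𝒟 R' 0) :=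
  IsScalarTower.of_algebraMap_eq (fun _ => rfl)

instance towerSS'A : IsScalarTower S S' (A' 𝒟 R' 0) :=
  IsScalarTower.of_algebraMap_eq (fun s => by
    show (1 : R') ⊗ₜ[R] algebraMap S (𝒟.A 0) s = φ₀ 𝒟 R' S' (algebraMap S S' s)
    rw [φ₀_algebraMap])

instance pushoutS : Algebra.IsPushout S S' (𝒟.A 0) (A' 𝒟 R' 0) :=
  Groth.Agent.S12231.isPushout_right R S (𝒟.A 0) R' S' (A' 𝒟 R' 0)

theorem surjSA₀ : Function.Surjective (algebraMap S' (A' 𝒟 R' 0)) :=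
  Groth.Agent.S12231.surjective_of_isPushout S S' (𝒟.A 0) (A' 𝒟 R' 0) 𝒟.surjSA

theorem fpSA₀ : Algebra.FinitePresentation S' (A' 𝒟 R' 0) :=
  have := 𝒟.fpSA
  Algebra.FinitePresentation.equiv (Algebra.IsPushout.equiv S S' (𝒟.A 0) (A' 𝒟 R' 0))

variable (N' : Type u) [AddCommGroup N'] [Module S' N'] [Module S N'] [IsScalarTower S S' N']
  (f : N →ₗ[S] N') (hf : IsBaseChange S' f)

/-- the identification of `N'` with the first module -/
noncomputable def isoN₀ : N' ≃ₗ[S'] M' 𝒟 R' 0 :=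
  hf.equiv.symm ≪≫ₗ
    TensorProduct.AlgebraTensorModule.congr (LinearEquiv.refl S' S') 𝒟.isoN ≪≫ₗ
    (Algebra.IsPushout.cancelBaseChange S S' (𝒟.A 0) (A' 𝒟 R' 0) (𝒟.M 0)).symm

theorem isoN₀_apply (x : N) : isoN₀ 𝒟 R' S' N' f hf (f x) = gM 𝒟 R' 0 (𝒟.isoN x) := by
  simp [isoN₀, IsBaseChange.equiv_symm_apply]

end S'

section build

variable {R S : Type u} [CommRing R] [CommRing S] [Algebra R S]
  {N : Type u} [AddCommGroup N] [Module S N] {p : Ideal R} [p.IsPrime]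
  (𝒟 : FlatCA.CompleteDevissage R S N p) (R' : Type u) [CommRing R'] [Algebra R R']
  (p' : Ideal R') [p'.IsPrime] [p'.LiesOver p]
  (S' : Type u) [CommRing S'] [Algebra R' S'] [Algebra R S'] [Algebra S S'] [IsScalarTower R R' S']
  [IsScalarTower R S S'] [Algebra.IsPushout R R' S S']
  (N' : Type u) [AddCommGroup N'] [Module S' N'] [Module S N'] [IsScalarTower S S' N']
  (f : N →ₗ[S] N') (hf : IsBaseChange S' f)

/-- the piecewise family of smooth algebras -/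
abbrev B' (i : ℕ) (b : Bool) : Type u := Two (B₀ 𝒟 R' i) R' b

/-- the piecewise `α` -/
noncomputable def αTwo (i : ℕ) : ∀ b : Bool,
    @LinearMap (B' 𝒟 R' i b) (B' 𝒟 R' i b) _ _ (RingHom.id _)
      (Fin (𝒟.r i) → B' 𝒟 R' i b) (M' 𝒟 R' i) _ _ _
      (Two.moduleTo (B₀ 𝒟 R' i) R' (M' 𝒟 R' i) b)
  | true => α₀ 𝒟 R' i
  | false => 0

omit [p'.LiesOver p] in
theorem hpTwo (i : ℕ) (b : Bool)
    (h : b = true → (p'.map (algebraMap R' (B₀ 𝒟 R' i))).IsPrime) :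
    (p'.map (algebraMap R' (B' 𝒟 R' i b))).IsPrime := by
  cases b
  · show (p'.map (algebraMap R' R')).IsPrime
    rw [Algebra.algebraMap_self, Ideal.map_id]
    infer_instance
  · exact h rfl

attribute [local instance] algS'A algSA Two.algebraTo Two.moduleTo

theorem surjTwo (i : ℕ) (hi : i + 1 < 𝒟.n) : ∀ b, b = true →
    Function.Surjective (algebraMap (B' 𝒟 R' i b) (A' 𝒟 R' (i + 1)))
  | true, _ => surj₀ 𝒟 R' i hi

theorem fpTwo (i : ℕ) (hi : i + 1 < 𝒟.n) : ∀ b, b = true →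
    Algebra.FinitePresentation (B' 𝒟 R' i b) (A' 𝒟 R' (i + 1))
  | true, _ => fp₀ 𝒟 R' i hi

theorem finiteTwo (i : ℕ) (hi : i < 𝒟.n) : ∀ b, b = true →
    @Module.Finite (B' 𝒟 R' i b) (A' 𝒟 R' i) _ _
      (Two.algebraTo (B₀ 𝒟 R' i) R' (A' 𝒟 R' i) b).toModule
  | true, _ => finite₀ 𝒟 R' i hi

theorem smoothTwo (i : ℕ) (hi : i < 𝒟.n) : ∀ b, b = true →
    Algebra.Smooth R' (B' 𝒟 R' i b)
  | true, _ => smooth₀ 𝒟 R' i hi

theorem geomIrredTwo (i : ℕ) (hi : i < 𝒟.n) : ∀ b, b = true →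
    FlatCA.GeomIrredFibres R' (B' 𝒟 R' i b)
  | true, _ => geomIrred₀ 𝒟 R' i hi

/-- the cokernel identification, piecewise -/
noncomputable def isoCokerTwo (i : ℕ) (hi : i + 1 < 𝒟.n) : ∀ b, b = true →
    ((M' 𝒟 R' i ⧸ LinearMap.range (αTwo 𝒟 R' i b)) ≃ₗ[B' 𝒟 R' i b] M' 𝒟 R' (i + 1))
  | true, _ => isoCoker₀ 𝒟 R' i hi

omit [p'.IsPrime] in
theorem fibreIsoTwo (i : ℕ) (hi : i < 𝒟.n) (b : Bool) (hb : b = true)
    (hP : (p'.map (algebraMap R' (B' 𝒟 R' i b))).IsPrime) :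
    Function.Bijective
      ((αTwo 𝒟 R' i b).baseChange (p'.map (algebraMap R' (B' 𝒟 R' i b))).ResidueField) := by
  subst hb
  have hP' : (p'.map (algebraMap R' (B₀ 𝒟 R' i))).IsPrime := hP
  exact fibreIso₀ 𝒟 R' i p' hi

theorem cokerLastTwo (i : ℕ) (h : Function.Surjective (𝒟.α i)) : ∀ b, b = true →
    Function.Surjective (αTwo 𝒟 R' i b)
  | true, _ => cokerLast₀ 𝒟 R' i h

/-- `B i → B' i` below the length -/
@[instance_reducible]
noncomputable def algBTwo (i : ℕ) : ∀ b, b = true → Algebra (𝒟.B i) (B' 𝒟 R' i b)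
  | true, _ => inferInstanceAs (Algebra (𝒟.B i) (B₀ 𝒟 R' i))

theorem towerRR'Two (i : ℕ) : ∀ b, IsScalarTower R R' (B' 𝒟 R' i b)
  | true => inferInstanceAs (IsScalarTower R R' (B₀ 𝒟 R' i))
  | false => inferInstanceAs (IsScalarTower R R' R')

theorem towerRBTwo (i : ℕ) : ∀ b (h : b = true),
    @IsScalarTower R (𝒟.B i) (B' 𝒟 R' i b) _ (algBTwo 𝒟 R' i b h).toSMul _
  | true, _ => inferInstanceAs (IsScalarTower R (𝒟.B i) (B₀ 𝒟 R' i))

theorem towerBTwoA (i : ℕ) : ∀ b (h : b = true),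
    @IsScalarTower (𝒟.B i) (B' 𝒟 R' i b) (A' 𝒟 R' i) (algBTwo 𝒟 R' i b h).toSMul _ _
  | true, _ => inferInstanceAs (IsScalarTower (𝒟.B i) (B₀ 𝒟 R' i) (A' 𝒟 R' i))

theorem towerBTwoA1 (i : ℕ) : ∀ b (h : b = true),
    @IsScalarTower (𝒟.B i) (B' 𝒟 R' i b) (A' 𝒟 R' (i + 1)) (algBTwo 𝒟 R' i b h).toSMul _ _
  | true, _ => inferInstanceAs (IsScalarTower (𝒟.B i) (B₀ 𝒟 R' i) (A' 𝒟 R' (i + 1)))

theorem pushoutTwo (i : ℕ) : ∀ b (h : b = true),
    @Algebra.IsPushout R R' _ _ _ (𝒟.B i) (B' 𝒟 R' i b) _ _ _ _ (algBTwo 𝒟 R' i b h) _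
      (towerRBTwo 𝒟 R' i b h) (towerRR'Two 𝒟 R' i b)
  | true, _ => inferInstanceAs (Algebra.IsPushout R R' (𝒟.B i) (B₀ 𝒟 R' i))

theorem rangeTwo (i : ℕ) : ∀ b, b = true → LinearMap.range (αTwo 𝒟 R' i b) =
    Submodule.span (B' 𝒟 R' i b) ((gM 𝒟 R' i) '' (LinearMap.range (𝒟.α i) : Set (𝒟.M i)))
  | true, _ => range_α₀ 𝒟 R' i

/-- the base-changed complete dévissage -/
noncomputable def mkCD : FlatCA.CompleteDevissage R' S' N' p' where
  n := 𝒟.n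
  pos := 𝒟.pos
  A := A' 𝒟 R'
  B := fun i => B' 𝒟 R' i (decide (i < 𝒟.n))
  M := M' 𝒟 R'
  r := 𝒟.r
  cA := fun _ => inferInstance
  cB := fun _ => Two.commRing _ _ _
  aRA := fun _ => inferInstance
  aRB := fun _ => Two.algebraFrom _ _ R' _
  aBA := fun i => Two.algebraTo _ _ (A' 𝒟 R' i) _
  tRBA := fun i => Two.tower_from_to _ _ R' (A' 𝒟 R' i) _
  aSA := algS'A 𝒟 R' S'
  tRSA := towerR'S'A 𝒟 R' S'
  aBA' := fun i => Two.algebraTo _ _ (A' 𝒟 R' (i + 1)) _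
  tRBA' := fun i => Two.tower_from_to _ _ R' (A' 𝒟 R' (i + 1)) _
  gM := fun _ => inferInstance
  mAM := fun _ => inferInstance
  mBM := fun i => Two.moduleTo _ _ (M' 𝒟 R' i) _
  tBAM := fun i => Two.tower_to_module _ _ (A' 𝒟 R' i) (M' 𝒟 R' i) _
  mRM := fun _ => inferInstance
  tRBM := fun i => Two.tower_from_module _ _ R' (M' 𝒟 R' i) _
  mSM := inferInstance
  tSAM := inferInstance
  mB'M := fun i => Two.moduleTo _ _ (M' 𝒟 R' (i + 1)) _
  tB'AM := fun i => Two.tower_to_module _ _ (A' 𝒟 R' (i + 1)) (M' 𝒟 R' (i + 1)) _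
  hp := fun i => hpTwo 𝒟 R' p' i _ (fun h => hp₀ 𝒟 R' i p' (of_decide_eq_true h))
  α := fun i => αTwo 𝒟 R' i _
  surjSA := surjSA₀ 𝒟 R' S'
  fpSA := fpSA₀ 𝒟 R' S'
  surjBA' := fun i hi => surjTwo 𝒟 R' i hi _ (decide_eq_true (Nat.lt_of_succ_lt hi))
  fpBA' := fun i hi => fpTwo 𝒟 R' i hi _ (decide_eq_true (Nat.lt_of_succ_lt hi))
  finiteBA := fun i hi => finiteTwo 𝒟 R' i hi _ (decide_eq_true hi)
  smooth := fun i hi => smoothTwo 𝒟 R' i hi _ (decide_eq_true hi)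
  geomIrred := fun i hi => geomIrredTwo 𝒟 R' i hi _ (decide_eq_true hi)
  finiteM := fun i hi => finiteM₀ 𝒟 R' i hi
  isoN := isoN₀ 𝒟 R' S' N' f hf
  isoCoker := fun i hi => isoCokerTwo 𝒟 R' i hi _ (decide_eq_true (Nat.lt_of_succ_lt hi))
  fibreIso := fun i hi => fibreIsoTwo 𝒟 R' p' i hi _ (decide_eq_true hi) _
  cokerLast := cokerLastTwo 𝒟 R' (𝒟.n - 1) 𝒟.cokerLast _
    (decide_eq_true (Nat.sub_one_lt_of_lt 𝒟.pos))

end build

end Groth.Agent.Lib.Helper64.CDBase
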