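import Mathlib
import Groth.Prelude
import Groth.Agent.Lib.Helper38.H0Const
import Groth.Agent.Lib.Helper75.H0k
import Groth.Agent.Lib.Helper17.ProjSpaceProper

/-!
# `R = H⁰(X, O_X)` for an integral flat projective scheme over a Dedekind domain with
geometrically integral generic fibre (helper64)
-/

set_option autoImplicit false
set_option linter.style.haveILetI false
universe u

namespace Groth.Agent.Lib.Helper64.DedekindH0

open AlgebraicGeometry CategoryTheory Limits TopologicalSpace Opposite
open Groth.Agent.Lib.Helper38.H0Const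

/-- the algebraic core. -/
theorem bijective_of_isPushout {R A K B : Type u} [CommRing R] [IsDomain R] [IsIntegrallyClosed R]
    [CommRing A] [IsDomain A] [Field K] [CommRing B] [Algebra R K] [IsFractionRing R K]
    (a : R →+* A) (ψ : A →+* B) (c : K →+* B)
    (h : IsPushout (CommRingCat.ofHom a) (CommRingCat.ofHom (algebraMap R K)) (CommRingCat.ofHom ψ)
      (CommRingCat.ofHom c))
    (ha : a.IsIntegral) (hc : Function.Bijective c) : Function.Bijective a := by
  have hcomm : ψ.comp a = c.comp (algebraMap R K) := congr($(h.1.1).hom)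
  have hainj : Function.Injective a := by
    rw [injective_iff_map_eq_zero]
    intro r hr
    have h1 : c (algebraMap R K r) = 0 := by
      have := RingHom.congr_fun hcomm r
      simp only [RingHom.comp_apply] at this
      rw [← this, hr, map_zero]
    have h2 : algebraMap R K r = 0 := hc.1 (h1.trans (map_zero c).symm)
    exact (IsFractionRing.injective R K) (h2.trans (map_zero _).symm)
  algebraize [a, ψ, c, ψ.comp a]
  have : IsScalarTower R K B := .of_algebraMap_eq' hcomm
  have h' : Algebra.IsPushout R A K B := CommRingCat.isPushout_iff_isPushout.mp h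
  have h'' : Algebra.IsPushout R K A B := h'.symm
  have hbc : IsBaseChange K (IsScalarTower.toAlgHom R A B).toLinearMap := h''.out
  have hloc : IsLocalizedModule (nonZeroDivisors R) (IsScalarTower.toAlgHom R A B).toLinearMap :=
    (isLocalizedModule_iff_isBaseChange (nonZeroDivisors R) K _).mpr hbc
  have hψinj : Function.Injective ψ := by
    rw [injective_iff_map_eq_zero]
    intro x hx
    have hx' : (IsScalarTower.toAlgHom R A B).toLinearMap x = 0 := hx
    obtain ⟨s, hs⟩ := (IsLocalizedModule.eq_zero_iff (nonZeroDivisors R) _).mp hx'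
    have hs' : a s * x = 0 := by
      rw [← hs]
      rfl
    rcases mul_eq_zero.mp hs' with h0 | h0
    · exact absurd (hainj (h0.trans (map_zero a).symm)) (nonZeroDivisors.coe_ne_zero s)
    · exact h0
  refine ⟨hainj, fun x => ?_⟩
  obtain ⟨k₀, hk₀⟩ := hc.2 (ψ x)
  have hxint : IsIntegral R x := ha x
  have h1 : IsIntegral R (ψ x) := hxint.map (IsScalarTower.toAlgHom R A B)
  have h2 : IsIntegral R k₀ := by
    rw [← hk₀] at h1
    exact (isIntegral_algHom_iff (IsScalarTower.toAlgHom R K B) hc.1).mp h1
  obtain ⟨r, hr⟩ := IsIntegrallyClosed.algebraMap_eq_of_integral h2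
  refine ⟨r, hψinj ?_⟩
  have := RingHom.congr_fun hcomm r
  simp only [RingHom.comp_apply] at this
  rw [this, hr, hk₀]

theorem main {R : Type u} [CommRing R] [IsDedekindDomain R]
    (X : Over (Spec (CommRingCat.of R))) [IsIntegral X.left]
    [Flat X.hom] (hproj : Neron.IsProjectiveOver R X)
    [GeometricallyIrreducible ((Neron.genericFibre R).obj X).hom]
    [GeometricallyReduced ((Neron.genericFibre R).obj X).hom] :
    Function.Bijective (Coh.toGlobal X.hom) := by
  let K := FractionRing R
  let f := X.hom
  obtain ⟨n, i, hi, hif⟩ := hproj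
  haveI : IsProper f := by
    change IsProper X.hom
    rw [← hif]
    haveI := hi
    haveI := Groth.Agent.Lib.Helper17.ProjSpaceProper.isProper_toBase n (Spec (CommRingCat.of R))
    infer_instance
  let φ : CommRingCat.of R ⟶ CommRingCat.of K := CommRingCat.ofHom (algebraMap R K)
  let g : pullback f (Spec.map φ) ⟶ Spec (CommRingCat.of K) := pullback.snd f (Spec.map φ)
  haveI hgI : GeometricallyIrreducible g :=
    ‹GeometricallyIrreducible ((Neron.genericFibre R).obj X).hom›
  haveI hgR : GeometricallyReduced g := ‹GeometricallyReduced ((Neron.genericFibre R).obj X).hom›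
  haveI : GeometricallyConnected g := ⟨fun K' _ y Z fst snd h => by
    haveI : IrreducibleSpace Z :=
      GeometricallyIrreducible.geometrically_irreducibleSpace (f := g) y fst snd h
    infer_instance⟩
  haveI : IsProper g := inferInstance
  letI instXK : (pullback f (Spec.map φ)).Over (Spec (CommRingCat.of K)) := ⟨g⟩
  haveI : IsProper ((pullback f (Spec.map φ)) ↘ Spec (CommRingCat.of K)) := ‹IsProper g›
  haveI : GeometricallyConnected ((pullback f (Spec.map φ)) ↘ Spec (CommRingCat.of K)) :=
    ‹GeometricallyConnected g›
  haveI : GeometricallyReduced ((pullback f (Spec.map φ)) ↘ Spec (CommRingCat.of K)) := hgR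
  have h1 := Groth.Agent.Lib.Helper38.H0Const.main K (pullback f (Spec.map φ))
  have hgsurj : Function.Surjective g.appTop.hom :=
    Groth.Agent.Lib.Helper75.H0k.appTop_surjective_of_finrank_eq_one K _ h1
  have : CompactSpace X.left := (quasiCompact_iff_compactSpace f).mp inferInstance
  have : QuasiSeparatedSpace X.left := (quasiSeparated_iff_quasiSeparatedSpace f).mp inferInstance
  have : Flat (Spec.map φ) := by
    rw [HasRingHomProperty.Spec_iff (P := @Flat)]
    change (algebraMap R K).Flat
    rw [RingHom.flat_algebraMap_iff]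
    exact IsLocalization.flat K (nonZeroDivisors R)
  have hpo := Groth.Agent.Lib.Helper38.GammaBC.isPushout_appTop f φ
  have hpo' : IsPushout (CommRingCat.ofHom (tg f)) (CommRingCat.ofHom (algebraMap R K))
      (CommRingCat.ofHom (pullback.fst f (Spec.map φ)).appTop.hom) (CommRingCat.ofHom (tg g)) := by
    refine hpo.of_iso (Scheme.ΓSpecIso (CommRingCat.of R)) (Iso.refl _)
      (Scheme.ΓSpecIso (CommRingCat.of K)) (Iso.refl _) ?_ ?_ ?_ ?_
    · simp [tg]
    · simp [φ]
    · simp
    · simp [tg, g]
  -- `c` is bijective
  haveI : Surjective g := inferInstance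
  obtain ⟨y, -⟩ := g.surjective (Nonempty.some inferInstance)
  haveI : Nonempty (⊤ : (pullback f (Spec.map φ)).Opens) := ⟨⟨y, trivial⟩⟩
  haveI : Nontrivial Γ(pullback f (Spec.map φ), ⊤) := inferInstance
  have hc : Function.Bijective (tg g) := by
    refine ⟨(tg g).injective, ?_⟩
    have h2 : Function.Surjective (Scheme.ΓSpecIso (CommRingCat.of K)).inv.hom :=
      (ConcreteCategory.bijective_of_isIso (Scheme.ΓSpecIso (CommRingCat.of K)).inv).2
    exact hgsurj.comp h2
  -- integrality
  have ha : (tg f).IsIntegral := by
    have h3 : f.appTop.hom.IsIntegral := isIntegral_appTop_of_universallyClosed f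
    exact RingHom.IsIntegral.trans _ _
      (RingHom.isIntegral_of_surjective _
        (ConcreteCategory.bijective_of_isIso (Scheme.ΓSpecIso (CommRingCat.of R)).inv).2) h3
  haveI : Nonempty (⊤ : X.left.Opens) := ⟨⟨genericPoint X.left, trivial⟩⟩
  haveI : IsDomain Γ(X.left, ⊤) := inferInstance
  exact bijective_of_isPushout (K := K) (tg f) _ (tg g) hpo' ha hc

end Groth.Agent.Lib.Helper64.DedekindH0
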