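import Mathlib
import Groth.Prelude
import Groth.Agent.Lib.Helper50.FiberBC
import Groth.Agent.Lib.Helper64.GalDisj

/-!
# Reducible Galois base change forces a factorisation through a subextension (helper64)
-/

set_option autoImplicit false
set_option linter.style.haveILetI false
universe u

namespace Groth.Agent.Lib.Helper64.GalFactor

open AlgebraicGeometry CategoryTheory Limits TensorProduct TopologicalSpace Opposite

/-- If `g` is universally open and surjective and the fibre of `pr₁ : X ×_S T ⟶ X` over the
generic point of the irreducible `X` is preirreducible, then `X ×_S T` is irreducible. -/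
theorem irreducibleSpace_pullback {X S T : Scheme.{u}} (f : X ⟶ S) (g : T ⟶ S)
    [IrreducibleSpace X] [UniversallyOpen g] [Surjective g]
    (h : IsPreirreducible ((pullback.fst f g) ⁻¹' {genericPoint X})) :
    IrreducibleSpace ↥(pullback f g) := by
  let p := pullback.fst f g
  have hopen : IsOpenMap p := p.isOpenMap
  have hsurj : Function.Surjective p := p.surjective
  have hpre : IsPreirreducible (p ⁻¹' Set.univ) := by
    apply (IrreducibleSpace.isIrreducible_univ X).isPreirreducible.preimage_of_dense_isPreirreducible_fiber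
      p hopen
    intro x _
    have hη : genericPoint X ∈ Set.univ ∩ {x | IsPreirreducible (p ⁻¹' {x})} := ⟨trivial, h⟩
    have hcl : closure {genericPoint X} = Set.univ := (genericPoint_spec X).def
    have := closure_mono (Set.singleton_subset_iff.mpr hη)
    rw [hcl] at this
    exact this trivial
  rw [Set.preimage_univ] at hpre
  obtain ⟨y, hy⟩ := hsurj (genericPoint X)
  exact (irreducibleSpace_def _).mpr ⟨⟨y, trivial⟩, hpre⟩

/-- If the base change of an irreducible `k`-scheme `X` to `L` is not irreducible, then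
`κ(η) ⊗[k] L` is not a field, `η` the generic point of `X`. -/
theorem not_isField_of_not_irreducibleSpace (k : Type u) [Field k] (X : Scheme.{u})
    [X.Over (Spec (CommRingCat.of k))] [IrreducibleSpace X]
    (L : Type u) [Field L] [Algebra k L]
    (hred : ¬ IrreducibleSpace ↥(Curv2.bc k X L)) :
    letI := Curv2.resAlgebra k X (genericPoint X)
    ¬ IsField (X.residueField (genericPoint X) ⊗[k] L) := by
  letI := Curv2.resAlgebra k X (genericPoint X)
  intro hfield
  apply hred
  let g := Spec.map (CommRingCat.ofHom (algebraMap k L))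
  haveI : Surjective g := by
    refine ⟨fun x => ⟨default, Subsingleton.elim _ _⟩⟩
  refine irreducibleSpace_pullback (X ↘ Spec (CommRingCat.of k)) g ?_
  obtain ⟨e⟩ := Groth.Agent.Lib.Helper50.nonempty_homeomorph_fiber_bc (K := L)
    (X ↘ Spec (CommRingCat.of k)) (genericPoint X) (Curv2.resMap k X (genericPoint X))
    (Groth.Agent.Lib.Helper50.specMap_resMap_eq k (genericPoint X))
  letI := hfield.toField
  have hsub : Subsingleton (PrimeSpectrum (X.residueField (genericPoint X) ⊗[k] L)) :=
    inferInstance
  have hsub' : Subsingleton ((pullback.fst (X ↘ Spec (CommRingCat.of k)) g) ⁻¹' {genericPoint X} :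
      Set _) := e.injective.subsingleton
  exact (Set.subsingleton_coe _).mp hsub' |>.isPreirreducible

/-- Sections of a normal integral scheme over a nonempty open are integrally closed in the
function field (the argument is the one of `Helper97.NormalSch.isIntegrallyClosed_sections`). -/
theorem isIntegrallyClosedIn_sections {Z : Scheme.{u}} [IsIntegral Z]
    (hN : ∀ z : Z, IsIntegrallyClosed (Z.presheaf.stalk z)) (U : Z.Opens) [Nonempty U] :
    IsIntegrallyClosedIn Γ(Z, U) Z.functionField := by
  have hinj : Function.Injective (algebraMap Γ(Z, U) Z.functionField) :=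
    Z.germToFunctionField_injective U
  rw [isIntegrallyClosedIn_iff]
  refine ⟨hinj, fun {x} hx => ?_⟩
  have hη : ∀ V : Z.Opens, (V : Set Z).Nonempty → genericPoint Z ∈ V := fun V hV =>
    ((genericPoint_spec Z).mem_open_set_iff V.isOpen).mpr (by simpa [Set.univ_inter] using hV)
  have hloc : ∀ z : U, ∃ (V : Z.Opens) (hV : genericPoint Z ∈ V), z.1 ∈ V ∧ V ≤ U ∧
      ∃ s : Γ(Z, V), Z.presheaf.germ V (genericPoint Z) hV s = x := by
    intro z
    have hx' : IsIntegral (Z.presheaf.stalk z.1) x := hx.tower_top
    have := hN z.1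
    obtain ⟨g, hg⟩ := IsIntegrallyClosed.algebraMap_eq_of_integral hx'
    obtain ⟨V, hzV, s, hs⟩ := Z.presheaf.exists_germ_eq g
    have hzVU : z.1 ∈ V ⊓ U := ⟨hzV, z.2⟩
    haveI : Nonempty (V ⊓ U : Z.Opens).toScheme := ⟨⟨z.1, hzVU⟩⟩
    refine ⟨V ⊓ U, hη _ ⟨z.1, hzVU⟩, hzVU, inf_le_right,
      Z.presheaf.map (homOfLE inf_le_left).op s, ?_⟩
    have h1 := Z.algebraMap_germ_eq_germToFunctionField (U := V ⊓ U) (x := z.1) hzVU
      (Z.presheaf.map (homOfLE inf_le_left).op s)
    rw [TopCat.Presheaf.germ_res_apply, hs, hg] at h1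
    exact h1.symm
  choose V hVη hzV hVU s hs using hloc
  have compat : TopCat.Presheaf.IsCompatible Z.sheaf.1 V s := by
    intro z z'
    apply germ_injective_of_isIntegral Z (genericPoint Z) (⟨hVη z, hVη z'⟩ : _ ∈ V z ⊓ V z')
    have e1 := Z.presheaf.germ_res_apply (Opens.infLELeft (V z) (V z')) (genericPoint Z)
      ⟨hVη z, hVη z'⟩ (s z)
    have e2 := Z.presheaf.germ_res_apply (Opens.infLERight (V z) (V z')) (genericPoint Z)
      ⟨hVη z, hVη z'⟩ (s z')
    exact (e1.trans ((hs z).trans (hs z').symm)).trans e2.symm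
  obtain ⟨t, ht, -⟩ := Z.sheaf.existsUnique_gluing' V U (fun z => homOfLE (hVU z))
    (fun y hy => Opens.mem_iSup.mpr ⟨⟨y, hy⟩, hzV ⟨y, hy⟩⟩) s compat
  refine ⟨t, ?_⟩
  obtain ⟨⟨z0, hz0⟩⟩ := ‹Nonempty U›
  let z : U := ⟨z0, hz0⟩
  have h1 : Z.presheaf.map (homOfLE (hVU z)).op t = s z := ht z
  have h2 := Z.presheaf.germ_res_apply (homOfLE (hVU z)) (genericPoint Z) (hVη z) t
  rw [h1, hs] at h2
  rw [h2]
  rfl

/-- A finite subextension of the residue field at the generic point of a normal irreducible
`k`-scheme gives a factorisation of the structure morphism. -/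
theorem exists_factorisation (k : Type u) [Field k] (X : Scheme.{u})
    [X.Over (Spec (CommRingCat.of k))] [IrreducibleSpace X] (hX : Pi1.IsNormalScheme X)
    (F : Type u) [Field F] [Algebra k F] [FiniteDimensional k F]
    (τ : F →+* X.residueField (genericPoint X))
    (hτ : τ.comp (algebraMap k F) = Curv2.resMap k X (genericPoint X)) :
    ∃ g : X ⟶ Spec (CommRingCat.of F),
      g ≫ Spec.map (CommRingCat.ofHom (algebraMap k F)) = X ↘ Spec (CommRingCat.of k) := by
  have hdom : ∀ x : X, IsDomain (X.presheaf.stalk x) := fun x => (hX x).1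
  haveI : IsReduced X := by
    haveI : ∀ x : X, _root_.IsReduced (X.presheaf.stalk x) := fun x => by
      haveI := hdom x
      infer_instance
    exact isReduced_of_isReduced_stalk X
  haveI : IsIntegral X := isIntegral_of_irreducibleSpace_of_isReduced X
  haveI : Nonempty (⊤ : X.Opens) := ⟨⟨genericPoint X, trivial⟩⟩
  have hic := isIntegrallyClosedIn_sections (fun z => (hX z).2) (⊤ : X.Opens)
  let r : X.functionField →+* X.residueField (genericPoint X) := (X.residue (genericPoint X)).hom
  have hrinj : Function.Injective r := r.injective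
  have hrsurj : Function.Surjective r := X.residue_surjective (genericPoint X)
  let e : X.functionField ≃+* X.residueField (genericPoint X) :=
    RingEquiv.ofBijective r ⟨hrinj, hrsurj⟩
  let τ' : F →+* X.functionField := (e.symm : _ →+* _).comp τ
  let c : k →+* Γ(X, ⊤) := Coh.toGlobal (X ↘ Spec (CommRingCat.of k))
  have hτ' : (algebraMap Γ(X, ⊤) X.functionField).comp c = τ'.comp (algebraMap k F) := by
    ext a
    apply e.injective
    have h1 : e (τ' (algebraMap k F a)) = Curv2.resMap k X (genericPoint X) a := by
      simp only [τ', RingHom.comp_apply, RingHom.coe_coe, RingEquiv.apply_symm_apply]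
      rw [← hτ]
      rfl
    rw [RingHom.comp_apply, RingHom.comp_apply, h1]
    rfl
  have hint : ∀ x : F, ∃ t : Γ(X, ⊤), algebraMap Γ(X, ⊤) X.functionField t = τ' x := by
    intro x
    have hx : IsIntegral k x := IsIntegral.of_finite k x
    have := IsIntegral.map_of_comp_eq c τ' hτ' hx
    exact IsIntegrallyClosedIn.algebraMap_eq_of_integral this
  have hinj : Function.Injective (algebraMap Γ(X, ⊤) X.functionField) :=
    X.germToFunctionField_injective ⊤
  let a := algebraMap Γ(X, ⊤) X.functionField
  let ea : Γ(X, ⊤) ≃+* a.range := RingEquiv.ofBijective a.rangeRestrict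
    ⟨fun x y hxy => hinj (congrArg Subtype.val hxy), a.rangeRestrict_surjective⟩
  let ρ : F →+* Γ(X, ⊤) := (ea.symm : _ →+* _).comp (τ'.codRestrict a.range (fun x => by
    obtain ⟨t, ht⟩ := hint x
    exact ⟨t, ht⟩))
  have hρ : ∀ x, a (ρ x) = τ' x := by
    intro x
    have : (ea (ρ x) : X.functionField) = τ' x := by
      simp only [ρ, RingHom.comp_apply, RingHom.coe_coe, RingEquiv.apply_symm_apply]
      rfl
    exact this
  have hρc : ρ.comp (algebraMap k F) = c := by
    ext y
    apply hinj
    rw [RingHom.comp_apply]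
    rw [hρ]
    exact (RingHom.congr_fun hτ' y).symm
  refine ⟨X.toSpecΓ ≫ Spec.map (CommRingCat.ofHom ρ), ?_⟩
  rw [Category.assoc, ← Spec.map_comp, ← CommRingCat.ofHom_comp, hρc]
  conv_rhs => rw [Groth.Agent.Lib.Helper50.eq_toSpecΓ_comp (X ↘ Spec (CommRingCat.of k))]
  rw [← Spec.map_comp]
  rfl

/-- If the base change of a normal irreducible `k`-scheme `X` to a finite Galois extension `L/k`
is not irreducible, the structure morphism factors through `Spec F` for a subextension `F ≠ k`. -/
theorem main (k : Type u) [Field k] (X : Scheme.{u}) [X.Over (Spec (CommRingCat.of k))]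
    [IrreducibleSpace X] (hX : Pi1.IsNormalScheme X)
    (L : Type u) [Field L] [Algebra k L] [FiniteDimensional k L] [IsGalois k L]
    (hred : ¬ IrreducibleSpace ↥(Curv2.bc k X L)) :
    ∃ F : IntermediateField k L, F ≠ ⊥ ∧
      ∃ g : X ⟶ Spec (CommRingCat.of F),
        g ≫ Spec.map (CommRingCat.ofHom (algebraMap k F)) = X ↘ Spec (CommRingCat.of k) := by
  letI := Curv2.resAlgebra k X (genericPoint X)
  have h := not_isField_of_not_irreducibleSpace k X L hred
  obtain ⟨F, hF, ⟨τ⟩⟩ := GalDisj.exists_intermediateField_of_not_isField k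
    (X.residueField (genericPoint X)) L h
  refine ⟨F, hF, exists_factorisation k X hX F τ.toRingHom ?_⟩
  ext a
  exact τ.commutes a

end Groth.Agent.Lib.Helper64.GalFactor
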