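import Mathlib
import Groth.Prelude
import Groth.Agent.Lib.Helper50.GeomReducedAt
import Groth.Agent.Lib.Helper64.GalFactor
import Groth.Agent.Lib.Helper64.AlgClosedTensor

/-!
# `[k_Z : k_X]` divides the degree of a finite surjective morphism onto a normal proper variety
(helper64)
-/

set_option autoImplicit false
set_option linter.style.haveILetI false
universe u

namespace Groth.Agent.Lib.Helper64.DegDiv

open AlgebraicGeometry CategoryTheory Limits TensorProduct TopologicalSpace Opposite

/-- the local rings of `X` are geometrically reduced over the field `Γ(X, ⊤)` if `X` is. -/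
theorem isGeometricallyReduced_stalk (X : Scheme.{u}) (hF : IsField Γ(X, ⊤))
    (hgr : ∀ (E : Type u) [Field E] (i : Γ(X, ⊤) →+* E),
      AlgebraicGeometry.IsReduced (pullback X.toSpecΓ (Spec.map (CommRingCat.ofHom i)))) (x : X) :
    letI : Field Γ(X, ⊤) := hF.toField
    letI := (X.presheaf.germ ⊤ x trivial).hom.toAlgebra
    Algebra.IsGeometricallyReduced Γ(X, ⊤) (X.presheaf.stalk x) := by
  letI : Field Γ(X, ⊤) := hF.toField
  letI := (X.presheaf.germ ⊤ x trivial).hom.toAlgebra
  have hφ : Spec.map (CommRingCat.ofHom (X.presheaf.germ ⊤ x trivial).hom) =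
      X.fromSpecStalk x ≫ X.toSpecΓ := by
    rw [Scheme.fromSpecStalk_toSpecΓ]
    rfl
  refine (Groth.Agent.Lib.Helper50.isGeomReducedAt_iff (k := Γ(X, ⊤)) X.toSpecΓ x _ hφ).mp ?_
  intro K _ _ x' _
  haveI := hgr K (algebraMap Γ(X, ⊤) K)
  infer_instance

/-- core: for a normal integral scheme `X` with `Γ(X, ⊤)` a field over which `X` is geometrically
reduced, `κ(η) ⊗ E` is a field for every finite field extension `E` of `Γ(X, ⊤)`. -/
theorem isField_residueField_tensor (X : Scheme.{u}) [IsIntegral X]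
    (hXn : ∀ x : X, IsIntegrallyClosed (X.presheaf.stalk x))
    (hF : IsField Γ(X, ⊤))
    (hgr : ∀ (E : Type u) [Field E] (i : Γ(X, ⊤) →+* E),
      AlgebraicGeometry.IsReduced (pullback X.toSpecΓ (Spec.map (CommRingCat.ofHom i))))
    (y : X) (hy : y = genericPoint X)
    (E : Type u) [Field E] (ψ : Γ(X, ⊤) →+* E) (hfin : ψ.Finite) :
    letI := ψ.toAlgebra
    letI := (X.Γevaluation y).hom.toAlgebra
    IsField (X.residueField y ⊗[Γ(X, ⊤)] E) := by
  subst hy
  letI : Field Γ(X, ⊤) := hF.toField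
  letI := ψ.toAlgebra
  letI := (X.Γevaluation (genericPoint X)).hom.toAlgebra
  haveI : Nonempty (⊤ : X.Opens) := ⟨⟨genericPoint X, trivial⟩⟩
  haveI : FiniteDimensional Γ(X, ⊤) E := hfin
  have hic := GalFactor.isIntegrallyClosedIn_sections hXn (⊤ : X.Opens)
  have hcl : ∀ x : X.functionField, IsIntegral Γ(X, ⊤) x →
      x ∈ (algebraMap Γ(X, ⊤) X.functionField).range :=
    fun x hx => IsIntegrallyClosedIn.algebraMap_eq_of_integral hx
  have hgeo : Algebra.IsGeometricallyReduced Γ(X, ⊤) X.functionField :=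
    isGeometricallyReduced_stalk X hF hgr (genericPoint X)
  have hred : ∀ (N : Type u) [Field N] [Algebra Γ(X, ⊤) N] [FiniteDimensional Γ(X, ⊤) N],
      IsReduced (X.functionField ⊗[Γ(X, ⊤)] N) := by
    intro N _ _ _
    haveI : Algebra.IsAlgebraic Γ(X, ⊤) N := Algebra.IsAlgebraic.of_finite _ _
    haveI : IsReduced (N ⊗[Γ(X, ⊤)] X.functionField) := inferInstance
    exact isReduced_of_injective (Algebra.TensorProduct.comm Γ(X, ⊤) X.functionField N)
      (AlgEquiv.injective _)
  have h1 := AlgClosedTensor.isField_tensor Γ(X, ⊤) X.functionField E hcl hred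
  let r : X.functionField →+* X.residueField (genericPoint X) := (X.residue (genericPoint X)).hom
  let e : X.functionField ≃ₐ[Γ(X, ⊤)] X.residueField (genericPoint X) :=
    AlgEquiv.ofBijective ⟨r, fun a => rfl⟩ ⟨r.injective, X.residue_surjective _⟩
  exact (Algebra.TensorProduct.congr e (AlgEquiv.refl (R := Γ(X, ⊤)) (A₁ := E))).symm.toMulEquiv.isField h1

/-- a surjective morphism of irreducible schemes maps the generic point to the generic point. -/
theorem genericPoint_map_eq {Z X : Scheme.{u}} [IrreducibleSpace Z] [IrreducibleSpace X]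
    (f : Z ⟶ X) [Surjective f] : f.base (genericPoint Z) = genericPoint X := by
  obtain ⟨z, hz⟩ := f.surjective (genericPoint X)
  have h1 : genericPoint Z ⤳ z := (genericPoint_spec Z).specializes trivial
  have h2 : f.base (genericPoint Z) ⤳ genericPoint X := hz ▸ h1.map f.continuous
  have h3 : genericPoint X ⤳ f.base (genericPoint Z) := (genericPoint_spec X).specializes trivial
  exact (h2.antisymm h3).eq

/-- the formal part: if `κ(f η) ⊗ Γ(Z, ⊤)` is a field then `[Γ(Z) : Γ(X)]` divides the degree. -/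
theorem dvd_of_isField_tensor {X Z : Scheme.{u}} (f : Z ⟶ X) (z : Z) (hFX : IsField Γ(X, ⊤))
    (hT : letI := f.appTop.hom.toAlgebra
      letI := (X.Γevaluation (f.base z)).hom.toAlgebra
      IsField (X.residueField (f.base z) ⊗[Γ(X, ⊤)] Γ(Z, ⊤))) :
    letI := f.appTop.hom.toAlgebra
    letI := (f.residueFieldMap z).hom.toAlgebra
    Module.finrank Γ(X, ⊤) Γ(Z, ⊤) ∣
      Module.finrank (X.residueField (f.base z)) (Z.residueField z) := by
  letI := f.appTop.hom.toAlgebra
  letI := (f.residueFieldMap z).hom.toAlgebra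
  letI algX : Algebra Γ(X, ⊤) (X.residueField (f.base z)) :=
    (X.Γevaluation (f.base z)).hom.toAlgebra
  letI algXZ : Algebra Γ(X, ⊤) (Z.residueField z) :=
    ((f.residueFieldMap z).hom.comp (X.Γevaluation (f.base z)).hom).toAlgebra
  haveI : IsScalarTower Γ(X, ⊤) (X.residueField (f.base z)) (Z.residueField z) :=
    IsScalarTower.of_algebraMap_eq (fun _ => rfl)
  let evZ : Γ(Z, ⊤) →ₐ[Γ(X, ⊤)] Z.residueField z :=
    { (Z.Γevaluation z).hom with
      commutes' := fun a => (Scheme.Γevaluation_naturality_apply f z a).symm }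
  let μ : X.residueField (f.base z) ⊗[Γ(X, ⊤)] Γ(Z, ⊤) →ₐ[X.residueField (f.base z)]
      Z.residueField z :=
    Algebra.TensorProduct.lift (Algebra.ofId _ _) evZ (fun _ _ => Commute.all _ _)
  letI : Field (X.residueField (f.base z) ⊗[Γ(X, ⊤)] Γ(Z, ⊤)) :=
    @IsField.toField _ inferInstance hT
  letI : Algebra (X.residueField (f.base z) ⊗[Γ(X, ⊤)] Γ(Z, ⊤)) (Z.residueField z) :=
    μ.toRingHom.toAlgebra
  haveI : IsScalarTower (X.residueField (f.base z))
      (X.residueField (f.base z) ⊗[Γ(X, ⊤)] Γ(Z, ⊤)) (Z.residueField z) :=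
    IsScalarTower.of_algebraMap_eq (fun a => (μ.commutes a).symm)
  have h1 := Module.finrank_mul_finrank (X.residueField (f.base z))
    (X.residueField (f.base z) ⊗[Γ(X, ⊤)] Γ(Z, ⊤)) (Z.residueField z)
  have h2 : Module.finrank (X.residueField (f.base z))
      (X.residueField (f.base z) ⊗[Γ(X, ⊤)] Γ(Z, ⊤)) = Module.finrank Γ(X, ⊤) Γ(Z, ⊤) := by
    letI : Field Γ(X, ⊤) := hFX.toField
    exact Module.finrank_baseChange
  rw [h2] at h1
  exact Dvd.intro _ h1

theorem main (k : Type u) [Field k]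
    (X Z : Scheme.{u}) [X.Over (Spec (CommRingCat.of k))] [Z.Over (Spec (CommRingCat.of k))]
    [IsIntegral X] [IsIntegral Z]
    [IsProper (X ↘ Spec (CommRingCat.of k))] [IsProper (Z ↘ Spec (CommRingCat.of k))]
    (hXn : ∀ x : X, IsIntegrallyClosed (X.presheaf.stalk x))
    (f : Z ⟶ X) (hf : f ≫ (X ↘ Spec (CommRingCat.of k)) = Z ↘ Spec (CommRingCat.of k))
    [IsFinite f] [Surjective f]
    (hgr : ∀ (E : Type u) [Field E] (i : Γ(X, ⊤) →+* E),
      AlgebraicGeometry.IsReduced (pullback X.toSpecΓ (Spec.map (CommRingCat.ofHom i)))) :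
    letI := f.appTop.hom.toAlgebra;
    letI := (f.residueFieldMap (genericPoint Z)).hom.toAlgebra;
    Module.finrank Γ(X, ⊤) Γ(Z, ⊤) ∣
      Module.finrank (X.residueField (f.base (genericPoint Z)))
        (Z.residueField (genericPoint Z)) := by
  have hy : f.base (genericPoint Z) = genericPoint X := genericPoint_map_eq f
  have hFX : IsField Γ(X, ⊤) := isField_of_universallyClosed k (X ↘ Spec (CommRingCat.of k))
  have hFZ : IsField Γ(Z, ⊤) := isField_of_universallyClosed k (Z ↘ Spec (CommRingCat.of k))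
  have hfin : f.appTop.hom.Finite := by
    have h1 := finite_appTop_of_universallyClosed k (Z ↘ Spec (CommRingCat.of k))
    have h2 : (Z ↘ Spec (CommRingCat.of k)).appTop.hom =
        f.appTop.hom.comp (X ↘ Spec (CommRingCat.of k)).appTop.hom := by
      rw [← hf]
      rfl
    rw [h2] at h1
    exact RingHom.Finite.of_comp_finite h1
  refine dvd_of_isField_tensor f (genericPoint Z) hFX ?_
  letI : Field Γ(Z, ⊤) := hFZ.toField
  exact isField_residueField_tensor X hXn hFX hgr _ hy Γ(Z, ⊤) f.appTop.hom hfin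

end Groth.Agent.Lib.Helper64.DegDiv
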