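import Mathlib
import Groth.Prelude
import Groth.Agent.Lib.Helper38.H0Const
import Groth.Agent.Lib.Helper70.SteinPI
import Groth.Agent.Lib.Helper1.IdealMod
import Groth.Agent.Lib.Helper17.ProjSpaceProper
import Groth.Agent.Lib.Helper17.HHLinLES

/-!
# Connectedness of a closed subscheme and `H¹` of its ideal sheaf (helper64)
-/

set_option autoImplicit false
set_option linter.style.haveILetI false
universe u

namespace Groth.Agent.Lib.Helper64.DivConn

open AlgebraicGeometry CategoryTheory Limits TopologicalSpace Opposite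

/-- `X` integral proper over an algebraically closed field, `D ⊆ X` a nonempty closed subscheme
with `H¹(X, I_D) = 0`: then `D` is connected. -/
theorem connectedSpace_subscheme (k : Type u) [Field k] [IsAlgClosed k]
    (X : Scheme.{u}) [X.Over (Spec (CommRingCat.of k))] [AlgebraicGeometry.IsIntegral X]
    [UniversallyClosed (X ↘ (Spec (CommRingCat.of k)))]
    (D : X.IdealSheafData) (hne : Nonempty ↥D.subscheme)
    (hvan : Subsingleton (Coh.HH X (ClSub.idealMod D) 1)) :
    ConnectedSpace ↥D.subscheme := by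
  have hsurj := Groth.Agent.Lib.Helper1.appTop_surjective_of_subsingleton_HH_one D hvan
  have hbij := Groth.Agent.Lib.Helper38.H0Const.bijective_of_connected_reduced
    (X ↘ (Spec (CommRingCat.of k)))
  obtain ⟨y⟩ := hne
  haveI : Nonempty (⊤ : D.subscheme.Opens) := ⟨⟨y, trivial⟩⟩
  haveI : Nontrivial Γ(D.subscheme, ⊤) := inferInstance
  let ψ : k →+* Γ(D.subscheme, ⊤) :=
    D.subschemeι.appTop.hom.comp
      ((Scheme.ΓSpecIso (.of k)).inv ≫ (X ↘ (Spec (CommRingCat.of k))).appTop).hom
  have hψ : Function.Surjective ψ := by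
    intro e
    obtain ⟨s, hs⟩ := hsurj e
    obtain ⟨c, hc⟩ := hbij.2 s
    refine ⟨c, ?_⟩
    change D.subschemeι.appTop.hom _ = e
    rw [hc]
    exact hs
  have hpre : PreconnectedSpace ↥D.subscheme := by
    apply Groth.Agent.Lib.Helper70.SteinPI.preconnectedSpace_of_idempotent_trivial
    intro e he
    obtain ⟨c, rfl⟩ := hψ e
    have hcc : c * c = c := by
      apply ψ.injective
      rw [map_mul]
      exact he.eq
    rcases (IsIdempotentElem.iff_eq_zero_or_one (p := c)).mp hcc with h | h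
    · left; rw [h, map_zero]
    · right; rw [h, map_one]
  exact { toNonempty := ⟨y⟩ }

open Groth.Agent.Lib.Helper1 Groth.Agent.Lib.Helper17.HHLinLES in
/-- for a short exact sequence of modules with `H¹` of the middle term trivial and `S.g`
surjective on global sections, `H¹` of the first term is trivial. -/
theorem subsingleton_HH_one_of_surjective {X : Scheme.{u}} {S : ShortComplex X.Modules}
    (hS : S.ShortExact) (h2 : Subsingleton (Coh.HH X S.X₂ 1))
    (hg : Function.Surjective (S.g.app ⊤)) : Subsingleton (Coh.HH X S.X₁ 1) := by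
  have hS' := shortExact_map_toAbF hS
  refine ⟨fun a b => ?_⟩
  suffices H : ∀ x : Coh.HH X S.X₁ 1, x = 0 by rw [H a, H b]
  intro x
  let x' : Abelian.Ext _ (S.map (toAbF X)).X₁ 1 := x
  have hx' : x'.comp (Abelian.Ext.mk₀ (S.map (toAbF X)).f) (add_zero 1) = 0 :=
    Subsingleton.elim (α := Coh.HH X S.X₂ 1) _ _
  obtain ⟨y, hy⟩ := Abelian.Ext.covariant_sequence_exact₁ _ hS' x' hx' (rfl : 0 + 1 = 1)
  let hT := CategoryTheory.Limits.isTerminalTop (α := TopologicalSpace.Opens X)
  let y' : Coh.HH X S.X₃ 0 := y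
  obtain ⟨s, hs⟩ := hg (Sheaf.H.equiv₀ (Coh.toAb S.X₃) hT y')
  let z : Coh.HH X S.X₂ 0 := (Sheaf.H.equiv₀ (Coh.toAb S.X₂) hT).symm s
  have hz : Sheaf.H.map ((toAbF X).map S.g) 0 z = y' := by
    apply (Sheaf.H.equiv₀ (Coh.toAb S.X₃) hT).injective
    refine (Sheaf.H.equiv₀_naturality hT ((toAbF X).map S.g) z).symm.trans ?_
    have : Sheaf.H.equiv₀ (Coh.toAb S.X₂) hT z = s :=
      (Sheaf.H.equiv₀ (Coh.toAb S.X₂) hT).apply_symm_apply s
    refine Eq.trans ?_ hs
    exact congrArg (fun w => ((toAbF X).map S.g).hom.app (op ⊤) w) this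
  have h0 := deltaAb_comp_map hS' 0 z
  have h1 : deltaAb hS' 0 y' = x := hy
  change Sheaf.H.map ((toAbF X).map S.g) 0 z = y' at hz
  have h3 : deltaAb hS' 0 (Sheaf.H.map (S.map (toAbF X)).g 0 z) = deltaAb hS' 0 y' :=
    congrArg _ hz
  rw [h0, h1] at h3
  exact h3.symm

/-- `X` integral proper over an algebraically closed field with `H¹(X, O_X) = 0`, `D ⊆ X` a
connected reduced closed subscheme: then `H¹(X, I_D) = 0`. -/
theorem subsingleton_HH_one_idealMod (k : Type u) [Field k] [IsAlgClosed k]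
    (X : Scheme.{u}) [X.Over (Spec (CommRingCat.of k))] [AlgebraicGeometry.IsIntegral X]
    [UniversallyClosed (X ↘ (Spec (CommRingCat.of k)))]
    (hH1 : Subsingleton (Coh.HH X (Coh.structureModule X) 1))
    (D : X.IdealSheafData) [ConnectedSpace ↥D.subscheme] [IsReduced D.subscheme] :
    Subsingleton (Coh.HH X (ClSub.idealMod D) 1) := by
  refine subsingleton_HH_one_of_surjective
    (Groth.Agent.Lib.Helper1.idealModComplex_shortExact D) hH1 ?_
  intro e
  have hD := Groth.Agent.Lib.Helper38.H0Const.bijective_of_connected_reduced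
    (D.subschemeι ≫ (X ↘ (Spec (CommRingCat.of k))))
  obtain ⟨c, hc⟩ := hD.2 (e : Γ(D.subscheme, ⊤))
  refine ⟨((Scheme.ΓSpecIso (.of k)).inv ≫ (X ↘ (Spec (CommRingCat.of k))).appTop).hom c, ?_⟩
  refine Eq.trans ?_ hc
  change (ClSub.toSubscheme D).app ⊤ _ = _
  rw [Groth.Agent.Lib.Helper1.toSubscheme_app]
  simp only [Scheme.Hom.comp_appTop, CommRingCat.hom_comp, RingHom.comp_apply]
  rfl

end Groth.Agent.Lib.Helper64.DivConn
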