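import Mathlib
import Groth.Prelude.Def_FlatCA

set_option autoImplicit false
universe u

namespace Groth.Agent.Lib.Helper64.FlatLoc

open TensorProduct

section mixed

variable {R A : Type u} [CommRing R] [CommRing A] [Algebra R A]
variable (P : Type u) [AddCommGroup P] [Module A P] [Module R P] [IsScalarTower R A P]
variable (X : Type u) [AddCommGroup X] [Module A X] [Module R X] [IsScalarTower R A X]

/-- naturality of the associator in the last variable -/
lemma assoc_nat {N N' : Type u} [AddCommGroup N] [AddCommGroup N'] [Module R N] [Module R N']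
    (g : N →ₗ[R] N') (t : (P ⊗[A] X) ⊗[R] N) :
    AlgebraTensorModule.assoc R A A P X N' (LinearMap.lTensor (P ⊗[A] X) g t) =
      LinearMap.lTensor P (AlgebraTensorModule.lTensor A X g)
        (AlgebraTensorModule.assoc R A A P X N t) := by
  induction t using TensorProduct.induction_on with
  | zero => simp
  | add a b ha hb => simp only [map_add, ha, hb]
  | tmul w n =>
    induction w using TensorProduct.induction_on with
    | zero => simp
    | add a b ha hb => simp only [add_tmul, map_add, ha, hb]
    | tmul p x => simp

/-- mixed flatness: `P` flat over `A`, `X` flat over `R` ⟹ `P ⊗[A] X` flat over `R`. -/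
theorem flat_tensor [Module.Flat A P] [Module.Flat R X] : Module.Flat R (P ⊗[A] X) := by
  rw [Module.Flat.iff_lTensor_preserves_injective_linearMap'.{u, u, u}]
  intro N N' _ _ _ _ g hg
  have h1 : Function.Injective (AlgebraTensorModule.lTensor A X g) := by
    have := Module.Flat.lTensor_preserves_injective_linearMap (M := X) g hg
    exact this
  have h2 := Module.Flat.lTensor_preserves_injective_linearMap (M := P)
    (AlgebraTensorModule.lTensor A X g) h1
  intro a b hab
  apply (AlgebraTensorModule.assoc R A A P X N).injective
  apply h2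
  rw [← assoc_nat, ← assoc_nat, hab]

/-- faithfully flat descent of flatness over a smaller ring. -/
theorem flat_of_flat_tensor [Module.FaithfullyFlat A P] (h : Module.Flat R (P ⊗[A] X)) :
    Module.Flat R X := by
  rw [Module.Flat.iff_lTensor_preserves_injective_linearMap'.{u, u, u}]
  intro N N' _ _ _ _ g hg
  have h0 := Module.Flat.lTensor_preserves_injective_linearMap (M := P ⊗[A] X) g hg
  have h1 : Function.Injective (AlgebraTensorModule.lTensor A X g) := by
    rw [← Module.FaithfullyFlat.lTensor_injective_iff_injective A P]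
    intro a b hab
    obtain ⟨a', rfl⟩ := (AlgebraTensorModule.assoc R A A P X N).surjective a
    obtain ⟨b', rfl⟩ := (AlgebraTensorModule.assoc R A A P X N).surjective b
    rw [← assoc_nat, ← assoc_nat] at hab
    rw [h0 ((AlgebraTensorModule.assoc R A A P X N').injective hab)]
  exact h1

end mixed


section bc

variable {R A B : Type u} [CommRing R] [CommRing A] [CommRing B] [Algebra R A] [Algebra A B]
  [Algebra R B] [IsScalarTower R A B]
variable {X Y : Type u} [AddCommGroup X] [Module A X] [Module R X] [IsScalarTower R A X]
  [AddCommGroup Y] [Module A Y] [Module B Y] [IsScalarTower A B Y] [Module R Y]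
  [IsScalarTower R B Y]

theorem flat_of_isBaseChange {g : X →ₗ[A] Y} (hg : IsBaseChange B g) [Module.Flat A B]
    (h : Module.Flat R X) : Module.Flat R Y := by
  have := flat_tensor (R := R) (A := A) B X
  exact Module.Flat.of_linearEquiv (hg.equiv.restrictScalars R).symm

theorem flat_of_isBaseChange_ff {g : X →ₗ[A] Y} (hg : IsBaseChange B g)
    [Module.FaithfullyFlat A B] (h : Module.Flat R Y) : Module.Flat R X := by
  apply flat_of_flat_tensor (R := R) (A := A) B X
  exact Module.Flat.of_linearEquiv (hg.equiv.restrictScalars R)

end bc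


section loc

variable {R S S' : Type u} [CommRing R] [CommRing S] [CommRing S'] [Algebra R S] [Algebra S S']
  [Algebra R S'] [IsScalarTower R S S']
  (T : Submonoid S) (T' : Submonoid S') (hT : T ≤ T'.comap (algebraMap S S'))
  (A B : Type u) [CommRing A] [CommRing B] [Algebra S A] [IsLocalization T A] [Algebra S' B]
  [IsLocalization T' B] [Algebra R A] [IsScalarTower R S A] [Algebra R B] [IsScalarTower R S' B]
  {M M' X Y : Type u} [AddCommGroup M] [Module S M] [AddCommGroup M'] [Module S' M'] [Module S M']
  [IsScalarTower S S' M'] {f : M →ₗ[S] M'} (hf : IsBaseChange S' f)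
  [AddCommGroup X] [Module S X] [Module A X] [IsScalarTower S A X] [Module R X]
  [IsScalarTower R A X] (a : M →ₗ[S] X) [IsLocalizedModule T a]
  [AddCommGroup Y] [Module S' Y] [Module B Y] [IsScalarTower S' B Y] [Module R Y]
  [IsScalarTower R B Y] (b : M' →ₗ[S'] Y) [IsLocalizedModule T' b]

include hT hf a b in
/-- Abstract comparison of flatness over `R` of two localizations related by a flat base change. -/
theorem flat_loc_aux [Module.Flat S S'] :
    (Module.Flat R X → Module.Flat R Y) ∧
    (∀ [IsLocalRing A] [IsLocalRing B],
      IsLocalHom (IsLocalization.map B (algebraMap S S') hT : A →+* B) →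
      Module.Flat R Y → Module.Flat R X) := by
  let algAB : Algebra A B := (IsLocalization.map B (algebraMap S S') hT : A →+* B).toAlgebra
  let algSB : Algebra S B := ((algebraMap S' B).comp (algebraMap S S')).toAlgebra
  have tSS'B : IsScalarTower S S' B := IsScalarTower.of_algebraMap_eq (fun _ => rfl)
  have tSAB : IsScalarTower S A B := IsScalarTower.of_algebraMap_eq (fun x => by
    show algebraMap S' B (algebraMap S S' x) = IsLocalization.map B (algebraMap S S') hT (algebraMap S A x)
    rw [IsLocalization.map_eq])
  have tRAB : IsScalarTower R A B := IsScalarTower.of_algebraMap_eq (fun x => by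
    show algebraMap R B x = IsLocalization.map B (algebraMap S S') hT (algebraMap R A x)
    rw [IsScalarTower.algebraMap_apply R S A, IsLocalization.map_eq,
      ← IsScalarTower.algebraMap_apply R S S', ← IsScalarTower.algebraMap_apply R S' B])
  let mSY : Module S Y := Module.compHom Y (algebraMap S S')
  have tSS'Y : IsScalarTower S S' Y := IsScalarTower.of_algebraMap_smul (fun _ _ => rfl)
  let mAY : Module A Y := Module.compHom Y (algebraMap A B)
  have tABY : IsScalarTower A B Y := IsScalarTower.of_algebraMap_smul (fun _ _ => rfl)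
  have tSBY : IsScalarTower S B Y := IsScalarTower.of_algebraMap_smul (fun x y => by
    show algebraMap S B x • y = algebraMap S S' x • y
    rw [IsScalarTower.algebraMap_apply S S' B, algebraMap_smul])
  have tSAY : IsScalarTower S A Y := IsScalarTower.of_algebraMap_smul (fun x y => by
    show algebraMap A B (algebraMap S A x) • y = x • y
    rw [← IsScalarTower.algebraMap_apply S A B, algebraMap_smul])
  have flatAB : Module.Flat A B := by
    rw [Module.flat_iff_of_isLocalization A T]
    have : Module.Flat S' B := IsLocalization.flat B T'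
    exact Module.Flat.trans S S' B
  have ha : IsBaseChange A a := IsLocalizedModule.isBaseChange T A a
  have hb : IsBaseChange B b := IsLocalizedModule.isBaseChange T' B b
  have hbf : IsBaseChange B (b.restrictScalars S ∘ₗ f) := IsBaseChange.comp hf hb
  let g : X →ₗ[A] Y := ha.lift (b.restrictScalars S ∘ₗ f)
  have hg : IsBaseChange B g := by
    rw [← IsBaseChange.comp_iff ha]
    have : g.restrictScalars S ∘ₗ a = b.restrictScalars S ∘ₗ f := ha.lift_comp _
    rw [this]
    exact hbf
  refine ⟨fun h => flat_of_isBaseChange hg h, ?_⟩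
  intro _ _ hloc h
  have : IsLocalHom (algebraMap A B) := hloc
  have : Module.FaithfullyFlat A B := Module.FaithfullyFlat.of_flat_of_isLocalHom
  exact flat_of_isBaseChange_ff hg h

end loc


section conc

variable {R S S' : Type u} [CommRing R] [CommRing S] [CommRing S'] [Algebra R S] [Algebra S S']
  [Algebra R S'] [IsScalarTower R S S']
  {M M' : Type u} [AddCommGroup M] [Module S M] [Module R M] [IsScalarTower R S M]
  [AddCommGroup M'] [Module S' M'] [Module S M'] [IsScalarTower S S' M'] [Module R M']
  [IsScalarTower R S' M'] {f : M →ₗ[S] M'} (hf : IsBaseChange S' f)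

include hf in
/-- flatness over `R` at a prime is insensitive to flat base change `S → S'`. -/
theorem flatAt_iff_of_flat [Module.Flat S S'] (q : Ideal S) [q.IsPrime] (q' : Ideal S')
    [q'.IsPrime] [hq : q'.LiesOver q] :
    Module.Flat R (LocalizedModule q.primeCompl M) ↔
      Module.Flat R (LocalizedModule q'.primeCompl M') := by
  have hT : q.primeCompl ≤ q'.primeCompl.comap (algebraMap S S') := by
    intro x hx
    simp only [Submonoid.mem_comap, Ideal.mem_primeCompl_iff] at hx ⊢
    rw [hq.over] at hx
    exact hx
  obtain ⟨h1, h2⟩ := flat_loc_aux (R := R) q.primeCompl q'.primeCompl hT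
    (Localization.AtPrime q) (Localization.AtPrime q') hf
    (LocalizedModule.mkLinearMap q.primeCompl M) (LocalizedModule.mkLinearMap q'.primeCompl M')
  refine ⟨h1, h2 ?_⟩
  exact Localization.isLocalHom_localRingHom q q' (algebraMap S S') hq.over

include hf in
theorem flat_away_of_flat [Module.Flat S S'] (g : S)
    (h : Module.Flat R (LocalizedModule (Submonoid.powers g) M)) :
    Module.Flat R (LocalizedModule (Submonoid.powers (algebraMap S S' g)) M') := by
  have hT : Submonoid.powers g ≤ (Submonoid.powers (algebraMap S S' g)).comap (algebraMap S S') := by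
    rintro x ⟨n, rfl⟩
    exact ⟨n, by simp⟩
  exact (flat_loc_aux (R := R) (Submonoid.powers g) (Submonoid.powers (algebraMap S S' g)) hT
    (Localization.Away g) (Localization.Away (algebraMap S S' g)) hf
    (LocalizedModule.mkLinearMap _ M) (LocalizedModule.mkLinearMap _ M')).1 h

omit [Algebra S S'] [Algebra R S'] [IsScalarTower R S S'] in
theorem flat_localizedModule (T : Submonoid S) (h : Module.Flat R M) :
    Module.Flat R (LocalizedModule T M) :=
  flat_of_isBaseChange (R := R) (A := S) (B := Localization T)
    (IsLocalizedModule.isBaseChange T (Localization T) (LocalizedModule.mkLinearMap T M)) h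

end conc


section change

variable {R C C' : Type u} [CommRing R] [CommRing C] [CommRing C'] [Algebra R C] [Algebra C C']
  [Algebra R C'] [IsScalarTower R C C']
  {G : Type u} [AddCommGroup G] [Module C' G] [Module C G] [IsScalarTower C C' G] [Module R G]
  [IsScalarTower R C' G] [IsScalarTower R C G]

/-- Localizing `G` over `C` at `T` or over `C'` at a submonoid `T'` "equivalent" to the image of
`T` gives the same `R`-module up to isomorphism, so flatness over `R` agrees. -/
theorem flat_loc_change (T : Submonoid C) (T' : Submonoid C')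
    (h1 : Algebra.algebraMapSubmonoid C' T ≤ T')
    (h2 : ∀ x : T', ∃ m : C', m * x ∈ Algebra.algebraMapSubmonoid C' T) :
    Module.Flat R (LocalizedModule T G) ↔ Module.Flat R (LocalizedModule T' G) := by
  let T₁ := Algebra.algebraMapSubmonoid C' T
  let b₁ : G →ₗ[C'] LocalizedModule T₁ G := LocalizedModule.mkLinearMap T₁ G
  have inst1 : IsLocalizedModule T' b₁ := IsLocalizedModule.of_exists_mul_mem T₁ T' h1 h2 b₁
  have inst2 : IsLocalizedModule T (b₁.restrictScalars C) := IsLocalizedModule.restrictScalars T b₁
  let e1 : LocalizedModule T G ≃ₗ[C] LocalizedModule T₁ G :=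
    IsLocalizedModule.iso T (b₁.restrictScalars C)
  let e2 : LocalizedModule T' G ≃ₗ[C'] LocalizedModule T₁ G := IsLocalizedModule.iso T' b₁
  have t1 : IsScalarTower R C (LocalizedModule T₁ G) := by
    refine IsScalarTower.of_algebraMap_smul (fun r x => ?_)
    rw [← algebraMap_smul C' (algebraMap R C r) x, ← IsScalarTower.algebraMap_apply,
      algebraMap_smul]
  let e1' : LocalizedModule T G ≃ₗ[R] LocalizedModule T₁ G := e1.restrictScalars R
  let e2' : LocalizedModule T' G ≃ₗ[R] LocalizedModule T₁ G := e2.restrictScalars R
  constructor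
  · intro h
    have : Module.Flat R (LocalizedModule T₁ G) := Module.Flat.of_linearEquiv e1'.symm
    exact Module.Flat.of_linearEquiv e2'
  · intro h
    have : Module.Flat R (LocalizedModule T₁ G) := Module.Flat.of_linearEquiv e2'.symm
    exact Module.Flat.of_linearEquiv e1'

end change


section openness

variable {R S : Type u} [CommRing R] [CommRing S] [Algebra R S]
  {M : Type u} [AddCommGroup M] [Module S M] [Module R M] [IsScalarTower R S M]

/-- Passing to a bigger multiplicative set preserves flatness over `R`. -/
theorem flat_loc_of_le (T T' : Submonoid S) (hle : T ≤ T')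
    (h : Module.Flat R (LocalizedModule T M)) : Module.Flat R (LocalizedModule T' M) := by
  have hid : IsBaseChange S (LinearMap.id : M →ₗ[S] M) :=
    IsBaseChange.of_equiv (TensorProduct.lid S M) (fun x => by simp)
  have hT : T ≤ T'.comap (algebraMap S S) := fun x hx => hle hx
  exact (flat_loc_aux (R := R) T T' hT (Localization T) (Localization T') hid
    (LocalizedModule.mkLinearMap T M) (LocalizedModule.mkLinearMap T' M)).1 h

/-- local-global: flatness over `R` on `D(h₀)` can be checked at primes. -/
theorem flat_away_of_forall_prime (h₀ : S)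
    (H : ∀ (Q : Ideal S) [Q.IsPrime], h₀ ∉ Q → Module.Flat R (LocalizedModule Q.primeCompl M)) :
    Module.Flat R (LocalizedModule (Submonoid.powers h₀) M) := by
  have hbc : IsBaseChange (Localization.Away h₀)
      (LocalizedModule.mkLinearMap (Submonoid.powers h₀) M) :=
    IsLocalizedModule.isBaseChange (Submonoid.powers h₀) (Localization.Away h₀) _
  refine Module.flat_of_isLocalized_maximal (R := R) (Localization.Away h₀)
    (LocalizedModule (Submonoid.powers h₀) M)
    (fun P _ => LocalizedModule P.primeCompl (LocalizedModule (Submonoid.powers h₀) M))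
    (fun P _ => LocalizedModule.mkLinearMap P.primeCompl _) ?_
  intro P hP
  have hPp : P.IsPrime := hP.isPrime
  let Q : Ideal S := P.comap (algebraMap S (Localization.Away h₀))
  have hQ : Q.IsPrime := Ideal.comap_isPrime _ _
  have hPQ : P.LiesOver Q := ⟨rfl⟩
  have hh : h₀ ∉ Q := by
    intro hmem
    have hu : IsUnit (algebraMap S (Localization.Away h₀) h₀) :=
      IsLocalization.Away.algebraMap_isUnit h₀
    exact hPp.ne_top (Ideal.eq_top_of_isUnit_mem _ hmem hu)
  exact (flatAt_iff_of_flat (R := R) (S' := Localization.Away h₀) hbc Q P).mp (H Q hh)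

variable {S' : Type u} [CommRing S'] [Algebra S S'] [Algebra R S'] [IsScalarTower R S S']
  {M' : Type u} [AddCommGroup M'] [Module S' M'] [Module S M'] [IsScalarTower S S' M']
  [Module R M'] [IsScalarTower R S' M'] {f : M →ₗ[S] M'} (hf : IsBaseChange S' f)

include hf in
/-- Descent of "flat over `R` near a point" along a flat finitely presented (e.g. étale) map. -/
theorem exists_flat_away_of_flat_away [Module.Flat S S'] [Algebra.FinitePresentation S S']
    (q : Ideal S) [q.IsPrime] (q' : Ideal S') [q'.IsPrime] [hq : q'.LiesOver q] (g₁ : S')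
    (hg₁ : g₁ ∉ q') (h : Module.Flat R (LocalizedModule (Submonoid.powers g₁) M')) :
    ∃ h₀ : S, h₀ ∉ q ∧ Module.Flat R (LocalizedModule (Submonoid.powers h₀) M) := by
  have hopen : IsOpenMap (PrimeSpectrum.comap (algebraMap S S')) :=
    PrimeSpectrum.isOpenMap_comap_of_hasGoingDown_of_finitePresentation
  have h1 : IsOpen (PrimeSpectrum.comap (algebraMap S S') '' (PrimeSpectrum.basicOpen g₁ : Set _)) :=
    hopen _ (PrimeSpectrum.basicOpen g₁).isOpen
  have h2 : (⟨q, inferInstance⟩ : PrimeSpectrum S) ∈
      PrimeSpectrum.comap (algebraMap S S') '' (PrimeSpectrum.basicOpen g₁ : Set _) := by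
    refine ⟨⟨q', inferInstance⟩, hg₁, ?_⟩
    exact PrimeSpectrum.ext hq.over.symm
  obtain ⟨v, ⟨h₀, rfl⟩, hpv, hv⟩ :=
    PrimeSpectrum.isTopologicalBasis_basic_opens.exists_subset_of_mem_open h2 h1
  refine ⟨h₀, hpv, flat_away_of_forall_prime h₀ ?_⟩
  intro Q hQ hh
  obtain ⟨Q', hQ', hQQ'⟩ := hv (show (⟨Q, hQ⟩ : PrimeSpectrum S) ∈ _ from hh)
  have hQ'p : Q'.asIdeal.IsPrime := Q'.2
  have hover : Q'.asIdeal.LiesOver Q := ⟨by
    have := congrArg PrimeSpectrum.asIdeal hQQ'
    exact this.symm⟩
  have hle : Submonoid.powers g₁ ≤ Q'.asIdeal.primeCompl := by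
    rintro x ⟨n, rfl⟩
    exact fun hmem => hQ' (hQ'p.mem_of_pow_mem n hmem)
  have h3 : Module.Flat R (LocalizedModule Q'.asIdeal.primeCompl M') :=
    flat_loc_of_le (R := R) _ _ hle h
  exact (flatAt_iff_of_flat (R := R) hf Q Q'.asIdeal).mpr h3

end openness


section dominate

variable {R S : Type u} [CommRing R] [CommRing S] [Algebra R S]
  {M : Type u} [AddCommGroup M] [Module S M] [Module R M] [IsScalarTower R S M]

/-- If every element of `T` divides an element of `T'`, then `M_{T'}` is a further localization
of `M_T`, so flatness over `R` passes from `M_T` to `M_{T'}`. -/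
theorem flat_loc_of_dominates (T T' : Submonoid S) (hd : ∀ t ∈ T, ∃ m : S, m * t ∈ T')
    (h : Module.Flat R (LocalizedModule T M)) : Module.Flat R (LocalizedModule T' M) := by
  have h1 : Module.Flat R (LocalizedModule (T ⊔ T') M) := flat_loc_of_le (R := R) T _ le_sup_left h
  have inst : IsLocalizedModule (T ⊔ T') (LocalizedModule.mkLinearMap T' M) := by
    refine IsLocalizedModule.of_exists_mul_mem T' (T ⊔ T') le_sup_right ?_ _
    rintro ⟨x, hx⟩
    obtain ⟨t, ht, t', ht', rfl⟩ := Submonoid.mem_sup.mp hx
    obtain ⟨m, hm⟩ := hd t ht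
    exact ⟨m, by rw [← mul_assoc]; exact T'.mul_mem hm ht'⟩
  let e : LocalizedModule (T ⊔ T') M ≃ₗ[S] LocalizedModule T' M :=
    IsLocalizedModule.iso (T ⊔ T') (LocalizedModule.mkLinearMap T' M)
  exact Module.Flat.of_linearEquiv (e.restrictScalars R).symm

end dominate

section unique

variable {C D : Type u} [CommRing C] [CommRing D] [Algebra D C] [Algebra.IsIntegral D C]

/-- If `z` is the only prime of `C` over the prime `y` of `D` (with `C` integral over `D`), then
every element of `C` outside `z` divides the image of an element of `D` outside `y`. -/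
theorem exists_mul_eq_algebraMap (z : Ideal C) [z.IsPrime] (y : Ideal D) [y.IsPrime]
    (h3 : ∀ (z₁ : Ideal C) [z₁.IsPrime], z₁.LiesOver y → z₁ = z) (x : C) (hx : x ∉ z) :
    ∃ (m : C) (d : D), d ∉ y ∧ m * x = algebraMap D C d := by
  by_contra hcon
  push Not at hcon
  have hle : (Ideal.span {x}).comap (algebraMap D C) ≤ y := by
    intro d hd
    by_contra hdy
    rw [Ideal.mem_comap, Ideal.mem_span_singleton'] at hd
    obtain ⟨c, hc⟩ := hd
    exact hcon c d hdy hc
  obtain ⟨Q, hQ, hQp, hQy⟩ := Ideal.exists_ideal_over_prime_of_isIntegral y (Ideal.span {x}) hle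
  have hQz : Q = z := h3 Q ⟨hQy.symm⟩
  exact hx (hQz ▸ hQ (Ideal.subset_span rfl))

end unique

end Groth.Agent.Lib.Helper64.FlatLoc
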