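import Mathlib
import Groth.Agent.Lib.Helper64.FlatLoc

set_option autoImplicit false
universe u

namespace Groth.Agent.Lib.Helper64.FPLoc

open TensorProduct

section basic

variable {A B : Type u} [CommRing A] [CommRing B] [Algebra A B]

/-- If `B` is finitely presented as an `A`-module, a `B`-module is finitely presented over `B`
iff it is over `A`. -/
theorem fp_iff_of_fp_algebra [Module.FinitePresentation A B] (M : Type u) [AddCommGroup M]
    [Module B M] [Module A M] [IsScalarTower A B M] :
    Module.FinitePresentation B M ↔ Module.FinitePresentation A M := by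
  constructor
  · intro h
    exact Module.FinitePresentation.trans A M B
  · intro h
    have hfin : Module.Finite B M := Module.Finite.of_restrictScalars_finite A B M
    obtain ⟨n, l, hl⟩ := Module.Finite.exists_fin' B M
    have hfinA : Module.Finite A (Fin n → B) := inferInstance
    have hker : (LinearMap.ker (l.restrictScalars A)).FG :=
      Module.FinitePresentation.fg_ker (l.restrictScalars A) hl
    refine Module.finitePresentation_of_surjective l hl ?_
    apply Submodule.FG.of_restrictScalars A
    rw [← LinearMap.ker_restrictScalars]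
    exact hker

/-- faithfully flat descent of finite presentation of modules. -/
theorem fp_of_isBaseChange_ff [Module.FaithfullyFlat A B] {X Y : Type u} [AddCommGroup X]
    [Module A X] [AddCommGroup Y] [Module A Y] [Module B Y] [IsScalarTower A B Y]
    {g : X →ₗ[A] Y} (hg : IsBaseChange B g) (h : Module.FinitePresentation B Y) :
    Module.FinitePresentation A X := by
  have h1 : Module.FinitePresentation B (B ⊗[A] X) := Module.FinitePresentation.of_equiv hg.equiv.symm
  have hfinBX : Module.Finite B (B ⊗[A] X) := inferInstance
  have hfin : Module.Finite A X := Module.Finite.of_finite_tensorProduct_of_faithfullyFlat B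
  obtain ⟨n, l, hl⟩ := Module.Finite.exists_fin' A X
  have hex : Function.Exact ((LinearMap.ker l).subtype.baseChange B) (l.baseChange B) :=
    lTensor_exact B l.exact_subtype_ker_map hl
  have hsurj : Function.Surjective (l.baseChange B) := LinearMap.lTensor_surjective B hl
  have hker : (LinearMap.ker (l.baseChange B)).FG :=
    Module.FinitePresentation.fg_ker (l.baseChange B) hsurj
  rw [LinearMap.exact_iff] at hex
  rw [hex] at hker
  have hinj : Function.Injective ((LinearMap.ker l).subtype.baseChange B) :=
    Module.Flat.lTensor_preserves_injective_linearMap _ (Submodule.injective_subtype _)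
  have hfinK' : Module.Finite B (LinearMap.range ((LinearMap.ker l).subtype.baseChange B)) :=
    Module.Finite.of_fg hker
  have hfinBK : Module.Finite B (B ⊗[A] (LinearMap.ker l)) :=
    Module.Finite.equiv (LinearEquiv.ofInjective _ hinj).symm
  have hfinK : Module.Finite A (LinearMap.ker l) :=
    Module.Finite.of_finite_tensorProduct_of_faithfullyFlat B
  exact Module.finitePresentation_of_surjective l hl (Module.Finite.iff_fg.mp hfinK)

end basic

section locrev

variable {R : Type u} [CommRing R] {M N : Type u} [AddCommGroup M] [AddCommGroup N] [Module R M]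
  [Module R N]

/-- shrinking the multiplicative set to an "equivalent" one. -/
lemma isLocalizedModule_of_le_of_exists_mul_mem (S T : Submonoid R) (h : S ≤ T)
    (h' : ∀ x : T, ∃ m : R, m * x ∈ S) (f : M →ₗ[R] N) [IsLocalizedModule T f] :
    IsLocalizedModule S f where
  map_units x := IsLocalizedModule.map_units f ⟨x.1, h x.2⟩
  surj y := by
    obtain ⟨⟨x, t⟩, e⟩ := IsLocalizedModule.surj T f y
    obtain ⟨m, hm⟩ := h' t
    refine ⟨⟨m • x, ⟨m * t, hm⟩⟩, ?_⟩
    simp only [Submonoid.smul_def] at e ⊢
    rw [mul_smul, e, map_smul]
  exists_of_eq {x₁ x₂} e := by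
    obtain ⟨c, hc⟩ := IsLocalizedModule.exists_of_eq (S := T) (f := f) e
    obtain ⟨m, hm⟩ := h' c
    refine ⟨⟨m * c, hm⟩, ?_⟩
    simp only [Submonoid.smul_def] at hc ⊢
    rw [mul_smul, mul_smul, hc]

end locrev


section loc

variable {S S' : Type u} [CommRing S] [CommRing S'] [Algebra S S']
  (T : Submonoid S) (T' : Submonoid S') (hT : T ≤ T'.comap (algebraMap S S'))
  (A B : Type u) [CommRing A] [CommRing B] [Algebra S A] [IsLocalization T A] [Algebra S' B]
  [IsLocalization T' B]

include hT in
/-- The induced map of localizations is flat when `S → S'` is. -/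
theorem flat_map_loc [Module.Flat S S'] (_alg : Algebra A B)
    (halg : algebraMap A B = IsLocalization.map B (algebraMap S S') hT) : Module.Flat A B := by
  let algSB : Algebra S B := ((algebraMap S' B).comp (algebraMap S S')).toAlgebra
  have tSS'B : IsScalarTower S S' B := IsScalarTower.of_algebraMap_eq (fun _ => rfl)
  have tSAB : IsScalarTower S A B := IsScalarTower.of_algebraMap_eq (fun x => by
    show algebraMap S' B (algebraMap S S' x) = algebraMap A B (algebraMap S A x)
    rw [halg, IsLocalization.map_eq])
  rw [Module.flat_iff_of_isLocalization A T]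
  have : Module.Flat S' B := IsLocalization.flat B T'
  exact Module.Flat.trans S S' B

include hT in
/-- The induced map of localizations is faithfully flat when `S → S'` is flat and every prime
of `S` missing `T` lifts to a prime of `S'` missing `T'`. -/
theorem faithfullyFlat_map_loc [Module.Flat S S'] (alg : Algebra A B)
    (halg : algebraMap A B = IsLocalization.map B (algebraMap S S') hT)
    (hcov : ∀ (Q : Ideal S) [Q.IsPrime], Disjoint (T : Set S) Q →
      ∃ (Q' : Ideal S') (_ : Q'.IsPrime), Disjoint (T' : Set S') Q' ∧
        Q'.comap (algebraMap S S') = Q) :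
    Module.FaithfullyFlat A B := by
  have hflat : Module.Flat A B := flat_map_loc T T' hT A B alg halg
  refine Module.FaithfullyFlat.of_comap_surjective ?_
  intro P
  have hPp : P.asIdeal.IsPrime := P.2
  let Q : Ideal S := P.asIdeal.comap (algebraMap S A)
  have hQ : Q.IsPrime := Ideal.comap_isPrime _ _
  have hQd : Disjoint (T : Set S) Q :=
    ((IsLocalization.isPrime_iff_isPrime_disjoint T A P.asIdeal).mp hPp).2
  obtain ⟨Q', hQ'p, hQ'd, hQ'Q⟩ := hcov Q hQd
  have hP'p : (Q'.map (algebraMap S' B)).IsPrime :=
    IsLocalization.isPrime_of_isPrime_disjoint T' B Q' hQ'p hQ'd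
  refine ⟨⟨Q'.map (algebraMap S' B), hP'p⟩, ?_⟩
  apply PrimeSpectrum.ext
  show (Q'.map (algebraMap S' B)).comap (algebraMap A B) = P.asIdeal
  rw [← IsLocalization.map_under T A P.asIdeal,
    ← IsLocalization.map_under T A ((Q'.map (algebraMap S' B)).comap (algebraMap A B))]
  congr 1
  show ((Q'.map (algebraMap S' B)).comap (algebraMap A B)).comap (algebraMap S A) = Q
  rw [Ideal.comap_comap, halg, IsLocalization.map_comp, ← Ideal.comap_comap]
  have := IsLocalization.under_map_of_isPrime_disjoint T' B hQ'p hQ'd
  rw [Ideal.under_def] at this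
  rw [this, hQ'Q]

variable {M M' X Y : Type u} [AddCommGroup M] [Module S M] [AddCommGroup M'] [Module S' M']
  [Module S M'] [IsScalarTower S S' M'] {f : M →ₗ[S] M'} (hf : IsBaseChange S' f)
  [AddCommGroup X] [Module S X] [Module A X] [IsScalarTower S A X]
  (a : M →ₗ[S] X) [IsLocalizedModule T a]
  [AddCommGroup Y] [Module S' Y] [Module B Y] [IsScalarTower S' B Y]
  (b : M' →ₗ[S'] Y) [IsLocalizedModule T' b]

include hT hf a b in
/-- Abstract comparison of finite presentation of two localizations related by a base change. -/
theorem fp_loc_aux :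
    (Module.FinitePresentation A X → Module.FinitePresentation B Y) ∧
    ((∀ (_alg : Algebra A B), algebraMap A B = IsLocalization.map B (algebraMap S S') hT →
        Module.FaithfullyFlat A B) →
      Module.FinitePresentation B Y → Module.FinitePresentation A X) := by
  let algAB : Algebra A B := (IsLocalization.map B (algebraMap S S') hT : A →+* B).toAlgebra
  let algSB : Algebra S B := ((algebraMap S' B).comp (algebraMap S S')).toAlgebra
  have tSS'B : IsScalarTower S S' B := IsScalarTower.of_algebraMap_eq (fun _ => rfl)
  have tSAB : IsScalarTower S A B := IsScalarTower.of_algebraMap_eq (fun x => by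
    show algebraMap S' B (algebraMap S S' x) = IsLocalization.map B (algebraMap S S') hT (algebraMap S A x)
    rw [IsLocalization.map_eq])
  let mSY : Module S Y := Module.compHom Y (algebraMap S S')
  have tSS'Y : IsScalarTower S S' Y := IsScalarTower.of_algebraMap_smul (fun _ _ => rfl)
  let mAY : Module A Y := Module.compHom Y (algebraMap A B)
  have tABY : IsScalarTower A B Y := IsScalarTower.of_algebraMap_smul (fun _ _ => rfl)
  have tSBY : IsScalarTower S B Y := IsScalarTower.of_algebraMap_smul (fun x y => by
    show algebraMap S B x • y = algebraMap S S' x • y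
    rw [IsScalarTower.algebraMap_apply S S' B, algebraMap_smul])
  have tSAY : IsScalarTower S A Y := IsScalarTower.of_algebraMap_smul (fun x y => by
    show algebraMap A B (algebraMap S A x) • y = x • y
    rw [← IsScalarTower.algebraMap_apply S A B, algebraMap_smul])
  have ha : IsBaseChange A a := IsLocalizedModule.isBaseChange T A a
  have hb : IsBaseChange B b := IsLocalizedModule.isBaseChange T' B b
  have hbf : IsBaseChange B (b.restrictScalars S ∘ₗ f) := IsBaseChange.comp hf hb
  let g : X →ₗ[A] Y := ha.lift (b.restrictScalars S ∘ₗ f)
  have hg : IsBaseChange B g := by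
    rw [← IsBaseChange.comp_iff ha]
    have : g.restrictScalars S ∘ₗ a = b.restrictScalars S ∘ₗ f := ha.lift_comp _
    rw [this]
    exact hbf
  refine ⟨fun h => _root_.FinitePresentation.of_isBaseChange g hg, ?_⟩
  intro hff h
  have : Module.FaithfullyFlat A B := hff algAB rfl
  exact fp_of_isBaseChange_ff hg h

end loc

section change

variable {C C' : Type u} [CommRing C] [CommRing C'] [Algebra C C']
  {G : Type u} [AddCommGroup G] [Module C' G] [Module C G] [IsScalarTower C C' G]

/-- Finite presentation of the localization of `G` over `C` at `T` and over `C'` at an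
"equivalent" submonoid `T'` agree when `C'` is finitely presented as a `C`-module. -/
theorem fp_loc_change [Module.FinitePresentation C C'] (T : Submonoid C) (T' : Submonoid C')
    (h1 : Algebra.algebraMapSubmonoid C' T ≤ T')
    (h2 : ∀ x : T', ∃ m : C', m * x ∈ Algebra.algebraMapSubmonoid C' T) :
    Module.FinitePresentation (Localization T) (LocalizedModule T G) ↔
      Module.FinitePresentation (Localization T') (LocalizedModule T' G) := by
  let T₁ := Algebra.algebraMapSubmonoid C' T
  have hT : T ≤ T'.comap (algebraMap C C') := fun x hx => h1 ⟨x, hx, rfl⟩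
  let algAB : Algebra (Localization T) (Localization T') :=
    (IsLocalization.map (Localization T') (algebraMap C C') hT :
      Localization T →+* Localization T').toAlgebra
  have tCAB : IsScalarTower C (Localization T) (Localization T') :=
    IsScalarTower.of_algebraMap_eq (fun x => by
      rw [IsScalarTower.algebraMap_apply C C' (Localization T')]
      show algebraMap C' (Localization T') (algebraMap C C' x) =
        IsLocalization.map (Localization T') (algebraMap C C') hT (algebraMap C (Localization T) x)
      rw [IsLocalization.map_eq])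
  let mAY : Module (Localization T) (LocalizedModule T' G) :=
    Module.compHom (LocalizedModule T' G) (algebraMap (Localization T) (Localization T'))
  have tABY : IsScalarTower (Localization T) (Localization T') (LocalizedModule T' G) :=
    IsScalarTower.of_algebraMap_smul (fun _ _ => rfl)
  have tCBY : IsScalarTower C (Localization T') (LocalizedModule T' G) :=
    IsScalarTower.of_algebraMap_smul (fun x y => by
      rw [IsScalarTower.algebraMap_apply C C' (Localization T'), algebraMap_smul, algebraMap_smul])
  have tCAY : IsScalarTower C (Localization T) (LocalizedModule T' G) :=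
    IsScalarTower.of_algebraMap_smul (fun x y => by
      show algebraMap (Localization T) (Localization T') (algebraMap C (Localization T) x) • y = x • y
      rw [← IsScalarTower.algebraMap_apply C (Localization T) (Localization T'), algebraMap_smul])
  let b' : G →ₗ[C'] LocalizedModule T' G := LocalizedModule.mkLinearMap T' G
  have inst1 : IsLocalizedModule T₁ b' := isLocalizedModule_of_le_of_exists_mul_mem T₁ T' h1 h2 b'
  have inst2 : IsLocalizedModule T (b'.restrictScalars C) := IsLocalizedModule.restrictScalars T b'
  let e : LocalizedModule T G ≃ₗ[C] LocalizedModule T' G :=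
    IsLocalizedModule.iso T (b'.restrictScalars C)
  let eA : LocalizedModule T G ≃ₗ[Localization T] LocalizedModule T' G :=
    e.extendScalarsOfIsLocalization T (Localization T)
  -- `Localization T'` is a finitely presented `Localization T`-module
  have inst4 : IsLocalizedModule T₁ (Algebra.linearMap C' (Localization T')) :=
    isLocalizedModule_of_le_of_exists_mul_mem T₁ T' h1 h2 _
  have inst5 : IsLocalizedModule T ((Algebra.linearMap C' (Localization T')).restrictScalars C) :=
    IsLocalizedModule.restrictScalars T _
  have hbc : IsBaseChange (Localization T)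
      ((Algebra.linearMap C' (Localization T')).restrictScalars C) :=
    IsLocalizedModule.isBaseChange T (Localization T) _
  have hfpAB : Module.FinitePresentation (Localization T) (Localization T') :=
    _root_.FinitePresentation.of_isBaseChange _ hbc
  rw [fp_iff_of_fp_algebra (A := Localization T) (B := Localization T') (LocalizedModule T' G)]
  exact eA.finitePresentation_iff

end change


section conc

variable {S S' : Type u} [CommRing S] [CommRing S'] [Algebra S S']
  {M M' : Type u} [AddCommGroup M] [Module S M]
  [AddCommGroup M'] [Module S' M'] [Module S M'] [IsScalarTower S S' M']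
  {f : M →ₗ[S] M'} (hf : IsBaseChange S' f)

include hf in
/-- finite presentation at a prime is insensitive to flat base change `S → S'`. -/
theorem fpAt_iff_of_flat [Module.Flat S S'] (q : Ideal S) [q.IsPrime] (q' : Ideal S')
    [q'.IsPrime] [hq : q'.LiesOver q] :
    Module.FinitePresentation (Localization.AtPrime q) (LocalizedModule q.primeCompl M) ↔
      Module.FinitePresentation (Localization.AtPrime q') (LocalizedModule q'.primeCompl M') := by
  have hT : q.primeCompl ≤ q'.primeCompl.comap (algebraMap S S') := by
    intro x hx
    simp only [Submonoid.mem_comap, Ideal.mem_primeCompl_iff] at hx ⊢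
    rw [hq.over] at hx
    exact hx
  obtain ⟨h1, h2⟩ := fp_loc_aux q.primeCompl q'.primeCompl hT
    (Localization.AtPrime q) (Localization.AtPrime q') hf
    (LocalizedModule.mkLinearMap q.primeCompl M) (LocalizedModule.mkLinearMap q'.primeCompl M')
  refine ⟨h1, h2 ?_⟩
  intro alg halg
  have hflat : Module.Flat (Localization.AtPrime q) (Localization.AtPrime q') :=
    flat_map_loc q.primeCompl q'.primeCompl hT _ _ alg halg
  have hloc : IsLocalHom (algebraMap (Localization.AtPrime q) (Localization.AtPrime q')) := by
    rw [halg]
    exact Localization.isLocalHom_localRingHom q q' (algebraMap S S') hq.over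
  exact Module.FaithfullyFlat.of_flat_of_isLocalHom

include hf in
theorem fp_away_of_fp (g : S)
    (h : Module.FinitePresentation (Localization.Away g)
      (LocalizedModule (Submonoid.powers g) M)) :
    Module.FinitePresentation (Localization.Away (algebraMap S S' g))
      (LocalizedModule (Submonoid.powers (algebraMap S S' g)) M') := by
  have hT : Submonoid.powers g ≤ (Submonoid.powers (algebraMap S S' g)).comap (algebraMap S S') := by
    rintro x ⟨n, rfl⟩
    exact ⟨n, by simp⟩
  exact (fp_loc_aux (Submonoid.powers g) (Submonoid.powers (algebraMap S S' g)) hT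
    (Localization.Away g) (Localization.Away (algebraMap S S' g)) hf
    (LocalizedModule.mkLinearMap _ M) (LocalizedModule.mkLinearMap _ M')).1 h

omit [Module S M'] [IsScalarTower S S' M'] in
/-- Passing to a bigger multiplicative set preserves finite presentation. -/
theorem fp_loc_of_le (T T' : Submonoid S') (hle : T ≤ T')
    (h : Module.FinitePresentation (Localization T) (LocalizedModule T M')) :
    Module.FinitePresentation (Localization T') (LocalizedModule T' M') := by
  have hid : IsBaseChange S' (LinearMap.id : M' →ₗ[S'] M') :=
    IsBaseChange.of_equiv (TensorProduct.lid S' M') (fun x => by simp)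
  have hT : T ≤ T'.comap (algebraMap S' S') := fun x hx => hle hx
  exact (fp_loc_aux T T' hT (Localization T) (Localization T') hid
    (LocalizedModule.mkLinearMap T M') (LocalizedModule.mkLinearMap T' M')).1 h

omit [Module S M'] [IsScalarTower S S' M'] in
theorem fp_loc_of_dominates (T T' : Submonoid S') (hd : ∀ t ∈ T, ∃ m : S', m * t ∈ T')
    (h : Module.FinitePresentation (Localization T) (LocalizedModule T M')) :
    Module.FinitePresentation (Localization T') (LocalizedModule T' M') := by
  have h1 := fp_loc_of_le (M' := M') T (T ⊔ T') le_sup_left h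
  refine (fp_loc_change (C := S') (C' := S') (G := M') T' (T ⊔ T') ?_ ?_).mpr h1
  · rintro _ ⟨x, hx, rfl⟩
    exact (le_sup_right : T' ≤ T ⊔ T') hx
  · rintro ⟨x, hx⟩
    obtain ⟨t, ht, t', ht', rfl⟩ := Submonoid.mem_sup.mp hx
    obtain ⟨m, hm⟩ := hd t ht
    exact ⟨m, m * (t * t'), by rw [← mul_assoc]; exact T'.mul_mem hm ht', rfl⟩

include hf in
/-- Descent of "finitely presented near a point" along a flat finitely presented map. -/
theorem exists_fp_away_of_fp_away [Module.Flat S S'] [Algebra.FinitePresentation S S']
    (q : Ideal S) [q.IsPrime] (q' : Ideal S') [q'.IsPrime] [hq : q'.LiesOver q] (g₁ : S')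
    (hg₁ : g₁ ∉ q')
    (h : Module.FinitePresentation (Localization.Away g₁)
      (LocalizedModule (Submonoid.powers g₁) M')) :
    ∃ h₀ : S, h₀ ∉ q ∧ Module.FinitePresentation (Localization.Away h₀)
      (LocalizedModule (Submonoid.powers h₀) M) := by
  have hopen : IsOpenMap (PrimeSpectrum.comap (algebraMap S S')) :=
    PrimeSpectrum.isOpenMap_comap_of_hasGoingDown_of_finitePresentation
  have h1 : IsOpen (PrimeSpectrum.comap (algebraMap S S') '' (PrimeSpectrum.basicOpen g₁ : Set _)) :=
    hopen _ (PrimeSpectrum.basicOpen g₁).isOpen
  have h2 : (⟨q, inferInstance⟩ : PrimeSpectrum S) ∈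
      PrimeSpectrum.comap (algebraMap S S') '' (PrimeSpectrum.basicOpen g₁ : Set _) := by
    refine ⟨⟨q', inferInstance⟩, hg₁, ?_⟩
    exact PrimeSpectrum.ext hq.over.symm
  obtain ⟨v, ⟨h₀, rfl⟩, hpv, hv⟩ :=
    PrimeSpectrum.isTopologicalBasis_basic_opens.exists_subset_of_mem_open h2 h1
  refine ⟨h₀, hpv, ?_⟩
  let T : Submonoid S := Submonoid.powers h₀
  let T' : Submonoid S' := Submonoid.powers g₁ ⊔ Submonoid.powers (algebraMap S S' h₀)
  have hT : T ≤ T'.comap (algebraMap S S') := by
    rintro x ⟨n, rfl⟩
    exact (le_sup_right : Submonoid.powers (algebraMap S S' h₀) ≤ T') ⟨n, by simp⟩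
  have h3 : Module.FinitePresentation (Localization T') (LocalizedModule T' M') :=
    fp_loc_of_le (M' := M') (Submonoid.powers g₁) T' le_sup_left h
  refine (fp_loc_aux T T' hT (Localization.Away h₀) (Localization T') hf
    (LocalizedModule.mkLinearMap T M) (LocalizedModule.mkLinearMap T' M')).2 ?_ h3
  intro alg halg
  refine faithfullyFlat_map_loc T T' hT _ _ alg halg ?_
  intro Q hQ hQd
  have hh : h₀ ∉ Q := fun hmem =>
    Set.disjoint_left.mp hQd (show h₀ ∈ (T : Set S) from Submonoid.mem_powers h₀) hmem
  obtain ⟨Q', hQ', hQQ'⟩ := hv (show (⟨Q, hQ⟩ : PrimeSpectrum S) ∈ _ from hh)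
  refine ⟨Q'.asIdeal, Q'.2, ?_, congrArg PrimeSpectrum.asIdeal hQQ'⟩
  rw [Set.disjoint_left]
  intro x hx hxQ
  obtain ⟨a, ⟨n, rfl⟩, b, ⟨m, rfl⟩, rfl⟩ := Submonoid.mem_sup.mp hx
  rcases Q'.2.mem_or_mem hxQ with h5 | h5
  · exact hQ' (Q'.2.mem_of_pow_mem n h5)
  · have h6 : algebraMap S S' h₀ ∈ Q'.asIdeal := Q'.2.mem_of_pow_mem m h5
    apply hh
    have h7 : h₀ ∈ (PrimeSpectrum.comap (algebraMap S S') Q').asIdeal := h6
    rw [hQQ'] at h7
    exact h7

end conc

end Groth.Agent.Lib.Helper64.FPLoc
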