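import Mathlib
import Groth.Agent.Lib.Helper64.FlatLoc

set_option autoImplicit false
universe u

namespace Groth.Agent.Lib.Helper64.FlatLoc

section core

variable {R S R' S' C D : Type u} [CommRing R] [CommRing S] [CommRing R'] [CommRing S']
  [CommRing C] [CommRing D]
  [Algebra R S] [Algebra R R'] [Algebra S S'] [Algebra R' S'] [Algebra R S']
  [IsScalarTower R R' S'] [IsScalarTower R S S']
  [Algebra S' C] [Algebra D C] [Algebra R' D] [Algebra R' C] [IsScalarTower R' D C]
  [IsScalarTower R' S' C]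
  {N N' G : Type u} [AddCommGroup N] [Module S N] [Module R N] [IsScalarTower R S N]
  [AddCommGroup N'] [Module S' N'] [Module S N'] [IsScalarTower S S' N']
  [AddCommGroup G] [Module C G] [Module S' G] [IsScalarTower S' C G] [Module D G]
  [IsScalarTower D C G] [Module R' G] [IsScalarTower R' C G] [IsScalarTower R' D G]
  (q : Ideal S) [q.IsPrime] (q' : Ideal S') [q'.IsPrime] [hq'q : q'.LiesOver q]
  (z : Ideal C) [z.IsPrime] [hzq' : z.LiesOver q'] (y : Ideal D) [y.IsPrime] [hzy : z.LiesOver y]
  [Algebra.Etale R R'] [Algebra.Etale S S']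
  {f : N →ₗ[S] N'} (hf : IsBaseChange S' f) (surjC : Function.Surjective (algebraMap S' C))
  (iso : N' ≃ₗ[S'] G) [Module.Finite D C]
  (uniq : ∀ (z₁ : Ideal C) [z₁.IsPrime], z₁.LiesOver y → z₁ = z)

include hf surjC iso uniq hq'q hzq' in
theorem core :
    [Module.Flat R (LocalizedModule q.primeCompl N),
      Module.Flat R' (LocalizedModule z.primeCompl G),
      Module.Flat R' (LocalizedModule y.primeCompl G)].TFAE ∧
    [∃ g : S, g ∉ q ∧ Module.Flat R (LocalizedModule (Submonoid.powers g) N),
     ∃ g : C, g ∉ z ∧ Module.Flat R' (LocalizedModule (Submonoid.powers g) G),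
     ∃ g : D, g ∉ y ∧ Module.Flat R' (LocalizedModule (Submonoid.powers g) G)].TFAE := by
  let mR'N' : Module R' N' := Module.compHom N' (algebraMap R' S')
  let mRN' : Module R N' := Module.compHom N' (algebraMap R S')
  have tR'S'N' : IsScalarTower R' S' N' := IsScalarTower.of_algebraMap_smul (fun _ _ => rfl)
  have tRS'N' : IsScalarTower R S' N' := IsScalarTower.of_algebraMap_smul (fun _ _ => rfl)
  have tRR'N' : IsScalarTower R R' N' := IsScalarTower.of_algebraMap_smul (fun r x => by
    show algebraMap R' S' (algebraMap R R' r) • x = algebraMap R S' r • x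
    rw [← IsScalarTower.algebraMap_apply])
  have tR'S'G : IsScalarTower R' S' G := IsScalarTower.of_algebraMap_smul (fun r x => by
    rw [← algebraMap_smul C (algebraMap R' S' r) x, ← IsScalarTower.algebraMap_apply,
      algebraMap_smul])
  have flatSS' : Module.Flat S S' := inferInstance
  have fpSS' : Algebra.FinitePresentation S S' := inferInstance
  have intDC : Algebra.IsIntegral D C := inferInstance
  -- flat over R iff flat over R'
  have key : ∀ (X : Type u) [AddCommGroup X] [Module R' X] [Module R X] [IsScalarTower R R' X],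
      Module.Flat R X ↔ Module.Flat R' X := by
    intro X _ _ _ _
    exact ⟨fun h => Algebra.FormallyUnramified.flat_of_restrictScalars R R' X,
      fun h => Module.Flat.trans R R' X⟩
  -- transport along iso
  have hiso : ∀ T : Submonoid S', Module.Flat R' (LocalizedModule T N') ↔
      Module.Flat R' (LocalizedModule T G) := by
    intro T
    let e : LocalizedModule T N' ≃ₗ[Localization T] LocalizedModule T G :=
      IsLocalizedModule.mapEquiv T (LocalizedModule.mkLinearMap T N')
        (LocalizedModule.mkLinearMap T G) (Localization T) iso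
    let e' : LocalizedModule T N' ≃ₗ[R'] LocalizedModule T G := e.restrictScalars R'
    exact ⟨fun h => Module.Flat.of_linearEquiv e'.symm, fun h => Module.Flat.of_linearEquiv e'⟩
  -- S'-localization vs C-localization of G
  have hS'C : ∀ (T : Submonoid S') (T' : Submonoid C), Algebra.algebraMapSubmonoid C T ≤ T' →
      (∀ x ∈ T', ∃ x' ∈ T, algebraMap S' C x' = x) →
      (Module.Flat R' (LocalizedModule T G) ↔ Module.Flat R' (LocalizedModule T' G)) := by
    intro T T' h1 h2
    refine flat_loc_change (R := R') (C := S') (C' := C) T T' h1 ?_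
    rintro ⟨x, hx⟩
    obtain ⟨x', hx', rfl⟩ := h2 x hx
    exact ⟨1, by rw [one_mul]; exact ⟨x', hx', rfl⟩⟩
  -- D-localization vs C-localization of G
  have hDC : ∀ (T : Submonoid D) (T' : Submonoid C), Algebra.algebraMapSubmonoid C T ≤ T' →
      (∀ x : T', ∃ m : C, m * x ∈ Algebra.algebraMapSubmonoid C T) →
      (Module.Flat R' (LocalizedModule T G) ↔ Module.Flat R' (LocalizedModule T' G)) := by
    intro T T' h1 h2
    exact flat_loc_change (R := R') (C := D) (C' := C) T T' h1 h2
  have hq'z : ∀ x : S', x ∈ q' ↔ algebraMap S' C x ∈ z := by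
    intro x
    rw [hzq'.over, Ideal.mem_comap]
  have hyz : ∀ x : D, x ∈ y ↔ algebraMap D C x ∈ z := by
    intro x
    rw [hzy.over, Ideal.mem_comap]
  have hqq' : ∀ x : S, x ∈ q ↔ algebraMap S S' x ∈ q' := by
    intro x
    rw [hq'q.over, Ideal.mem_comap]
  constructor
  · -- pointwise statement
    have h12 : Module.Flat R (LocalizedModule q.primeCompl N) ↔
        Module.Flat R' (LocalizedModule z.primeCompl G) := by
      rw [flatAt_iff_of_flat (R := R) hf q q', key, hiso]
      refine hS'C q'.primeCompl z.primeCompl ?_ ?_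
      · rintro _ ⟨x, hx, rfl⟩
        exact fun hmem => hx ((hq'z x).mpr hmem)
      · intro x hx
        obtain ⟨x', rfl⟩ := surjC x
        exact ⟨x', fun hmem => hx ((hq'z x').mp hmem), rfl⟩
    have h32 : Module.Flat R' (LocalizedModule y.primeCompl G) ↔
        Module.Flat R' (LocalizedModule z.primeCompl G) := by
      refine hDC y.primeCompl z.primeCompl ?_ ?_
      · rintro _ ⟨x, hx, rfl⟩
        exact fun hmem => hx ((hyz x).mpr hmem)
      · rintro ⟨x, hx⟩
        obtain ⟨m, d, hd, hmd⟩ := exists_mul_eq_algebraMap z y uniq x hx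
        exact ⟨m, d, hd, hmd.symm⟩
    tfae_have 1 ↔ 2 := h12
    tfae_have 3 ↔ 2 := h32
    tfae_finish
  · tfae_have 1 → 2 := by
      rintro ⟨g, hg, hflat⟩
      refine ⟨algebraMap S' C (algebraMap S S' g), fun hmem => hg ?_, ?_⟩
      · exact (hqq' g).mpr ((hq'z _).mpr hmem)
      · have h1 := flat_away_of_flat (R := R) hf g hflat
        rw [key, hiso] at h1
        refine (hS'C (Submonoid.powers (algebraMap S S' g)) _ ?_ ?_).mp h1
        · rintro _ ⟨x, ⟨n, rfl⟩, rfl⟩
          exact ⟨n, by simp⟩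
        · rintro x ⟨n, rfl⟩
          exact ⟨(algebraMap S S' g) ^ n, ⟨n, rfl⟩, by simp⟩
    tfae_have 2 → 1 := by
      rintro ⟨g, hg, hflat⟩
      obtain ⟨g₁, rfl⟩ := surjC g
      have hg₁ : g₁ ∉ q' := fun hmem => hg ((hq'z g₁).mp hmem)
      have h1 : Module.Flat R' (LocalizedModule (Submonoid.powers g₁) G) := by
        refine (hS'C (Submonoid.powers g₁) (Submonoid.powers (algebraMap S' C g₁)) ?_ ?_).mpr hflat
        · rintro _ ⟨x, ⟨n, rfl⟩, rfl⟩
          exact ⟨n, by simp⟩
        · rintro x ⟨n, rfl⟩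
          exact ⟨g₁ ^ n, ⟨n, rfl⟩, by simp⟩
      rw [← hiso, ← key] at h1
      exact exists_flat_away_of_flat_away (R := R) hf q q' g₁ hg₁ h1
    tfae_have 2 → 3 := by
      rintro ⟨g, hg, hflat⟩
      obtain ⟨m, d, hd, hmd⟩ := exists_mul_eq_algebraMap z y uniq g hg
      refine ⟨d, hd, ?_⟩
      have h1 : Module.Flat R' (LocalizedModule (Submonoid.powers (algebraMap D C d)) G) := by
        refine flat_loc_of_dominates (R := R') (Submonoid.powers g) _ ?_ hflat
        rintro _ ⟨n, rfl⟩
        exact ⟨m ^ n, ⟨n, by rw [← mul_pow, hmd]⟩⟩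
      refine (hDC (Submonoid.powers d) (Submonoid.powers (algebraMap D C d)) ?_ ?_).mpr h1
      · rintro _ ⟨x, ⟨n, rfl⟩, rfl⟩
        exact ⟨n, by simp⟩
      · rintro ⟨x, ⟨n, rfl⟩⟩
        exact ⟨1, d ^ n, ⟨n, rfl⟩, by simp⟩
    tfae_have 3 → 2 := by
      rintro ⟨g, hg, hflat⟩
      refine ⟨algebraMap D C g, fun hmem => hg ((hyz g).mpr hmem), ?_⟩
      refine (hDC (Submonoid.powers g) (Submonoid.powers (algebraMap D C g)) ?_ ?_).mp hflat
      · rintro _ ⟨x, ⟨n, rfl⟩, rfl⟩
        exact ⟨n, by simp⟩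
      · rintro ⟨x, ⟨n, rfl⟩⟩
        exact ⟨1, g ^ n, ⟨n, rfl⟩, by simp⟩
    tfae_finish

end core

end Groth.Agent.Lib.Helper64.FlatLoc
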