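import Mathlib
import Groth.Prelude
import Groth.Agent.Lib.Helper64.CurveGeom
import Groth.Agent.Lib.Helper1.HHTools
import Groth.Agent.Lib.Helper75.H0k
import Groth.Agent.Lib.Helper24.SmoothNormalStalk

/-!
# A finite flat cover `X → Y` with `H⁰(coker(O_Y → ρ_* O_X)) = 0` of a proper geometrically
connected and geometrically reduced `Y` is geometrically connected (helper64)
-/

set_option autoImplicit false
set_option linter.style.haveILetI false
universe u

namespace Groth.Agent.Lib.Helper64.FinCovConn

open AlgebraicGeometry CategoryTheory Limits TopologicalSpace Opposite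

/-- a flat surjective morphism is injective on sections. -/
theorem app_injective_of_flat_of_surjective {X Y : Scheme.{u}} (ρ : X ⟶ Y) [Flat ρ] [Surjective ρ]
    (U : Y.Opens) : Function.Injective (ρ.app U) := by
  rw [injective_iff_map_eq_zero]
  intro s hs
  refine TopCat.Presheaf.section_ext Y.sheaf U _ _ fun y hy => ?_
  obtain ⟨x, rfl⟩ := ρ.surjective y
  have h1 := Scheme.Hom.germ_stalkMap_apply ρ U x hy s
  rw [hs, map_zero] at h1
  have hflat : (ρ.stalkMap x).hom.Flat := Flat.stalkMap ρ x
  letI := (ρ.stalkMap x).hom.toAlgebra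
  haveI := Groth.Agent.Lib.Helper24.faithfullyFlat_stalkMap ρ x hflat
  have hinj : Function.Injective (ρ.stalkMap x).hom :=
    FaithfulSMul.algebraMap_injective (Y.presheaf.stalk (ρ.base x)) (X.presheaf.stalk x)
  have h2 : Y.presheaf.germ U (ρ.base x) hy s = 0 := hinj (h1.trans (map_zero _).symm)
  exact h2.trans (map_zero (Y.presheaf.germ U (ρ.base x) hy).hom).symm

/-- a morphism of modules injective on all sections is a monomorphism
(as in `Helper1.mono_of_app_injective`). -/
theorem mono_of_app_injective {X : Scheme.{u}} {F G : X.Modules} (φ : F ⟶ G)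
    (h : ∀ U : X.Opens, Function.Injective (φ.app U)) : Mono φ := by
  apply Functor.mono_of_mono_map (Scheme.Modules.toPresheaf X)
  apply (config := { allowSynthFailures := true }) NatTrans.mono_of_mono_app
  intro U
  change Mono (φ.app U.unop)
  exact (AddCommGrpCat.mono_iff_injective _).mpr (h U.unop)

/-- `O_Y ⟶ ρ_* O_X` is a monomorphism for flat surjective `ρ`. -/
theorem mono_unitToPush {X Y : Scheme.{u}} (ρ : X ⟶ Y) [Flat ρ] [Surjective ρ] :
    Mono (ClSub.unitToPush ρ) :=
  mono_of_app_injective _ fun U => app_injective_of_flat_of_surjective ρ U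

open Groth.Agent.Lib.Helper1 in
/-- for a short exact sequence of modules with `H⁰` of the cokernel trivial, global sections of
the middle term lift. -/
theorem app_top_surjective_of_subsingleton {Y : Scheme.{u}} {S : ShortComplex Y.Modules}
    (hS : S.ShortExact) (h3 : Subsingleton (Coh.HH Y S.X₃ 0)) :
    Function.Surjective (S.f.app ⊤) := by
  intro t
  have hS' := shortExact_map_toAbF hS
  let hT := CategoryTheory.Limits.isTerminalTop (α := TopologicalSpace.Opens Y)
  let x : Coh.HH Y S.X₂ 0 := (Sheaf.H.equiv₀ (Coh.toAb S.X₂) hT).symm t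
  let x' : Abelian.Ext _ (S.map (toAbF Y)).X₂ 0 := x
  have hx' : x'.comp (Abelian.Ext.mk₀ (S.map (toAbF Y)).g) (add_zero 0) = 0 :=
    Subsingleton.elim (α := Coh.HH Y S.X₃ 0) _ _
  obtain ⟨y, hy⟩ := Abelian.Ext.covariant_sequence_exact₂ _ hS' x' hx'
  let y' : Coh.HH Y S.X₁ 0 := y
  refine ⟨Sheaf.H.equiv₀ (Coh.toAb S.X₁) hT y', ?_⟩
  have hnat := Sheaf.H.equiv₀_naturality hT ((toAbF Y).map S.f) y'
  have h2 : Sheaf.H.map ((toAbF Y).map S.f) 0 y' = x := hy
  rw [h2] at hnat
  refine hnat.trans ?_
  exact (Sheaf.H.equiv₀ (Coh.toAb S.X₂) hT).apply_symm_apply t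

open Groth.Agent.Lib.Helper38.H0Const in
theorem main (k : Type u) [Field k] (X Y : Scheme.{u}) (g : Y ⟶ Spec (CommRingCat.of k))
    (ρ : X ⟶ Y) [IsProper g] [GeometricallyConnected g] [GeometricallyReduced g]
    [IsFinite ρ] [Flat ρ] [Surjective ρ]
    (h0 : Subsingleton (Coh.HH Y (cokernel (ClSub.unitToPush ρ)) 0)) :
    GeometricallyConnected (ρ ≫ g) := by
  let u := ClSub.unitToPush ρ
  haveI hmono : Mono u := mono_unitToPush ρ
  let S : ShortComplex Y.Modules := ShortComplex.mk u (cokernel.π u) (cokernel.condition u)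
  have hS : S.ShortExact :=
    ShortComplex.ShortExact.mk' (ShortComplex.exact_cokernel u) hmono
      (inferInstanceAs (Epi (cokernel.π u)))
  have hsurj : Function.Surjective (u.app ⊤) := app_top_surjective_of_subsingleton hS h0
  have hρsurj : Function.Surjective ρ.appTop.hom := hsurj
  -- `Y`
  letI instY : Y.Over (Spec (CommRingCat.of k)) := ⟨g⟩
  haveI : IsProper (Y ↘ Spec (CommRingCat.of k)) := ‹IsProper g›
  haveI : GeometricallyConnected (Y ↘ Spec (CommRingCat.of k)) := ‹GeometricallyConnected g›
  haveI : GeometricallyReduced (Y ↘ Spec (CommRingCat.of k)) := ‹GeometricallyReduced g›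
  have hY : Module.finrank k (Coh.HH Y (Coh.structureModule Y) 0) = 1 :=
    Groth.Agent.Lib.Helper38.H0Const.main k Y
  have hgsurj : Function.Surjective g.appTop.hom :=
    Groth.Agent.Lib.Helper75.H0k.appTop_surjective_of_finrank_eq_one k Y hY
  -- `X`
  letI instX : X.Over (Spec (CommRingCat.of k)) := ⟨ρ ≫ g⟩
  haveI : IsProper (X ↘ Spec (CommRingCat.of k)) := (inferInstance : IsProper (ρ ≫ g))
  have hfsurj : Function.Surjective (ρ ≫ g).appTop.hom := by
    rw [Scheme.Hom.comp_appTop]
    exact hρsurj.comp hgsurj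
  have hX : Module.finrank k (Coh.HH X (Coh.structureModule X) 0) = 1 := by
    rw [finrank_HH_zero]
    letI := (tg (X ↘ Spec (CommRingCat.of k))).toAlgebra
    have htg : Function.Surjective (tg (ρ ≫ g)) := by
      have h1 : Function.Surjective (Scheme.ΓSpecIso (CommRingCat.of k)).inv.hom :=
        (ConcreteCategory.bijective_of_isIso (Scheme.ΓSpecIso (CommRingCat.of k)).inv).2
      exact hfsurj.comp h1
    haveI : Surjective g := inferInstance
    obtain ⟨y, -⟩ := g.surjective (Nonempty.some inferInstance)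
    obtain ⟨x, -⟩ := ρ.surjective y
    haveI : Nonempty X := ⟨x⟩
    haveI : Nonempty (⊤ : X.Opens) := ⟨⟨x, trivial⟩⟩
    haveI : Nontrivial Γ(X, ⊤) := inferInstance
    have hbij : Function.Bijective (algebraMap k Γ(X, ⊤)) :=
      ⟨(algebraMap k Γ(X, ⊤)).injective, htg⟩
    exact (LinearEquiv.ofBijective (Algebra.linearMap k Γ(X, ⊤)) hbij).finrank_eq.symm.trans
      (Module.finrank_self k)
  exact CurveGeom.geometricallyConnected_of_finrank_eq_one k X hX

end Groth.Agent.Lib.Helper64.FinCovConn
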