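import Mathlib

set_option autoImplicit false
universe u

open CategoryTheory CategoryTheory.Limits AlgebraicGeometry

namespace Groth.Agent.Lib.Helper64.FlatEqRel

/-- in a pushout square of commutative rings, the pushout of an injective map along a flat map
is injective -/
lemma injective_inl_of_isPushout {R C K P : CommRingCat.{u}} {f : R ⟶ C} {g : R ⟶ K}
    {inl : C ⟶ P} {inr : K ⟶ P} (h : IsPushout f g inl inr) (hf : f.hom.Flat)
    (hg : Function.Injective g.hom) : Function.Injective inl.hom := by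
  let _ := f.hom.toAlgebra
  let _ := g.hom.toAlgebra
  have h' : IsPushout f g
      (CommRingCat.ofHom (Algebra.TensorProduct.includeLeft (R := R) (S := R) (A := C) (B := K)).toRingHom)
      (CommRingCat.ofHom (Algebra.TensorProduct.includeRight (R := R) (A := C) (B := K)).toRingHom) :=
    CommRingCat.isPushout_tensorProduct R C K
  have he := IsPushout.inl_isoIsPushout_hom C K h h'
  have hflat : Module.Flat R C := hf
  have hinj : Function.Injective
      (Algebra.TensorProduct.includeLeft (R := R) (S := R) (A := C) (B := K)) :=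
    Algebra.TensorProduct.includeLeft_injective (R := R) (S := R) (A := C) (B := K) hg
  intro a b hab
  apply hinj
  have h1 := congrArg (fun φ => φ.hom a) he
  have h2 := congrArg (fun φ => φ.hom b) he
  simp only [CommRingCat.hom_comp, RingHom.coe_comp, Function.comp_apply,
    CommRingCat.hom_ofHom] at h1 h2
  change (Algebra.TensorProduct.includeLeft (R := R) (S := R) (A := C) (B := K)).toRingHom a =
    (Algebra.TensorProduct.includeLeft (R := R) (S := R) (A := C) (B := K)).toRingHom b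
  rw [← h1, ← h2, hab]


section density

variable {R K : Type u} [CommRing R] [CommRing K] [Algebra R K]

/-- for `Z` flat over `Spec R` and `R → K` injective, the map `Z ×_R K → Z` is injective on
sections over affine opens -/
lemma app_fst_injective (hinj : Function.Injective (algebraMap R K)) {Z : Scheme.{u}}
    (g : Z ⟶ Spec (CommRingCat.of R)) [Flat g] (U : Z.Opens) (hU : IsAffineOpen U) :
    Function.Injective
      ((pullback.fst g (Spec.map (CommRingCat.ofHom (algebraMap R K)))).app U).hom := by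
  let sK := Spec.map (CommRingCat.ofHom (algebraMap R K))
  have H : IsPullback (pullback.fst g sK) (pullback.snd g sK) g sK := IsPullback.of_hasPullback g sK
  have hUST : (⊤ : (Spec (CommRingCat.of K)).Opens) ≤ sK ⁻¹ᵁ ⊤ := le_top.trans_eq rfl
  have hUSX : U ≤ g ⁻¹ᵁ ⊤ := le_top.trans_eq rfl
  have hiso := isIso_pushoutSection_of_isAffineOpen H hUST hUSX rfl (isAffineOpen_top _)
    (isAffineOpen_top _) hU
  have hpo := (isIso_pushoutSection_iff H hUST hUSX rfl).1 hiso
  have hflat : (g.appLE ⊤ U hUSX).hom.Flat :=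
    HasRingHomProperty.appLE @Flat g inferInstance ⟨⊤, isAffineOpen_top _⟩ ⟨U, hU⟩ hUSX
  have hinj' : Function.Injective (sK.appLE ⊤ ⊤ hUST).hom := by
    have h1 : sK.appLE ⊤ ⊤ hUST = sK.appTop := by
      simp [Scheme.Hom.appTop, Scheme.Hom.appLE]
    have h2 := Scheme.ΓSpecIso_naturality (CommRingCat.ofHom (algebraMap R K))
    have h3 : sK.appTop = (Scheme.ΓSpecIso (CommRingCat.of R)).hom ≫
        CommRingCat.ofHom (algebraMap R K) ≫ (Scheme.ΓSpecIso (CommRingCat.of K)).inv := by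
      rw [← Category.assoc, ← h2, Category.assoc, Iso.hom_inv_id, Category.comp_id]
    rw [h1, h3]
    simp only [CommRingCat.hom_comp, RingHom.coe_comp, CommRingCat.hom_ofHom]
    exact ((ConcreteCategory.bijective_of_isIso
      (Scheme.ΓSpecIso (CommRingCat.of K)).inv).injective.comp hinj).comp
      (ConcreteCategory.bijective_of_isIso (Scheme.ΓSpecIso (CommRingCat.of R)).hom).injective
  have hinl := injective_inl_of_isPushout hpo hflat hinj'
  have hle : pullback.fst g sK ⁻¹ᵁ U ⊓ pullback.snd g sK ⁻¹ᵁ ⊤ ≤ pullback.fst g sK ⁻¹ᵁ U :=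
    inf_le_left
  have h4 : (pullback.fst g sK).appLE U _ hle =
      (pullback.fst g sK).app U ≫ (pullback g sK).presheaf.map (homOfLE hle).op := rfl
  have hinl' : Function.Injective ((pullback.fst g sK).appLE U _ hle).hom := hinl
  rw [h4] at hinl'
  simp only [CommRingCat.hom_comp, RingHom.coe_comp] at hinl'
  exact Function.Injective.of_comp hinl'


/-- density: a closed subscheme of a flat `R`-scheme containing the fibre over `K` is everything -/
lemma isIso_of_fst_factors (hinj : Function.Injective (algebraMap R K)) {Z W : Scheme.{u}}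
    (g : Z ⟶ Spec (CommRingCat.of R)) [Flat g] (i : W ⟶ Z) [IsClosedImmersion i]
    (l : pullback g (Spec.map (CommRingCat.ofHom (algebraMap R K))) ⟶ W)
    (hl : l ≫ i = pullback.fst g (Spec.map (CommRingCat.ofHom (algebraMap R K)))) : IsIso i := by
  rw [IsClosedImmersion.isIso_iff_ker_eq_bot]
  have h1 : i.ker ≤ (pullback.fst g (Spec.map (CommRingCat.ofHom (algebraMap R K)))).ker := by
    rw [← hl]
    exact Scheme.Hom.le_ker_comp l i
  have h2 : (pullback.fst g (Spec.map (CommRingCat.ofHom (algebraMap R K)))).ker = ⊥ := by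
    apply Scheme.IdealSheafData.ext
    funext U
    rw [Scheme.Hom.ker_apply]
    have := app_fst_injective hinj g U.1 U.2
    rw [(RingHom.injective_iff_ker_eq_bot _).1 this]
    rfl
  rw [h2] at h1
  exact le_bot_iff.1 h1


/-- lifting through a closed immersion can be checked on the fibre over `K` -/
lemma exists_lift (hinj : Function.Injective (algebraMap R K)) {Z V Γ : Scheme.{u}}
    (g : Z ⟶ Spec (CommRingCat.of R)) [Flat g] (γ : Γ ⟶ V) [IsClosedImmersion γ] (φ : Z ⟶ V)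
    (cK : pullback g (Spec.map (CommRingCat.ofHom (algebraMap R K))) ⟶ Γ)
    (hcK : cK ≫ γ = pullback.fst g (Spec.map (CommRingCat.ofHom (algebraMap R K))) ≫ φ) :
    ∃ c : Z ⟶ Γ, c ≫ γ = φ := by
  have hci : IsClosedImmersion (pullback.fst φ γ) := inferInstance
  let l : pullback g (Spec.map (CommRingCat.ofHom (algebraMap R K))) ⟶ pullback φ γ :=
    pullback.lift (pullback.fst g _) cK hcK.symm
  have hl : l ≫ pullback.fst φ γ = pullback.fst g _ := pullback.lift_fst _ _ _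
  have := isIso_of_fst_factors hinj g (pullback.fst φ γ) l hl
  refine ⟨inv (pullback.fst φ γ) ≫ pullback.snd φ γ, ?_⟩
  rw [Category.assoc, ← pullback.condition, IsIso.inv_hom_id_assoc]


section rel

variable {Y Γ : Scheme.{u}} (f : Y ⟶ Spec (CommRingCat.of R)) (p₁ p₂ : Γ ⟶ Y)
  (h : p₁ ≫ f = p₂ ≫ f) [hΓ : IsClosedImmersion (pullback.lift p₁ p₂ h)]

include hΓ in
/-- Lemma B: for `Z` flat over `R`, two `R`-morphisms `a b : Z ⟶ Y` are related by `Γ` as soon as
their restrictions to the fibre over `K` are. -/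
lemma exists_rel (hinj : Function.Injective (algebraMap R K)) {Z : Scheme.{u}}
    (g : Z ⟶ Spec (CommRingCat.of R)) [Flat g] (a b : Z ⟶ Y) (ha : a ≫ f = g) (hb : b ≫ f = g)
    (cK : pullback g (Spec.map (CommRingCat.ofHom (algebraMap R K))) ⟶ Γ)
    (h₁ : cK ≫ p₁ = pullback.fst g _ ≫ a) (h₂ : cK ≫ p₂ = pullback.fst g _ ≫ b) :
    ∃ c : Z ⟶ Γ, c ≫ p₁ = a ∧ c ≫ p₂ = b := by
  obtain ⟨c, hc⟩ := exists_lift hinj g (pullback.lift p₁ p₂ h)
    (pullback.lift a b (ha.trans hb.symm)) cK (by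
      apply pullback.hom_ext
      · rw [Category.assoc, Category.assoc, pullback.lift_fst, pullback.lift_fst, h₁]
      · rw [Category.assoc, Category.assoc, pullback.lift_snd, pullback.lift_snd, h₂])
  refine ⟨c, ?_, ?_⟩
  · have := congrArg (fun k => k ≫ pullback.fst f f) hc
    rwa [Category.assoc, pullback.lift_fst, pullback.lift_fst] at this
  · have := congrArg (fun k => k ≫ pullback.snd f f) hc
    rwa [Category.assoc, pullback.lift_snd, pullback.lift_snd] at this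

end rel

end density

theorem main (R K : Type u) [CommRing R] [IsDomain R] [IsDiscreteValuationRing R]
    [Field K] [Algebra R K] [IsFractionRing R K]
    (Y Γ : Scheme.{u}) (f : Y ⟶ Spec (CommRingCat.of R)) [Flat f]
    (p₁ p₂ : Γ ⟶ Y) (h : p₁ ≫ f = p₂ ≫ f)
    (hΓ : IsClosedImmersion (pullback.lift p₁ p₂ h))
    [Flat (p₁ ≫ f)] [Flat p₁] [Flat p₂]
    (hK : ∀ (T : Scheme.{u}) (t : T ⟶ Spec (CommRingCat.of R)),
      (∃ s : T ⟶ Spec (CommRingCat.of K), t = s ≫ Spec.map (CommRingCat.ofHom (algebraMap R K))) →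
      _root_.Equivalence fun a b : {a : T ⟶ Y // a ≫ f = t} =>
        ∃ c : T ⟶ Γ, c ≫ p₁ = a.1 ∧ c ≫ p₂ = b.1) :
    ∀ (T : Scheme.{u}) (t : T ⟶ Spec (CommRingCat.of R)),
      _root_.Equivalence fun a b : {a : T ⟶ Y // a ≫ f = t} =>
        ∃ c : T ⟶ Γ, c ≫ p₁ = a.1 ∧ c ≫ p₂ = b.1 := by
  have hinj : Function.Injective (algebraMap R K) := IsFractionRing.injective R K
  have hKZ : ∀ {Z : Scheme.{u}} (g : Z ⟶ Spec (CommRingCat.of R)),
      _root_.Equivalence fun a b : {a : pullback g (Spec.map (CommRingCat.ofHom (algebraMap R K))) ⟶ Y //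
          a ≫ f = pullback.fst g _ ≫ g} =>
        ∃ c : pullback g (Spec.map (CommRingCat.ofHom (algebraMap R K))) ⟶ Γ,
          c ≫ p₁ = a.1 ∧ c ≫ p₂ = b.1 :=
    fun g => hK _ _ ⟨pullback.snd g _, pullback.condition⟩
  -- reflexivity
  obtain ⟨δ, hδ₁, hδ₂⟩ : ∃ δ : Y ⟶ Γ, δ ≫ p₁ = 𝟙 Y ∧ δ ≫ p₂ = 𝟙 Y := by
    obtain ⟨cK, h₁, h₂⟩ := (hKZ f).refl ⟨pullback.fst f _ ≫ 𝟙 Y, by rw [Category.comp_id]⟩
    exact exists_rel f p₁ p₂ h hinj f (𝟙 Y) (𝟙 Y) (Category.id_comp f) (Category.id_comp f)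
      cK h₁ h₂
  -- symmetry
  obtain ⟨σ, hσ₁, hσ₂⟩ : ∃ σ : Γ ⟶ Γ, σ ≫ p₁ = p₂ ∧ σ ≫ p₂ = p₁ := by
    obtain ⟨cK, h₁, h₂⟩ := (hKZ (p₁ ≫ f)).symm
      (x := ⟨pullback.fst (p₁ ≫ f) _ ≫ p₁, by rw [Category.assoc]⟩)
      (y := ⟨pullback.fst (p₁ ≫ f) _ ≫ p₂, by rw [Category.assoc, ← h]⟩)
      ⟨pullback.fst (p₁ ≫ f) _, rfl, rfl⟩
    exact exists_rel f p₁ p₂ h hinj (p₁ ≫ f) p₂ p₁ h.symm rfl cK h₁ h₂
  -- transitivity
  obtain ⟨τ, hτ₁, hτ₂⟩ : ∃ τ : pullback p₂ p₁ ⟶ Γ,
      τ ≫ p₁ = pullback.fst p₂ p₁ ≫ p₁ ∧ τ ≫ p₂ = pullback.snd p₂ p₁ ≫ p₂ := by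
    have hcond : pullback.fst p₂ p₁ ≫ p₂ = pullback.snd p₂ p₁ ≫ p₁ := pullback.condition
    have hb : (pullback.snd p₂ p₁ ≫ p₂) ≫ f = pullback.fst p₂ p₁ ≫ p₁ ≫ f := by
      rw [Category.assoc, ← h, ← Category.assoc, ← hcond, Category.assoc, ← h]
    have hflat : Flat (pullback.fst p₂ p₁ ≫ p₁ ≫ f) := inferInstance
    obtain ⟨cK, h₁, h₂⟩ := (hKZ (pullback.fst p₂ p₁ ≫ p₁ ≫ f)).trans
      (x := ⟨pullback.fst _ _ ≫ pullback.fst p₂ p₁ ≫ p₁, by simp only [Category.assoc]⟩)
      (y := ⟨pullback.fst _ _ ≫ pullback.fst p₂ p₁ ≫ p₂, by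
        simp only [Category.assoc]; rw [← h]⟩)
      (z := ⟨pullback.fst _ _ ≫ pullback.snd p₂ p₁ ≫ p₂, by
        rw [Category.assoc, hb]⟩)
      ⟨pullback.fst _ _ ≫ pullback.fst p₂ p₁, by simp only [Category.assoc],
        by simp only [Category.assoc]⟩
      ⟨pullback.fst _ _ ≫ pullback.snd p₂ p₁, by simp only [Category.assoc, hcond],
        by simp only [Category.assoc]⟩
    exact exists_rel f p₁ p₂ h hinj (pullback.fst p₂ p₁ ≫ p₁ ≫ f) _ _ (Category.assoc _ _ _) hb
      cK h₁ h₂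
  intro T t
  refine ⟨fun a => ?_, fun {a b} hab => ?_, fun {a b c} hab hbc => ?_⟩
  · exact ⟨a.1 ≫ δ, by rw [Category.assoc, hδ₁, Category.comp_id],
      by rw [Category.assoc, hδ₂, Category.comp_id]⟩
  · obtain ⟨c, hc₁, hc₂⟩ := hab
    exact ⟨c ≫ σ, by rw [Category.assoc, hσ₁, hc₂], by rw [Category.assoc, hσ₂, hc₁]⟩
  · obtain ⟨c₁, h₁₁, h₁₂⟩ := hab
    obtain ⟨c₂, h₂₁, h₂₂⟩ := hbc
    refine ⟨pullback.lift c₁ c₂ (h₁₂.trans h₂₁.symm) ≫ τ, ?_, ?_⟩
    · rw [Category.assoc, hτ₁, pullback.lift_fst_assoc, h₁₁]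
    · rw [Category.assoc, hτ₂, pullback.lift_snd_assoc, h₂₂]

end Groth.Agent.Lib.Helper64.FlatEqRel
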