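import Groth.Prelude.Def_CycAlg
import Mathlib.RingTheory.KrullDimension.Basic
import Mathlib.RingTheory.Noetherian.Defs
import Mathlib.RingTheory.Localization.AtPrime.Basic
import Mathlib.RingTheory.TensorProduct.Basic
import Mathlib.Algebra.GroupWithZero.NonZeroDivisors
import Mathlib.RingTheory.Localization.BaseChange
import Mathlib.RingTheory.Ideal.Height
import Mathlib.RingTheory.Ideal.MinimalPrime.Localization
import Mathlib.RingTheory.Localization.Away.Basic
import Mathlib.RingTheory.Noetherian.Basic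

set_option autoImplicit false
universe u

namespace Groth.Agent.Lib.Helper64.GlueFinExt

open IsLocalRing

section L1

variable {A : Type u} [CommRing A] [IsNoetherianRing A] [IsLocalRing A]

/-- In a two-dimensional local ring, a prime containing a nonzerodivisor cannot lie strictly
below a non-maximal prime. -/
theorem not_lt_of_dim_two (hA : ringKrullDim A = 2) (t : A) (htnz : t ∈ nonZeroDivisors A)
    (p p' : Ideal A) [p.IsPrime] [hp'p : p'.IsPrime] (htp : t ∈ p) (hlt : p < p')
    (hp' : p' ≠ maximalIdeal A) : False := by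
  obtain ⟨p₀, hp₀, hp₀p⟩ := Ideal.exists_minimalPrimes_le (I := ⊥) (J := p) bot_le
  have hp₀prime : p₀.IsPrime := hp₀.1.1
  have htp₀ : t ∉ p₀ := fun h =>
    Set.disjoint_left.mp (Ideal.disjoint_nonZeroDivisors_of_mem_minimalPrimes hp₀) h htnz
  have h01 : p₀ < p := lt_of_le_of_ne hp₀p (fun h => htp₀ (h ▸ htp))
  have h23 : p' < maximalIdeal A := lt_of_le_of_ne (le_maximalIdeal hp'p.ne_top) hp'
  have e1 := Ideal.height_add_one_le_of_lt_of_isPrime h01
  have e2 := Ideal.height_add_one_le_of_lt_of_isPrime hlt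
  have e3 := Ideal.height_add_one_le_of_lt_of_isPrime h23
  have e4 : ((maximalIdeal A).height : WithBot ℕ∞) ≤ ringKrullDim A :=
    Ideal.height_le_ringKrullDim_of_isPrime
  have e5 : (3 : ℕ∞) ≤ (maximalIdeal A).height := by
    calc (3 : ℕ∞) = 0 + 1 + 1 + 1 := by norm_num
      _ ≤ p₀.height + 1 + 1 + 1 := by gcongr; exact zero_le
      _ ≤ p.height + 1 + 1 := by gcongr
      _ ≤ p'.height + 1 := by gcongr
      _ ≤ (maximalIdeal A).height := e3
  rw [hA] at e4
  have e6 : ((3 : ℕ∞) : WithBot ℕ∞) ≤ 2 := (WithBot.coe_le_coe.mpr e5).trans e4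
  have e7 : ((3 : ℕ∞) : WithBot ℕ∞) = ((3 : ℕ) : WithBot ℕ∞) := rfl
  have e8 : (2 : WithBot ℕ∞) = ((2 : ℕ) : WithBot ℕ∞) := rfl
  rw [e7, e8] at e6
  have : (3 : ℕ) ≤ 2 := by exact_mod_cast e6
  omega

omit [IsNoetherianRing A] [IsLocalRing A] in
/-- If `Q` is the only prime below `Q` containing `t`, every element of `Q` has a power which is
a multiple of `t ^ n` in the localization at `Q`. -/
theorem exists_pow_eq_mul (t : A) (Q : Ideal A) [Q.IsPrime]
    (hQ : ∀ p : Ideal A, p.IsPrime → t ∈ p → p ≤ Q → p = Q) (v : A) (hv : v ∈ Q) (n : ℕ) :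
    ∃ (N : ℕ) (β : Localization.AtPrime Q),
      algebraMap A (Localization.AtPrime Q) (v ^ N) =
        algebraMap A (Localization.AtPrime Q) t ^ n * β := by
  set R' := Localization.AtPrime Q
  have hrad : algebraMap A R' v ∈ (Ideal.span {algebraMap A R' t ^ n}).radical := by
    rw [Ideal.radical_eq_sInf, Ideal.mem_sInf]
    rintro P ⟨hIP, hP⟩
    have htP : algebraMap A R' t ∈ P :=
      hP.mem_of_pow_mem n (hIP (Ideal.mem_span_singleton_self _))
    have hcomap : (P.comap (algebraMap A R')).IsPrime := Ideal.comap_isPrime _ _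
    have hle : P.comap (algebraMap A R') ≤ Q := by
      have h1 : P.comap (algebraMap A R') ≤ (IsLocalRing.maximalIdeal R').comap (algebraMap A R') :=
        Ideal.comap_mono (IsLocalRing.le_maximalIdeal hP.ne_top)
      have h2 : (IsLocalRing.maximalIdeal R').comap (algebraMap A R') = Q :=
        IsLocalization.AtPrime.under_maximalIdeal R' Q
      exact h1.trans h2.le
    have := hQ _ hcomap htP hle
    have hv' : v ∈ P.comap (algebraMap A R') := by rw [this]; exact hv
    exact hv'
  obtain ⟨N, hN⟩ := hrad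
  rw [Ideal.mem_span_singleton'] at hN
  obtain ⟨β, hβ⟩ := hN
  exact ⟨N, β, by rw [map_pow, ← hβ, mul_comm]⟩

end L1

section main

variable {A : Type u} [CommRing A] (t : A) {r : ℕ} (q : Fin r → Ideal A)
  [hq : ∀ i, (q i).IsPrime]
  (B : Fin r → Type u) [∀ i, CommRing (B i)] [∀ i, Algebra (Localization.AtPrime (q i)) (B i)]
  [∀ i, Algebra A (B i)] [∀ i, IsScalarTower A (Localization.AtPrime (q i)) (B i)]

/-- Elements `a` of `A` such that `a / t ^ k` lies in every `B i`. -/
def Mk (k : ℕ) : Ideal A where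
  carrier := {a | ∀ i, ∃ b : B i, algebraMap A (B i) t ^ k * b = algebraMap A (B i) a}
  zero_mem' := fun i => ⟨0, by simp⟩
  add_mem' := fun {a a'} ha ha' i => by
    obtain ⟨b, hb⟩ := ha i
    obtain ⟨b', hb'⟩ := ha' i
    exact ⟨b + b', by rw [mul_add, hb, hb', map_add]⟩
  smul_mem' := fun c a ha i => by
    obtain ⟨b, hb⟩ := ha i
    exact ⟨algebraMap A (B i) c * b, by rw [smul_eq_mul, map_mul, ← hb]; ring⟩

omit [∀ i, Algebra (Localization.AtPrime (q i)) (B i)]
  [∀ i, IsScalarTower A (Localization.AtPrime (q i)) (B i)] hq in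
theorem mem_Mk {k : ℕ} {a : A} :
    a ∈ Mk t B k ↔ ∀ i, ∃ b : B i, algebraMap A (B i) t ^ k * b = algebraMap A (B i) a :=
  Iff.rfl

omit [∀ i, Algebra (Localization.AtPrime (q i)) (B i)]
  [∀ i, IsScalarTower A (Localization.AtPrime (q i)) (B i)] hq in
theorem pow_mul_mem_Mk (k : ℕ) (a : A) : t ^ k * a ∈ Mk t B k := fun i =>
  ⟨algebraMap A (B i) a, by rw [map_mul, map_pow]⟩

omit [∀ i, Algebra (Localization.AtPrime (q i)) (B i)]
  [∀ i, IsScalarTower A (Localization.AtPrime (q i)) (B i)] hq in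
theorem mul_mem_Mk {k l : ℕ} {a a' : A} (ha : a ∈ Mk t B k) (ha' : a' ∈ Mk t B l) :
    a * a' ∈ Mk t B (k + l) := fun i => by
  obtain ⟨b, hb⟩ := ha i
  obtain ⟨b', hb'⟩ := ha' i
  exact ⟨b * b', by rw [map_mul, ← hb, ← hb', pow_add]; ring⟩

omit [∀ i, Algebra (Localization.AtPrime (q i)) (B i)]
  [∀ i, IsScalarTower A (Localization.AtPrime (q i)) (B i)] hq in
theorem Mk_anti {k l : ℕ} {a : A} (ha : a ∈ Mk t B (k + l)) : a ∈ Mk t B k := fun i => by
  obtain ⟨b, hb⟩ := ha i
  exact ⟨algebraMap A (B i) t ^ l * b, by rw [← hb, pow_add]; ring⟩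

omit [∀ i, Algebra (Localization.AtPrime (q i)) (B i)]
  [∀ i, IsScalarTower A (Localization.AtPrime (q i)) (B i)] hq in
theorem Mk_cancel (htB : ∀ i, IsSMulRegular (B i) (algebraMap A (B i) t)) {k l : ℕ} {z : A}
    (hz : t ^ l * z ∈ Mk t B (k + l)) : z ∈ Mk t B k := fun i => by
  obtain ⟨b, hb⟩ := hz i
  refine ⟨b, ?_⟩
  have hreg : IsSMulRegular (B i) (algebraMap A (B i) t ^ l) := (htB i).pow l
  apply hreg
  simp only [smul_eq_mul]
  rw [map_mul, map_pow] at hb
  rw [← hb, pow_add]
  ring

variable {t q B}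

/-- Step (ii): a multiple of `y ∈ M_{2n}` by an element outside `q i` lies in `t ^ n M_n`. -/
theorem exists_not_mem_mul_eq
    (hBinj : ∀ i, Function.Injective (algebraMap (Localization.AtPrime (q i)) (B i)))
    (htB : ∀ i, IsSMulRegular (B i) (algebraMap A (B i) t)) {n : ℕ}
    (hn : ∀ (i : Fin r) (b : B i), ∃ α : Localization.AtPrime (q i),
      algebraMap _ (B i) α = algebraMap A (B i) t ^ n * b)
    {y : A} (hy : y ∈ Mk t B (n + n)) (i : Fin r) :
    ∃ s : A, s ∉ q i ∧ ∃ z ∈ Mk t B n, s * y = t ^ n * z := by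
  obtain ⟨b, hb⟩ := hy i
  obtain ⟨α, hα⟩ := hn i b
  obtain ⟨⟨a', σ⟩, hσ⟩ := IsLocalization.surj (q i).primeCompl α
  have h1 : algebraMap A (Localization.AtPrime (q i)) (σ * y) =
      algebraMap A (Localization.AtPrime (q i)) (t ^ n * a') := by
    apply hBinj i
    rw [← IsScalarTower.algebraMap_apply, ← IsScalarTower.algebraMap_apply]
    have h2 : algebraMap A (B i) a' =
        algebraMap A (B i) t ^ n * b * algebraMap A (B i) (σ : A) := by
      rw [IsScalarTower.algebraMap_apply A (Localization.AtPrime (q i)) (B i) a', ← hσ, map_mul,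
        hα, ← IsScalarTower.algebraMap_apply]
    rw [map_mul, map_mul, map_pow, h2, ← hb, pow_add]
    ring
  obtain ⟨σ', hσ'⟩ := (IsLocalization.eq_iff_exists (q i).primeCompl _).1 h1
  have heq : (σ' : A) * σ * y = t ^ n * (σ' * a') := by
    rw [mul_assoc, hσ']
    ring
  refine ⟨σ' * σ, ?_, σ' * a', ?_, heq⟩
  · exact ((q i).primeCompl.mul_mem σ'.2 σ.2)
  · apply Mk_cancel t B htB (k := n) (l := n)
    rw [← heq]
    exact (Mk t B (n + n)).mul_mem_left _ hy

/-- Key lemma: `𝔪 ^ c M_{2n} ⊆ t ^ n M_n` for some `c`. -/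
theorem exists_pow_mul_le [IsNoetherianRing A] [IsLocalRing A]
    (hV : ∀ p : Ideal A, p.IsPrime → t ∈ p → p = maximalIdeal A ∨ ∃ i, p = q i)
    (hBinj : ∀ i, Function.Injective (algebraMap (Localization.AtPrime (q i)) (B i)))
    (htB : ∀ i, IsSMulRegular (B i) (algebraMap A (B i) t)) {n : ℕ}
    (hn : ∀ (i : Fin r) (b : B i), ∃ α : Localization.AtPrime (q i),
      algebraMap _ (B i) α = algebraMap A (B i) t ^ n * b) :
    ∃ c : ℕ, maximalIdeal A ^ c * Mk t B (n + n) ≤ Ideal.span {t ^ n} * Mk t B n := by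
  set T := Ideal.span {t ^ n} * Mk t B n with hT
  have hpt : ∀ y ∈ Mk t B (n + n), ∃ c : ℕ, maximalIdeal A ^ c * Ideal.span {y} ≤ T := by
    intro y hy
    let J : Ideal A := T.colon {y}
    have htJ : t ^ n ∈ J := by
      rw [Submodule.mem_colon_singleton]
      exact Ideal.mul_mem_mul (Ideal.mem_span_singleton_self _) (Mk_anti t B hy)
    have hsJ : ∀ i, ∃ s ∈ J, s ∉ q i := by
      intro i
      obtain ⟨s, hs, z, hz, hsz⟩ := exists_not_mem_mul_eq hBinj htB hn hy i
      refine ⟨s, ?_, hs⟩
      rw [Submodule.mem_colon_singleton, smul_eq_mul, hsz]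
      exact Ideal.mul_mem_mul (Ideal.mem_span_singleton_self _) hz
    have hrad : maximalIdeal A ≤ J.radical := by
      rw [Ideal.radical_eq_sInf]
      refine le_sInf ?_
      rintro P ⟨hJP, hP⟩
      have htP : t ∈ P := hP.mem_of_pow_mem n (hJP htJ)
      rcases hV P hP htP with h | ⟨i, h⟩
      · exact h.ge
      · obtain ⟨s, hsJ', hsq⟩ := hsJ i
        exact absurd (h ▸ hJP hsJ') hsq
    obtain ⟨c, hc⟩ := Ideal.exists_pow_le_of_le_radical_of_fg hrad (IsNoetherian.noetherian _)
    refine ⟨c, ?_⟩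
    rw [Ideal.mul_le]
    intro a ha y' hy'
    obtain ⟨u, rfl⟩ := Ideal.mem_span_singleton'.1 hy'
    have haJ := hc ha
    rw [Submodule.mem_colon_singleton, smul_eq_mul] at haJ
    rw [show a * (u * y) = u * (a * y) by ring]
    exact T.mul_mem_left _ haJ
  have hind : ∀ N : Ideal A, N.FG → N ≤ Mk t B (n + n) →
      ∃ c, maximalIdeal A ^ c * N ≤ T := by
    intro N hN
    refine Submodule.fg_induction
      (motive := fun (N : Ideal A) _ => N ≤ Mk t B (n + n) → ∃ c, maximalIdeal A ^ c * N ≤ T)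
      ?_ ?_ N hN
    · intro y hy
      exact hpt y (hy (Submodule.mem_span_singleton_self y))
    · intro N₁ N₂ _ _ h₁ h₂ hle
      obtain ⟨c₁, hc₁⟩ := h₁ (le_sup_left.trans hle)
      obtain ⟨c₂, hc₂⟩ := h₂ (le_sup_right.trans hle)
      refine ⟨max c₁ c₂, ?_⟩
      rw [Ideal.mul_sup]
      refine sup_le ?_ ?_
      · exact (Ideal.mul_mono_left (Ideal.pow_le_pow_right (le_max_left _ _))).trans hc₁
      · exact (Ideal.mul_mono_left (Ideal.pow_le_pow_right (le_max_right _ _))).trans hc₂
  exact hind _ (IsNoetherian.noetherian _) le_rfl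

variable (t B)

/-- The ideal `P = (t ^ n) + 𝔪 ^ c M_n`. -/
def Pid [IsLocalRing A] (n c : ℕ) : Ideal A :=
  Ideal.span {t ^ n} ⊔ maximalIdeal A ^ c * Mk t B n

omit [∀ i, Algebra (Localization.AtPrime (q i)) (B i)]
  [∀ i, IsScalarTower A (Localization.AtPrime (q i)) (B i)] hq in
theorem Pid_le_Mk [IsLocalRing A] (n c : ℕ) : Pid t B n c ≤ Mk t B n := by
  refine sup_le ?_ Ideal.mul_le_right
  rw [Ideal.span_le, Set.singleton_subset_iff]
  have := pow_mul_mem_Mk t B n 1
  rwa [mul_one] at this

omit [∀ i, Algebra (Localization.AtPrime (q i)) (B i)]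
  [∀ i, IsScalarTower A (Localization.AtPrime (q i)) (B i)] hq in
theorem pow_mem_Pid [IsLocalRing A] (n c : ℕ) : t ^ n ∈ Pid t B n c :=
  Ideal.mem_sup_left (Ideal.mem_span_singleton_self _)

omit [∀ i, Algebra (Localization.AtPrime (q i)) (B i)]
  [∀ i, IsScalarTower A (Localization.AtPrime (q i)) (B i)] hq in
theorem Pid_mul [IsLocalRing A] {n c : ℕ}
    (hc : maximalIdeal A ^ c * Mk t B (n + n) ≤ Ideal.span {t ^ n} * Mk t B n)
    {a a' : A} (ha : a ∈ Pid t B n c) (ha' : a' ∈ Pid t B n c) :
    ∃ a'' ∈ Pid t B n c, a * a' = t ^ n * a'' := by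
  obtain ⟨x, hx, μ, hμ, rfl⟩ := Submodule.mem_sup.1 ha
  obtain ⟨x', hx', μ', hμ', rfl⟩ := Submodule.mem_sup.1 ha'
  obtain ⟨α, rfl⟩ := Ideal.mem_span_singleton'.1 hx
  obtain ⟨α', rfl⟩ := Ideal.mem_span_singleton'.1 hx'
  have hmm : μ * μ' ∈ Ideal.span {t ^ n} * (maximalIdeal A ^ c * Mk t B n) := by
    have h1 : μ * μ' ∈ (maximalIdeal A ^ c * Mk t B n) * (maximalIdeal A ^ c * Mk t B n) :=
      Ideal.mul_mem_mul hμ hμ'
    have h2 : (maximalIdeal A ^ c * Mk t B n) * (maximalIdeal A ^ c * Mk t B n) ≤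
        Ideal.span {t ^ n} * (maximalIdeal A ^ c * Mk t B n) := by
      calc (maximalIdeal A ^ c * Mk t B n) * (maximalIdeal A ^ c * Mk t B n)
          = maximalIdeal A ^ c * (maximalIdeal A ^ c * (Mk t B n * Mk t B n)) := by
            rw [mul_mul_mul_comm, mul_assoc]
        _ ≤ maximalIdeal A ^ c * (maximalIdeal A ^ c * Mk t B (n + n)) := by
            refine Ideal.mul_mono_right (Ideal.mul_mono_right ?_)
            rw [Ideal.mul_le]
            intro y hy y' hy'
            exact mul_mem_Mk t B hy hy'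
        _ ≤ maximalIdeal A ^ c * (Ideal.span {t ^ n} * Mk t B n) := Ideal.mul_mono_right hc
        _ = Ideal.span {t ^ n} * (maximalIdeal A ^ c * Mk t B n) := by
            rw [← mul_assoc, ← mul_assoc, mul_comm (maximalIdeal A ^ c)]
    exact h2 h1
  obtain ⟨z, hz, hzeq⟩ := Ideal.mem_span_singleton_mul.1 hmm
  refine ⟨α * (α' * t ^ n + μ') + α' * μ + z, ?_, ?_⟩
  · refine (Pid t B n c).add_mem ((Pid t B n c).add_mem ?_ ?_) (Ideal.mem_sup_right hz)
    · exact (Pid t B n c).mul_mem_left _ ha'
    · exact (Pid t B n c).mul_mem_left _ (Ideal.mem_sup_right hμ)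
  · rw [mul_add (t ^ n), hzeq]
    ring

section Calg

variable [IsLocalRing A] (n c : ℕ)

/-- The inverse of `t` in `A_t`. -/
noncomputable def tau : Localization.Away t := IsLocalization.Away.invSelf t

omit [IsLocalRing A] in
theorem map_mul_tau : algebraMap A (Localization.Away t) t * tau t = 1 :=
  IsLocalization.Away.mul_invSelf t

omit [IsLocalRing A] in
theorem tau_pow_mul (k : ℕ) (a : A) :
    tau t ^ k * algebraMap A (Localization.Away t) (t ^ k * a) =
      algebraMap A (Localization.Away t) a := by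
  rw [map_mul, map_pow, ← mul_assoc, ← mul_pow, mul_comm (tau t), map_mul_tau, one_pow, one_mul]

/-- The underlying submodule of the glued algebra, inside `A_t × ∏ B i`. -/
def Cmod : Submodule A (Localization.Away t × ∀ i, B i) where
  carrier := {x | ∃ a ∈ Pid t B n c, x.1 = tau t ^ n * algebraMap A _ a ∧
    ∀ i, algebraMap A (B i) t ^ n * x.2 i = algebraMap A (B i) a}
  zero_mem' := ⟨0, zero_mem _, by simp, fun i => by simp⟩
  add_mem' := by
    rintro x y ⟨a, ha, h1, h2⟩ ⟨a', ha', h1', h2'⟩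
    exact ⟨a + a', add_mem ha ha', by simp [h1, h1', mul_add],
      fun i => by simp [mul_add, h2 i, h2' i]⟩
  smul_mem' := by
    rintro u x ⟨a, ha, h1, h2⟩
    refine ⟨u * a, Ideal.mul_mem_left _ _ ha, ?_, fun i => ?_⟩
    · rw [Prod.smul_fst, h1, Algebra.smul_def, map_mul]
      ring
    · rw [Prod.smul_snd, Pi.smul_apply, Algebra.smul_def, map_mul, ← h2 i]
      ring

omit [∀ i, Algebra (Localization.AtPrime (q i)) (B i)]
  [∀ i, IsScalarTower A (Localization.AtPrime (q i)) (B i)] hq in
theorem mem_Cmod {x : Localization.Away t × ∀ i, B i} :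
    x ∈ Cmod t B n c ↔ ∃ a ∈ Pid t B n c, x.1 = tau t ^ n * algebraMap A _ a ∧
      ∀ i, algebraMap A (B i) t ^ n * x.2 i = algebraMap A (B i) a :=
  Iff.rfl

omit [∀ i, Algebra (Localization.AtPrime (q i)) (B i)]
  [∀ i, IsScalarTower A (Localization.AtPrime (q i)) (B i)] hq in
theorem one_mem_Cmod : (1 : Localization.Away t × ∀ i, B i) ∈ Cmod t B n c := by
  refine ⟨t ^ n, pow_mem_Pid t B n c, ?_, fun i => ?_⟩
  · have := tau_pow_mul t n 1
    rw [mul_one, map_one] at this
    exact this.symm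
  · simp

omit [∀ i, Algebra (Localization.AtPrime (q i)) (B i)]
  [∀ i, IsScalarTower A (Localization.AtPrime (q i)) (B i)] hq in
theorem mul_mem_Cmod (htB : ∀ i, IsSMulRegular (B i) (algebraMap A (B i) t))
    (hc : maximalIdeal A ^ c * Mk t B (n + n) ≤ Ideal.span {t ^ n} * Mk t B n)
    {x y : Localization.Away t × ∀ i, B i} (hx : x ∈ Cmod t B n c) (hy : y ∈ Cmod t B n c) :
    x * y ∈ Cmod t B n c := by
  obtain ⟨a, ha, h1, h2⟩ := hx
  obtain ⟨a', ha', h1', h2'⟩ := hy
  obtain ⟨a'', ha'', heq⟩ := Pid_mul t B hc ha ha'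
  refine ⟨a'', ha'', ?_, fun i => ?_⟩
  · rw [Prod.fst_mul, h1, h1', ← tau_pow_mul t n a'', ← heq, map_mul]
    ring
  · have hreg : IsSMulRegular (B i) (algebraMap A (B i) t ^ n) := (htB i).pow n
    apply hreg
    simp only [smul_eq_mul, Prod.snd_mul, Pi.mul_apply]
    have : algebraMap A (B i) t ^ n * algebraMap A (B i) a'' =
        algebraMap A (B i) a * algebraMap A (B i) a' := by
      rw [← map_pow, ← map_mul, ← heq, map_mul]
    rw [this, ← h2 i, ← h2' i]
    ring

/-- The glued algebra. -/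
def Calg (htB : ∀ i, IsSMulRegular (B i) (algebraMap A (B i) t))
    (hc : maximalIdeal A ^ c * Mk t B (n + n) ≤ Ideal.span {t ^ n} * Mk t B n) :
    Subalgebra A (Localization.Away t × ∀ i, B i) :=
  (Cmod t B n c).toSubalgebra (one_mem_Cmod t B n c)
    (fun _ _ hx hy => mul_mem_Cmod t B n c htB hc hx hy)

omit [IsLocalRing A] in
theorem injective_algebraMap_away (htnz : t ∈ nonZeroDivisors A) :
    Function.Injective (algebraMap A (Localization.Away t)) :=
  IsLocalization.injective _ ((Submonoid.powers_le).2 htnz)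

omit [IsLocalRing A] in
theorem eq_of_tau_pow_mul_eq (htnz : t ∈ nonZeroDivisors A) (k : ℕ) {a a' : A}
    (h : tau t ^ k * algebraMap A (Localization.Away t) a =
      tau t ^ k * algebraMap A (Localization.Away t) a') : a = a' := by
  apply injective_algebraMap_away t htnz
  have := congrArg (fun z => algebraMap A (Localization.Away t) t ^ k * z) h
  simp only [← mul_assoc, ← mul_pow, map_mul_tau, one_pow, one_mul] at this
  exact this

theorem isFinExt_Calg [IsNoetherianRing A] (htnz : t ∈ nonZeroDivisors A)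
    (htB : ∀ i, IsSMulRegular (B i) (algebraMap A (B i) t))
    (hc : maximalIdeal A ^ c * Mk t B (n + n) ≤ Ideal.span {t ^ n} * Mk t B n) :
    CycAlg.IsFinExt A (Calg t B n c htB hc) (Ideal.span {t}) := by
  refine ⟨?_, ?_, n, ?_⟩
  · intro a a' h
    have h' := congrArg (fun x : Calg t B n c htB hc => x.1.1) h
    exact injective_algebraMap_away t htnz h'
  · let dn : A →ₗ[A] Localization.Away t :=
      (LinearMap.mulLeft A (tau t ^ n)).comp (Algebra.linearMap A (Localization.Away t))
    let D : Submodule A (Localization.Away t) := Submodule.map dn (Pid t B n c)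
    have hD : D.FG := (IsNoetherian.noetherian (Pid t B n c)).map dn
    have hDN : IsNoetherian A D := isNoetherian_of_fg_of_noetherian D hD
    let f : Calg t B n c htB hc →ₗ[A] Localization.Away t :=
      (LinearMap.fst A _ _).comp (Calg t B n c htB hc).val.toLinearMap
    have hf : ∀ x, f x ∈ D := by
      rintro ⟨x, a, ha, h1, h2⟩
      exact ⟨a, ha, h1.symm⟩
    let f' : Calg t B n c htB hc →ₗ[A] D := f.codRestrict D hf
    have hinj : Function.Injective f' := by
      rw [← LinearMap.ker_eq_bot, LinearMap.ker_eq_bot']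
      rintro ⟨x, a, ha, h1, h2⟩ hx
      have hx1 : x.1 = 0 := congrArg Subtype.val hx
      have ha0 : a = 0 := by
        apply eq_of_tau_pow_mul_eq t htnz n
        rw [← h1, hx1, map_zero, mul_zero]
      have hx2 : x.2 = 0 := by
        funext i
        have hreg : IsSMulRegular (B i) (algebraMap A (B i) t ^ n) := (htB i).pow n
        apply hreg
        simp only [smul_eq_mul, Pi.zero_apply, mul_zero]
        rw [h2 i, ha0, map_zero]
      exact Subtype.ext (Prod.ext hx1 hx2)
    exact Module.Finite.of_injective f' hinj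
  · intro u hu b
    rw [Ideal.span_singleton_pow, Ideal.mem_span_singleton'] at hu
    obtain ⟨w, rfl⟩ := hu
    obtain ⟨x, a, ha, h1, h2⟩ := b
    refine ⟨w * a, Subtype.ext (Prod.ext ?_ ?_)⟩
    · show algebraMap A (Localization.Away t) (w * a) = (w * t ^ n) • x.1
      rw [h1, Algebra.smul_def, ← tau_pow_mul t n (w * a), map_mul, map_mul, map_mul]
      ring
    · funext i
      show algebraMap A (B i) (w * a) = (w * t ^ n) • x.2 i
      rw [Algebra.smul_def, map_mul, map_mul, map_pow, mul_assoc, h2 i]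

/-- The projection of the glued algebra to `B i`. -/
def psi (htB : ∀ i, IsSMulRegular (B i) (algebraMap A (B i) t))
    (hc : maximalIdeal A ^ c * Mk t B (n + n) ≤ Ideal.span {t ^ n} * Mk t B n) (i : Fin r) :
    Calg t B n c htB hc →ₐ[A] B i :=
  (Pi.evalAlgHom A B i).comp
    ((AlgHom.snd A (Localization.Away t) (∀ i, B i)).comp (Calg t B n c htB hc).val)

omit [∀ i, Algebra (Localization.AtPrime (q i)) (B i)]
  [∀ i, IsScalarTower A (Localization.AtPrime (q i)) (B i)] hq in
theorem exists_mem_Calg (htB : ∀ i, IsSMulRegular (B i) (algebraMap A (B i) t))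
    (hc : maximalIdeal A ^ c * Mk t B (n + n) ≤ Ideal.span {t ^ n} * Mk t B n)
    {a : A} (ha : a ∈ Pid t B n c) :
    ∃ x : Calg t B n c htB hc, x.1.1 = tau t ^ n * algebraMap A _ a ∧
      ∀ j, algebraMap A (B j) t ^ n * x.1.2 j = algebraMap A (B j) a := by
  have hM := Pid_le_Mk t B n c ha
  choose b hb using hM
  exact ⟨⟨(tau t ^ n * algebraMap A _ a, b), a, ha, rfl, hb⟩, rfl, hb⟩

theorem nonempty_equiv [IsNoetherianRing A] (htnz : t ∈ nonZeroDivisors A)
    (htB : ∀ i, IsSMulRegular (B i) (algebraMap A (B i) t))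
    (hc : maximalIdeal A ^ c * Mk t B (n + n) ≤ Ideal.span {t ^ n} * Mk t B n)
    (hBinj : ∀ i, Function.Injective (algebraMap (Localization.AtPrime (q i)) (B i)))
    (hn : ∀ (i : Fin r) (b : B i), ∃ α : Localization.AtPrime (q i),
      algebraMap _ (B i) α = algebraMap A (B i) t ^ n * b)
    (i : Fin r) (hqm : q i ≠ maximalIdeal A)
    (hincomp : ∀ j, j ≠ i → ¬ q j ≤ q i)
    (hpow : ∀ j, ∀ v ∈ q j, ∃ (N : ℕ) (β : Localization.AtPrime (q j)),
      algebraMap A (Localization.AtPrime (q j)) (v ^ N) =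
        algebraMap A (Localization.AtPrime (q j)) t ^ n * β) :
    Nonempty (TensorProduct A (Localization.AtPrime (q i)) (Calg t B n c htB hc)
      ≃ₐ[Localization.AtPrime (q i)] B i) := by
  let C := Calg t B n c htB hc
  let ψ : C →ₐ[A] B i := psi t B n c htB hc i
  have hψ : ∀ x : C, ψ x = x.1.2 i := fun _ => rfl
  let _ : Algebra C (B i) := ψ.toRingHom.toAlgebra
  have htower : IsScalarTower A C (B i) :=
    IsScalarTower.of_algebraMap_eq (fun a => (ψ.commutes a).symm)
  have halg : ∀ x : C, algebraMap C (B i) x = x.1.2 i := fun _ => rfl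
  have hregn : ∀ j, IsSMulRegular (B j) (algebraMap A (B j) t ^ n) := fun j => (htB j).pow n
  have hloc : IsLocalization (Algebra.algebraMapSubmonoid C (q i).primeCompl) (B i) := by
    rw [isLocalization_iff]
    refine ⟨?_, ?_, ?_⟩
    · rintro ⟨_, s, hs, rfl⟩
      show IsUnit (algebraMap C (B i) (algebraMap A C s))
      rw [← IsScalarTower.algebraMap_apply A C (B i),
        IsScalarTower.algebraMap_apply A (Localization.AtPrime (q i)) (B i)]
      exact (IsLocalization.map_units (Localization.AtPrime (q i)) ⟨s, hs⟩).map _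
    · intro b
      obtain ⟨α, hα⟩ := hn i b
      obtain ⟨⟨a', σ⟩, hσ⟩ := IsLocalization.surj (q i).primeCompl α
      have h2 : algebraMap A (B i) a' =
          algebraMap A (B i) t ^ n * b * algebraMap A (B i) (σ : A) := by
        rw [IsScalarTower.algebraMap_apply A (Localization.AtPrime (q i)) (B i) a', ← hσ, map_mul,
          hα, ← IsScalarTower.algebraMap_apply]
      have hu : ∀ j, ∃ u : A, u ∉ q i ∧ (j ≠ i → ∃ β : Localization.AtPrime (q j),
          algebraMap A (Localization.AtPrime (q j)) u =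
            algebraMap A (Localization.AtPrime (q j)) t ^ n * β) := by
        intro j
        by_cases hj : j = i
        · exact ⟨1, fun h => (hq i).ne_top ((Ideal.eq_top_iff_one _).2 h), fun h => absurd hj h⟩
        · obtain ⟨v, hvj, hvi⟩ := SetLike.not_le_iff_exists.1 (hincomp j hj)
          obtain ⟨N, β, hβ⟩ := hpow j v hvj
          exact ⟨v ^ N, fun h => hvi ((hq i).mem_of_pow_mem N h), fun _ => ⟨β, hβ⟩⟩
      choose u hu1 hu2 using hu
      have hU : (∏ j, u j) ∈ (q i).primeCompl :=
        prod_mem (fun j _ => hu1 j)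
      obtain ⟨w, hwm, hwq⟩ := SetLike.exists_of_lt
        (lt_of_le_of_ne (le_maximalIdeal (hq i).ne_top) hqm)
      have hUa : (∏ j, u j) * a' ∈ Mk t B n := by
        intro j
        by_cases hj : j = i
        · subst hj
          refine ⟨algebraMap A (B j) (∏ j, u j) * algebraMap A (B j) (σ : A) * b, ?_⟩
          rw [map_mul, h2]
          ring
        · obtain ⟨β, hβ⟩ := hu2 j hj
          have hprod : (∏ l, u l) = u j * ∏ l ∈ Finset.univ.erase j, u l :=
            (Finset.mul_prod_erase Finset.univ u (Finset.mem_univ j)).symm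
          refine ⟨algebraMap (Localization.AtPrime (q j)) (B j) β *
            algebraMap A (B j) ((∏ l ∈ Finset.univ.erase j, u l) * a'), ?_⟩
          rw [hprod, mul_assoc, map_mul (algebraMap A (B j)) (u j),
            IsScalarTower.algebraMap_apply A (Localization.AtPrime (q j)) (B j) (u j), hβ,
            map_mul (algebraMap A (B j)),
            map_mul (algebraMap (Localization.AtPrime (q j)) (B j)), map_pow,
            ← IsScalarTower.algebraMap_apply]
          ring
      have ha : w ^ c * ((∏ j, u j) * a') ∈ Pid t B n c :=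
        Ideal.mem_sup_right (Ideal.mul_mem_mul (Ideal.pow_mem_pow hwm c) hUa)
      obtain ⟨x, hx1, hx2⟩ := exists_mem_Calg t B n c htB hc ha
      have hs : w ^ c * (∏ j, u j) * σ ∈ (q i).primeCompl :=
        mul_mem (mul_mem (pow_mem hwq c) hU) σ.2
      refine ⟨(x, ⟨algebraMap A C (w ^ c * (∏ j, u j) * σ), _, hs, rfl⟩), ?_⟩
      show b * algebraMap C (B i) (algebraMap A C (w ^ c * (∏ j, u j) * σ)) = algebraMap C (B i) x
      rw [← IsScalarTower.algebraMap_apply A C (B i), halg]
      apply hregn i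
      simp only [smul_eq_mul]
      rw [hx2 i, map_mul (algebraMap A (B i)) (w ^ c), map_mul (algebraMap A (B i)) (∏ j, u j) a',
        h2, map_mul, map_mul]
      ring
    · intro x y hxy
      rw [halg, halg] at hxy
      obtain ⟨a, ha, h1, h2⟩ := x.2
      obtain ⟨a', ha', h1', h2'⟩ := y.2
      have haa' : algebraMap A (Localization.AtPrime (q i)) a =
          algebraMap A (Localization.AtPrime (q i)) a' := by
        apply hBinj i
        rw [← IsScalarTower.algebraMap_apply, ← IsScalarTower.algebraMap_apply, ← h2 i, ← h2' i,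
          hxy]
      obtain ⟨s, hs⟩ := (IsLocalization.eq_iff_exists (q i).primeCompl _).1 haa'
      refine ⟨⟨algebraMap A C s, s, s.2, rfl⟩, ?_⟩
      apply Subtype.ext
      apply Prod.ext
      · show algebraMap A (Localization.Away t) s * x.1.1 =
          algebraMap A (Localization.Away t) s * y.1.1
        rw [h1, h1', mul_left_comm, ← map_mul, hs, map_mul, mul_left_comm]
      · funext j
        show algebraMap A (B j) s * x.1.2 j = algebraMap A (B j) s * y.1.2 j
        apply hregn j
        simp only [smul_eq_mul]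
        rw [mul_left_comm, h2 j, mul_left_comm _ _ (y.1.2 j), h2' j, ← map_mul, hs, map_mul]
  have hpo : Algebra.IsPushout A C (Localization.AtPrime (q i)) (B i) :=
    (Algebra.isLocalization_iff_isPushout (q i).primeCompl _).1 hloc
  have hpo' : Algebra.IsPushout A (Localization.AtPrime (q i)) C (B i) := hpo.symm
  exact ⟨Algebra.IsPushout.equiv A (Localization.AtPrime (q i)) C (B i)⟩

end Calg

end main

section final

variable {A : Type u} [CommRing A] [IsNoetherianRing A] [IsLocalRing A]

theorem main (hA : ringKrullDim A = 2) (t : A) (htnz : t ∈ nonZeroDivisors A) {r : ℕ}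
    (q : Fin r → Ideal A) [hq : ∀ i, (q i).IsPrime] (hinj : Function.Injective q)
    (hqm : ∀ i, q i ≠ maximalIdeal A) (htq : ∀ i, t ∈ q i)
    (hV : ∀ p : Ideal A, p.IsPrime → t ∈ p → p = maximalIdeal A ∨ ∃ i, p = q i)
    (B : Fin r → Type u) [∀ i, CommRing (B i)]
    [∀ i, Algebra (Localization.AtPrime (q i)) (B i)]
    (hB : ∀ i, CycAlg.IsFinExt (Localization.AtPrime (q i)) (B i)
      (Ideal.span {algebraMap A (Localization.AtPrime (q i)) t}))
    (htB : ∀ i, IsSMulRegular (B i) (algebraMap A (Localization.AtPrime (q i)) t)) :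
    ∃ (C : Type u) (_ : CommRing C) (_ : Algebra A C), CycAlg.IsFinExt A C (Ideal.span {t}) ∧
      ∀ i, Nonempty (TensorProduct A (Localization.AtPrime (q i)) C
        ≃ₐ[Localization.AtPrime (q i)] B i) := by
  let algB : ∀ i, Algebra A (B i) := fun i =>
    ((algebraMap (Localization.AtPrime (q i)) (B i)).comp
      (algebraMap A (Localization.AtPrime (q i)))).toAlgebra
  have tower : ∀ i, IsScalarTower A (Localization.AtPrime (q i)) (B i) := fun i =>
    IsScalarTower.of_algebraMap_eq (fun _ => rfl)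
  have htB' : ∀ i, IsSMulRegular (B i) (algebraMap A (B i) t) := by
    intro i b b' h
    apply htB i
    simp only [smul_eq_mul] at h
    simp only [Algebra.smul_def]
    exact h
  have hBinj : ∀ i, Function.Injective (algebraMap (Localization.AtPrime (q i)) (B i)) :=
    fun i => (hB i).1
  -- the common exponent
  choose ni hni using fun i => (hB i).2.2
  let n : ℕ := ∑ i, ni i
  have hn : ∀ (i : Fin r) (b : B i), ∃ α : Localization.AtPrime (q i),
      algebraMap _ (B i) α = algebraMap A (B i) t ^ n * b := by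
    intro i b
    have hle : ni i ≤ n := Finset.single_le_sum (f := ni) (fun _ _ => Nat.zero_le _)
      (Finset.mem_univ i)
    have hmem : algebraMap A (Localization.AtPrime (q i)) t ^ n ∈
        Ideal.span {algebraMap A (Localization.AtPrime (q i)) t} ^ ni i :=
      Ideal.pow_le_pow_right hle (Ideal.pow_mem_pow (Ideal.mem_span_singleton_self _) n)
    obtain ⟨α, hα⟩ := hni i _ hmem b
    refine ⟨α, ?_⟩
    rw [hα, Algebra.smul_def, map_pow]
    rfl
  have hincomp : ∀ i j, j ≠ i → ¬ q j ≤ q i := by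
    intro i j hji hle
    have hne : q j ≠ q i := fun h => hji (hinj h)
    exact not_lt_of_dim_two hA t htnz (q j) (q i) (htq j) (lt_of_le_of_ne hle hne) (hqm i)
  have hpow : ∀ j, ∀ v ∈ q j, ∃ (N : ℕ) (β : Localization.AtPrime (q j)),
      algebraMap A (Localization.AtPrime (q j)) (v ^ N) =
        algebraMap A (Localization.AtPrime (q j)) t ^ n * β := by
    intro j v hv
    refine exists_pow_eq_mul t (q j) ?_ v hv n
    intro p hp htp hpj
    rcases hV p hp htp with h | ⟨l, h⟩
    · exfalso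
      apply hqm j
      exact le_antisymm (le_maximalIdeal (hq j).ne_top) (h ▸ hpj)
    · by_cases hl : l = j
      · rw [h, hl]
      · exact absurd (h ▸ hpj) (hincomp j l hl)
  obtain ⟨c, hc⟩ := exists_pow_mul_le (t := t) (q := q) (B := B) hV hBinj htB' hn
  refine ⟨Calg t B n c htB' hc, inferInstance, inferInstance,
    isFinExt_Calg t B n c htnz htB' hc, fun i => ?_⟩
  exact nonempty_equiv t B n c htnz htB' hc hBinj hn i (hqm i) (hincomp i) hpow

end final

end Groth.Agent.Lib.Helper64.GlueFinExt
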