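import Mathlib
import Groth.Agent.Lib.Helper63.TorBridge

/-! Graded freeness criterion: `Tor₁(M, k) = 0` implies a homogeneous basis (helper64). -/

set_option autoImplicit false
universe u
open MvPolynomial DirectSum TensorProduct CategoryTheory

namespace Groth.Agent.Lib.Helper64.GradedFree

section kerCC

variable {σ : Type*} {k : Type*} [CommRing k]

theorem ker_constantCoeff_le_span_X :
    RingHom.ker (constantCoeff : MvPolynomial σ k →+* k) ≤ Ideal.span (Set.range X) := by
  classical
  intro p hp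
  rw [RingHom.mem_ker] at hp
  rw [p.as_sum]
  refine Ideal.sum_mem _ fun v hv => ?_
  by_cases h0 : v = 0
  · subst h0
    have : coeff 0 p = 0 := by rw [← constantCoeff_eq]; exact hp
    rw [this, map_zero]; exact Ideal.zero_mem _
  · obtain ⟨j, hj⟩ : ∃ j, v j ≠ 0 := by
      by_contra hne
      push Not at hne
      exact h0 (Finsupp.ext hne)
    have hle : Finsupp.single j 1 ≤ v := by
      rw [Finsupp.single_le_iff]
      exact Nat.one_le_iff_ne_zero.mpr hj
    have e : v = Finsupp.single j 1 + (v - Finsupp.single j 1) := (add_tsub_cancel_of_le hle).symm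
    rw [e, monomial_single_add, pow_one]
    exact Ideal.mul_mem_right _ _ (Ideal.subset_span ⟨j, rfl⟩)

end kerCC


section graded

variable {σ : Type*} {k : Type*} [CommRing k]
  {M : Type*} [AddCommGroup M] [Module (MvPolynomial σ k) M]
  (ℳ : ℕ → AddSubgroup M) [SetLike.GradedSMul (homogeneousSubmodule σ k) ℳ]
  [DirectSum.Decomposition ℳ]

theorem decompose_X_smul_succ (j : σ) (t : M) (d : ℕ) :
    (decompose ℳ ((X j : MvPolynomial σ k) • t) (d + 1) : M) =
      (X j : MvPolynomial σ k) • (decompose ℳ t d : M) := by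
  induction t using DirectSum.Decomposition.inductionOn ℳ with
  | zero => simp
  | @homogeneous i m =>
    have h1 : (X j : MvPolynomial σ k) • (m : M) ∈ ℳ (1 + i) :=
      SetLike.GradedSMul.smul_mem (A := homogeneousSubmodule σ k) (B := ℳ)
        (isHomogeneous_X k j) m.2
    by_cases hid : i = d
    · subst hid
      rw [decompose_of_mem_same ℳ m.2]
      have h2 : (X j : MvPolynomial σ k) • (m : M) ∈ ℳ (i + 1) := by rwa [add_comm] at h1
      rw [decompose_of_mem_same ℳ h2]
    · rw [decompose_of_mem_ne ℳ m.2 hid, decompose_of_mem_ne ℳ h1 (by omega), smul_zero]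
  | add m m' hm hm' =>
    rw [smul_add, decompose_add, decompose_add, DirectSum.add_apply, DirectSum.add_apply,
      AddSubgroup.coe_add, AddSubgroup.coe_add, hm, hm', smul_add]

theorem decompose_X_smul_zero (j : σ) (t : M) :
    (decompose ℳ ((X j : MvPolynomial σ k) • t) 0 : M) = 0 := by
  induction t using DirectSum.Decomposition.inductionOn ℳ with
  | zero => simp
  | @homogeneous i m =>
    have h1 : (X j : MvPolynomial σ k) • (m : M) ∈ ℳ (1 + i) :=
      SetLike.GradedSMul.smul_mem (A := homogeneousSubmodule σ k) (B := ℳ)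
        (isHomogeneous_X k j) m.2
    rw [decompose_of_mem_ne ℳ h1 (by omega)]
  | add m m' hm hm' =>
    rw [smul_add, decompose_add, DirectSum.add_apply, AddSubgroup.coe_add, hm, hm', add_zero]

theorem decompose_smul_mem_span (m : M) (e : ℕ) (hm : m ∈ ℳ e) (p : MvPolynomial σ k) (d : ℕ) :
    (decompose ℳ (p • m) d : M) ∈ Submodule.span (MvPolynomial σ k) {m} := by
  induction p using MvPolynomial.induction_on' with
  | monomial v c =>
    have h1 : (monomial v c : MvPolynomial σ k) • m ∈ ℳ (v.degree + e) :=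
      SetLike.GradedSMul.smul_mem (A := homogeneousSubmodule σ k) (B := ℳ)
        (isHomogeneous_monomial c rfl) hm
    by_cases hd : v.degree + e = d
    · subst hd
      rw [decompose_of_mem_same ℳ h1]
      exact Submodule.smul_mem _ _ (Submodule.mem_span_singleton_self m)
    · rw [decompose_of_mem_ne ℳ h1 hd]
      exact Submodule.zero_mem _
  | add p q hp hq =>
    rw [add_smul, decompose_add, DirectSum.add_apply, AddSubgroup.coe_add]
    exact Submodule.add_mem _ hp hq

/-- graded Nakayama -/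
theorem eq_top_of_sup_smul (N' : Submodule (MvPolynomial σ k) M)
    (hN' : ∀ x ∈ N', ∀ d, (decompose ℳ x d : M) ∈ N')
    (h : ⊤ ≤ N' ⊔ (Ideal.span (Set.range (X : σ → MvPolynomial σ k))) • (⊤ : Submodule _ M)) :
    N' = ⊤ := by
  have key : ∀ d, ∀ x : M, (decompose ℳ x d : M) ∈ N' := by
    intro d
    induction d using Nat.strong_induction_on with
    | _ d ih =>
      intro x
      obtain ⟨n', hn', y, hy, rfl⟩ := Submodule.mem_sup.mp (h (Submodule.mem_top : x ∈ ⊤))
      rw [decompose_add, DirectSum.add_apply, AddSubgroup.coe_add]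
      refine N'.add_mem (hN' n' hn' d) ?_
      refine Submodule.smul_induction_on hy ?_ ?_
      · intro r hr t _
        suffices hgen : ∀ t : M, (decompose ℳ (r • t) d : M) ∈ N' from hgen t
        refine Submodule.span_induction (p := fun r _ => ∀ t : M,
          (decompose ℳ (r • t) d : M) ∈ N') ?_ ?_ ?_ ?_ hr
        · rintro _ ⟨j, rfl⟩ t
          cases d with
          | zero => rw [decompose_X_smul_zero]; exact N'.zero_mem
          | succ d =>
            rw [decompose_X_smul_succ]
            exact N'.smul_mem _ (ih d (Nat.lt_succ_self d) t)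
        · intro t; rw [zero_smul, decompose_zero]; exact N'.zero_mem
        · intro a b _ _ ha hb t
          rw [add_smul, decompose_add, DirectSum.add_apply, AddSubgroup.coe_add]
          exact N'.add_mem (ha t) (hb t)
        · intro s a _ ha t
          rw [smul_eq_mul, mul_comm, mul_smul]
          exact ha (s • t)
      · intro a b ha hb
        rw [decompose_add, DirectSum.add_apply, AddSubgroup.coe_add]
        exact N'.add_mem ha hb
  classical
  rw [eq_top_iff]
  intro x _
  rw [← DirectSum.sum_support_decompose ℳ x]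
  exact Submodule.sum_mem _ fun d _ => key d x

end graded


section torArg

variable {S : Type*} [CommRing S] (I : Ideal S) {F M : Type*} [AddCommGroup F] [Module S F]
  [AddCommGroup M] [Module S M] (φ : F →ₗ[S] M)

/-- multiplication `X ⊗ I → X` -/
noncomputable def mulMap (X : Type*) [AddCommGroup X] [Module S X] : X ⊗[S] I →ₗ[S] X :=
  (TensorProduct.rid S X).toLinearMap ∘ₗ LinearMap.lTensor X (Submodule.subtype I)

theorem mulMap_tmul (X : Type*) [AddCommGroup X] [Module S X] (x : X) (r : I) :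
    mulMap I X (x ⊗ₜ r) = (r : S) • x := by
  simp [mulMap]

theorem mulMap_natural (z : F ⊗[S] I) :
    mulMap I M (LinearMap.rTensor I φ z) = φ (mulMap I F z) := by
  induction z with
  | zero => simp
  | add a b ha hb => simp only [map_add, ha, hb]
  | tmul x r => simp [mulMap_tmul]

theorem mem_range_mulMap (X : Type*) [AddCommGroup X] [Module S X] (y : X)
    (hy : y ∈ I • (⊤ : Submodule S X)) : ∃ z, mulMap I X z = y := by
  refine Submodule.smul_induction_on hy ?_ ?_
  · intro r hr t _
    exact ⟨t ⊗ₜ ⟨r, hr⟩, mulMap_tmul I X t ⟨r, hr⟩⟩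
  · rintro a b ⟨za, rfl⟩ ⟨zb, rfl⟩
    exact ⟨za + zb, map_add _ _ _⟩

theorem mulMap_rTensor_subtype_mem (K : Submodule S F) (w : K ⊗[S] I) :
    mulMap I F (LinearMap.rTensor I K.subtype w) ∈ I • K := by
  induction w with
  | zero => simp
  | add a b ha hb =>
    simp only [map_add]
    exact Submodule.add_mem _ ha hb
  | tmul x r =>
    rw [LinearMap.rTensor_tmul, mulMap_tmul]
    exact Submodule.smul_mem_smul r.2 x.2

theorem ker_le_smul_ker (hφ : Function.Surjective φ)
    (hinj : Function.Injective (LinearMap.lTensor M (Submodule.subtype I)))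
    (hK : LinearMap.ker φ ≤ I • ⊤) : LinearMap.ker φ ≤ I • LinearMap.ker φ := by
  intro y hy
  obtain ⟨z, rfl⟩ := mem_range_mulMap I F y (hK hy)
  have h1 : mulMap I M (LinearMap.rTensor I φ z) = 0 := by
    rw [mulMap_natural, LinearMap.mem_ker.mp hy]
  have h2 : LinearMap.rTensor I φ z = 0 := by
    apply hinj
    apply (TensorProduct.rid S M).injective
    rw [map_zero, map_zero]
    exact h1
  have hex : Function.Exact (LinearMap.ker φ).subtype φ := LinearMap.exact_subtype_ker_map φ
  have h3 := rTensor_exact I hex hφ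
  obtain ⟨w, rfl⟩ := (h3 z).mp h2
  exact mulMap_rTensor_subtype_mem I (LinearMap.ker φ) w

end torArg


section main

variable (k : Type u) [Field k] (n : ℕ)

theorem tor_inj (M : Type u) [AddCommGroup M] [Module (MvPolynomial (Fin (n + 1)) k) M]
    (h : Limits.IsZero (((Tor (ModuleCat.{u} (MvPolynomial (Fin (n + 1)) k)) 1).obj
      (ModuleCat.of (MvPolynomial (Fin (n + 1)) k) M)).obj
      (ModuleCat.of (MvPolynomial (Fin (n + 1)) k)
        (MvPolynomial (Fin (n + 1)) k ⧸
          RingHom.ker (MvPolynomial.constantCoeff : MvPolynomial (Fin (n + 1)) k →+* k))))) :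
    Function.Injective (LinearMap.lTensor M (Submodule.subtype
      (RingHom.ker (MvPolynomial.constantCoeff : MvPolynomial (Fin (n + 1)) k →+* k)))) := by
  have hproj : Projective (ModuleCat.of (MvPolynomial (Fin (n + 1)) k)
      (MvPolynomial (Fin (n + 1)) k)) := inferInstance
  have hproj' : Projective (Groth.Agent.Lib.Helper63.quotSC
      (RingHom.ker (MvPolynomial.constantCoeff : MvPolynomial (Fin (n + 1)) k →+* k))).X₂ := hproj
  have := (Groth.Agent.Lib.Helper63.tor_one_isZero_iff
    (ModuleCat.of (MvPolynomial (Fin (n + 1)) k) M)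
    (Groth.Agent.Lib.Helper63.quotSC
      (RingHom.ker (MvPolynomial.constantCoeff : MvPolynomial (Fin (n + 1)) k →+* k)))
    (Groth.Agent.Lib.Helper63.quotSC_shortExact _)).mp h
  exact this

end main


section mainThm

variable (k : Type u) [Field k] (n : ℕ)

theorem exists_homogeneous_basis (M : Type u) [AddCommGroup M]
    [Module (MvPolynomial (Fin (n + 1)) k) M] [Module.Finite (MvPolynomial (Fin (n + 1)) k) M]
    (ℳ : ℕ → AddSubgroup M)
    [SetLike.GradedSMul (MvPolynomial.homogeneousSubmodule (Fin (n + 1)) k) ℳ]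
    [DirectSum.Decomposition ℳ]
    (h : Limits.IsZero (((Tor (ModuleCat.{u} (MvPolynomial (Fin (n + 1)) k)) 1).obj
      (ModuleCat.of (MvPolynomial (Fin (n + 1)) k) M)).obj
      (ModuleCat.of (MvPolynomial (Fin (n + 1)) k)
        (MvPolynomial (Fin (n + 1)) k ⧸
          RingHom.ker (MvPolynomial.constantCoeff : MvPolynomial (Fin (n + 1)) k →+* k))))) :
    ∃ (ι : Type u) (b : Module.Basis ι (MvPolynomial (Fin (n + 1)) k) M),
      ∀ i, SetLike.IsHomogeneousElem ℳ (b i) := by
  classical
  have hinj := tor_inj k n M h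
  set 𝔪 : Ideal (MvPolynomial (Fin (n + 1)) k) :=
    RingHom.ker (MvPolynomial.constantCoeff : MvPolynomial (Fin (n + 1)) k →+* k) with h𝔪
  have hsurjcc : Function.Surjective
      (MvPolynomial.constantCoeff : MvPolynomial (Fin (n + 1)) k →+* k) :=
    fun a => ⟨C a, constantCoeff_C _ a⟩
  have hmax : 𝔪.IsMaximal := RingHom.ker_isMaximal_of_surjective _ hsurjcc
  let _ : Field (MvPolynomial (Fin (n + 1)) k ⧸ 𝔪) := Ideal.Quotient.field 𝔪
  -- the fibre vector space
  let V := M ⧸ (𝔪 • (⊤ : Submodule (MvPolynomial (Fin (n + 1)) k) M))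
  let mk : M →ₗ[MvPolynomial (Fin (n + 1)) k] V :=
    (𝔪 • (⊤ : Submodule (MvPolynomial (Fin (n + 1)) k) M)).mkQ
  have hfinV : Module.Finite (MvPolynomial (Fin (n + 1)) k ⧸ 𝔪) V :=
    Module.Finite.of_restrictScalars_finite (MvPolynomial (Fin (n + 1)) k) _ V
  let s : Set V := {v | ∃ x : M, SetLike.IsHomogeneousElem ℳ x ∧ mk x = v}
  have hs : Submodule.span (MvPolynomial (Fin (n + 1)) k ⧸ 𝔪) s = ⊤ := by
    rw [eq_top_iff]
    rintro v -
    obtain ⟨x, rfl⟩ := (𝔪 • (⊤ : Submodule (MvPolynomial (Fin (n + 1)) k) M)).mkQ_surjective v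
    rw [← DirectSum.sum_support_decompose ℳ x, map_sum]
    refine Submodule.sum_mem _ fun d _ => Submodule.subset_span ?_
    exact ⟨_, ⟨d, (decompose ℳ x d).2⟩, rfl⟩
  have hfin' : Module.Finite (MvPolynomial (Fin (n + 1)) k ⧸ 𝔪)
      (Submodule.span (MvPolynomial (Fin (n + 1)) k ⧸ 𝔪) s) := by rw [hs]; infer_instance
  obtain ⟨r, f, hf, hfs, hli⟩ : ∃ (r : ℕ) (f : Fin r → V), (∀ i, f i ∈ s) ∧
      Submodule.span (MvPolynomial (Fin (n + 1)) k ⧸ 𝔪) (Set.range f) =
        Submodule.span (MvPolynomial (Fin (n + 1)) k ⧸ 𝔪) s ∧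
      LinearIndependent (MvPolynomial (Fin (n + 1)) k ⧸ 𝔪) f :=
    ⟨_, Submodule.exists_fun_fin_finrank_span_eq (MvPolynomial (Fin (n + 1)) k ⧸ 𝔪) s⟩
  choose m hmhom hmf using hf
  let φ : (Fin r → MvPolynomial (Fin (n + 1)) k) →ₗ[MvPolynomial (Fin (n + 1)) k] M :=
    Fintype.linearCombination (MvPolynomial (Fin (n + 1)) k) m
  have hφ_apply : ∀ a, φ a = ∑ i, a i • m i := fun a => Fintype.linearCombination_apply _ _ _
  have hmk_smul : ∀ (c : MvPolynomial (Fin (n + 1)) k) (x : M),
      mk (c • x) = (Ideal.Quotient.mk 𝔪 c) • mk x := fun c x => rfl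
  have hmkφ : ∀ a : Fin r → MvPolynomial (Fin (n + 1)) k,
      mk (φ a) = ∑ i, (Ideal.Quotient.mk 𝔪 (a i)) • f i := by
    intro a
    rw [hφ_apply, map_sum]
    refine Finset.sum_congr rfl fun i _ => ?_
    rw [hmk_smul, hmf]
  -- (b) generation
  have hstable : ∀ x ∈ LinearMap.range φ, ∀ d, (decompose ℳ x d : M) ∈ LinearMap.range φ := by
    rintro _ ⟨a, rfl⟩ d
    rw [hφ_apply, decompose_sum, DFinsupp.finsetSum_apply, AddSubgroup.val_finsetSum]
    refine Submodule.sum_mem _ fun i _ => ?_
    obtain ⟨e, he⟩ := hmhom i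
    have h1 := decompose_smul_mem_span ℳ (m i) e he (a i) d
    refine (Submodule.span_le.mpr ?_) h1
    rintro _ rfl
    exact ⟨Pi.single i 1, by rw [hφ_apply]; simp [Pi.single_apply]⟩
  have hgen : (⊤ : Submodule (MvPolynomial (Fin (n + 1)) k) M) ≤ LinearMap.range φ ⊔
      (Ideal.span (Set.range (X : Fin (n + 1) → MvPolynomial (Fin (n + 1)) k))) •
        (⊤ : Submodule _ M) := by
    intro x _
    have hx : mk x ∈ Submodule.span (MvPolynomial (Fin (n + 1)) k ⧸ 𝔪) (Set.range f) := by
      rw [hfs, hs]; exact Submodule.mem_top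
    obtain ⟨c, hc⟩ := (Submodule.mem_span_range_iff_exists_fun _).mp hx
    choose a ha using fun i => Ideal.Quotient.mk_surjective (c i)
    have h1 : mk (x - φ a) = 0 := by
      rw [map_sub, hmkφ, ← hc]
      simp [ha]
    have h2 : x - φ a ∈ 𝔪 • (⊤ : Submodule (MvPolynomial (Fin (n + 1)) k) M) :=
      (Submodule.Quotient.mk_eq_zero _).mp h1
    have h3 : x = φ a + (x - φ a) := by abel
    rw [h3]
    exact Submodule.add_mem_sup ⟨a, rfl⟩
      (Submodule.smul_mono_left ker_constantCoeff_le_span_X h2)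
  have hφsurj : Function.Surjective φ := by
    rw [← LinearMap.range_eq_top]
    exact eq_top_of_sup_smul ℳ _ hstable hgen
  -- (c) injectivity
  have hK : LinearMap.ker φ ≤ 𝔪 • (⊤ : Submodule _ (Fin r → MvPolynomial (Fin (n + 1)) k)) := by
    intro a ha
    have h1 : ∑ i, (Ideal.Quotient.mk 𝔪 (a i)) • f i = 0 := by
      rw [← hmkφ, LinearMap.mem_ker.mp ha, map_zero]
    have h2 := (Fintype.linearIndependent_iff.mp hli) _ h1
    have h3 : ∀ i, a i ∈ 𝔪 := fun i => Ideal.Quotient.eq_zero_iff_mem.mp (h2 i)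
    have h4 : a = ∑ i, a i • (Pi.single i 1 : Fin r → MvPolynomial (Fin (n + 1)) k) := by
      ext j
      simp [Finset.sum_apply, Pi.single_apply]
    rw [h4]
    exact Submodule.sum_mem _ fun i _ => Submodule.smul_mem_smul (h3 i) Submodule.mem_top
  have hK2 := ker_le_smul_ker 𝔪 φ hφsurj hinj hK
  have hKfg : (LinearMap.ker φ).FG := IsNoetherian.noetherian _
  obtain ⟨t, ht1, ht2⟩ :=
    Submodule.exists_sub_one_mem_and_smul_eq_zero_of_fg_of_le_smul 𝔪 (LinearMap.ker φ) hKfg hK2
  have ht0 : t ≠ 0 := by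
    intro h0
    rw [h0, zero_sub] at ht1
    exact hmax.ne_top ((Ideal.eq_top_iff_one 𝔪).mpr (by simpa using 𝔪.neg_mem ht1))
  have hφinj : Function.Injective φ := by
    rw [← LinearMap.ker_eq_bot, eq_bot_iff]
    intro a ha
    have h1 := ht2 a ha
    rcases smul_eq_zero.mp h1 with h | h
    · exact absurd h ht0
    · exact h
  let e : (Fin r → MvPolynomial (Fin (n + 1)) k) ≃ₗ[MvPolynomial (Fin (n + 1)) k] M :=
    LinearEquiv.ofBijective φ ⟨hφinj, hφsurj⟩
  let b : Module.Basis (Fin r) (MvPolynomial (Fin (n + 1)) k) M := Module.Basis.ofEquivFun e.symm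
  refine ⟨ULift.{u} (Fin r), b.reindex Equiv.ulift.symm, ?_⟩
  intro i
  have hb : b.reindex Equiv.ulift.symm i = m i.down := by
    rw [Module.Basis.reindex_apply]
    show b i.down = m i.down
    rw [Module.Basis.coe_ofEquivFun]
    show φ _ = _
    rw [hφ_apply]
    simp [Pi.single_apply]
  rw [hb]
  exact hmhom i.down

end mainThm

end Groth.Agent.Lib.Helper64.GradedFree
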