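import Mathlib

/-!
# Nilpotency class and derived length as laws (identities in finitely many variables)
-/

set_option autoImplicit false

namespace Groth.Agent.Lib.Helper64.GrpLaw

open scoped commutatorElement

variable {H H' : Type*} [Group H] [Group H']

/-- iterated commutator `[[x, y₀], …, y_{j-1}]`. -/
def icomm : (j : ℕ) → H → (Fin j → H) → H
  | 0, x, _ => x
  | j + 1, x, ys => icomm j ⁅x, ys 0⁆ (Fin.tail ys)

theorem mem_upperCentralSeries_iff (j : ℕ) (x : H) :
    x ∈ Subgroup.upperCentralSeries H j ↔ ∀ ys : Fin j → H, icomm j x ys = 1 := by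
  induction j generalizing x with
  | zero =>
    rw [Subgroup.upperCentralSeries_zero, Subgroup.mem_bot]
    exact ⟨fun h _ => h, fun h => h Fin.elim0⟩
  | succ j ih =>
    rw [Subgroup.mem_upperCentralSeries_succ_iff]
    constructor
    · intro h ys
      exact (ih _).1 (h (ys 0)) (Fin.tail ys)
    · intro h y
      rw [ih]
      intro ys
      have := h (Fin.cons y ys)
      simpa [icomm] using this

/-- the word of the nilpotency law in the variables `a 0, …, a n`. -/
def nilWord (n : ℕ) (a : Fin (n + 1) → H) : H := icomm n (a 0) (Fin.tail a)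

theorem upperCentralSeries_eq_top_iff (n : ℕ) :
    Subgroup.upperCentralSeries H n = ⊤ ↔ ∀ a : Fin (n + 1) → H, nilWord n a = 1 := by
  rw [eq_top_iff]
  constructor
  · intro h a
    exact (mem_upperCentralSeries_iff n (a 0)).1 (h (Subgroup.mem_top _)) (Fin.tail a)
  · intro h x _
    rw [mem_upperCentralSeries_iff]
    intro ys
    have := h (Fin.cons x ys)
    simpa [nilWord] using this

theorem map_icomm (φ : H →* H') (j : ℕ) (x : H) (ys : Fin j → H) :
    φ (icomm j x ys) = icomm j (φ x) (φ ∘ ys) := by
  induction j generalizing x with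
  | zero => rfl
  | succ j ih =>
    simp only [icomm]
    rw [ih, map_commutatorElement]
    rfl

theorem map_nilWord (φ : H →* H') (n : ℕ) (a : Fin (n + 1) → H) :
    φ (nilWord n a) = nilWord n (φ ∘ a) := by
  unfold nilWord
  rw [map_icomm]
  rfl

/-- the word of the solvability law, in variables indexed by bit vectors. -/
def solWord : (n : ℕ) → ((Fin n → Bool) → H) → H
  | 0, a => a Fin.elim0
  | n + 1, a => ⁅solWord n (fun s => a (Fin.cons false s)), solWord n (fun s => a (Fin.cons true s))⁆

theorem solWord_mem (n : ℕ) (a : (Fin n → Bool) → H) : solWord n a ∈ derivedSeries H n := by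
  induction n with
  | zero => exact Subgroup.mem_top _
  | succ n ih =>
    rw [derivedSeries_succ]
    exact Subgroup.commutator_mem_commutator (ih _) (ih _)

theorem map_solWord (φ : H →* H') (n : ℕ) (a : (Fin n → Bool) → H) :
    φ (solWord n a) = solWord n (φ ∘ a) := by
  induction n with
  | zero => rfl
  | succ n ih =>
    simp only [solWord]
    rw [map_commutatorElement, ih, ih]
    rfl

theorem conj_solWord (g : H) (n : ℕ) (a : (Fin n → Bool) → H) :
    g * solWord n a * g⁻¹ = solWord n (fun s => g * a s * g⁻¹) :=
  map_solWord (MulAut.conj g).toMonoidHom n a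

/-- commutators of elements of the closure of a conjugation-invariant set `V` lie in the closure of
the commutators of elements of `V`. -/
theorem commutator_closure_le (V : Set H) (hV : ∀ g : H, ∀ v ∈ V, g * v * g⁻¹ ∈ V) :
    ⁅Subgroup.closure V, Subgroup.closure V⁆ ≤
      Subgroup.closure {w | ∃ v ∈ V, ∃ v' ∈ V, ⁅v, v'⁆ = w} := by
  set W : Set H := {w | ∃ v ∈ V, ∃ v' ∈ V, ⁅v, v'⁆ = w} with hW
  have hWconj : ∀ g : H, ∀ w ∈ W, g * w * g⁻¹ ∈ W := by
    rintro g _ ⟨v, hv, v', hv', rfl⟩
    exact ⟨_, hV g v hv, _, hV g v' hv', (conjugate_commutatorElement v v' g).symm⟩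
  have hN : (Subgroup.closure W).Normal := by
    have : Subgroup.normalClosure W = Subgroup.closure W := by
      apply le_antisymm
      · rw [Subgroup.normalClosure]
        apply Subgroup.closure_mono
        intro x hx
        obtain ⟨w, hw, hx⟩ := Group.mem_conjugatesOfSet_iff.1 hx
        obtain ⟨g, rfl⟩ := isConj_iff.1 hx
        exact hWconj g w hw
      · exact Subgroup.closure_le_normalClosure
    rw [← this]
    exact Subgroup.normalClosure_normal
  let π := QuotientGroup.mk' (Subgroup.closure W)
  rw [Subgroup.commutator_le]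
  -- the images of V commute pairwise
  have hcomm : ∀ v ∈ V, ∀ v' ∈ V, Commute (π v) (π v') := by
    intro v hv v' hv'
    rw [← commutatorElement_eq_one_iff_commute, ← map_commutatorElement]
    exact (QuotientGroup.eq_one_iff _).2 (Subgroup.subset_closure ⟨v, hv, v', hv', rfl⟩)
  have h1 : ∀ p ∈ Subgroup.closure V, ∀ v' ∈ V, Commute (π p) (π v') := by
    intro p hp v' hv'
    induction hp using Subgroup.closure_induction with
    | mem x hx => exact hcomm x hx v' hv'
    | one => rw [map_one]; exact Commute.one_left _
    | mul x y _ _ hx hy => rw [map_mul]; exact hx.mul_left hy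
    | inv x _ hx => rw [map_inv]; exact hx.inv_left
  intro p hp q hq
  have h2 : Commute (π p) (π q) := by
    induction hq using Subgroup.closure_induction with
    | mem x hx => exact h1 p hp x hx
    | one => rw [map_one]; exact Commute.one_right _
    | mul x y _ _ hx hy => rw [map_mul]; exact hx.mul_right hy
    | inv x _ hx => rw [map_inv]; exact hx.inv_right
  rw [← commutatorElement_eq_one_iff_commute, ← map_commutatorElement] at h2
  exact (QuotientGroup.eq_one_iff _).1 h2

theorem derivedSeries_le_closure (n : ℕ) :
    derivedSeries H n ≤ Subgroup.closure (Set.range (solWord (H := H) n)) := by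
  induction n with
  | zero =>
    intro x _
    exact Subgroup.subset_closure ⟨fun _ => x, rfl⟩
  | succ n ih =>
    rw [derivedSeries_succ]
    refine (Subgroup.commutator_mono ih ih).trans ((commutator_closure_le _ ?_).trans ?_)
    · rintro g _ ⟨a, rfl⟩
      exact ⟨_, (conj_solWord g n a).symm⟩
    · apply Subgroup.closure_mono
      rintro _ ⟨_, ⟨a, rfl⟩, _, ⟨b, rfl⟩, rfl⟩
      refine ⟨fun s => if s 0 then b (Fin.tail s) else a (Fin.tail s), ?_⟩
      simp [solWord]

theorem derivedSeries_eq_bot_iff (n : ℕ) :
    derivedSeries H n = ⊥ ↔ ∀ a : (Fin n → Bool) → H, solWord n a = 1 := by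
  constructor
  · intro h a
    have := solWord_mem n a
    rwa [h, Subgroup.mem_bot] at this
  · intro h
    rw [eq_bot_iff]
    refine (derivedSeries_le_closure n).trans ?_
    rw [Subgroup.closure_le]
    rintro _ ⟨a, rfl⟩
    exact (Subgroup.mem_bot).2 (h a)

end Groth.Agent.Lib.Helper64.GrpLaw
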