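import Mathlib.Algebra.Category.ModuleCat.Limits
import Mathlib.Algebra.Category.ModuleCat.Monoidal.Basic
import Mathlib.Algebra.Module.FinitePresentation
import Mathlib.RingTheory.FiniteLength
import Mathlib.RingTheory.Artinian.Module
import Mathlib.CategoryTheory.ConcreteCategory.EpiMono
import Mathlib.LinearAlgebra.TensorProduct.Pi
import Mathlib.LinearAlgebra.TensorProduct.RightExactness

set_option autoImplicit false
universe u v w

namespace Groth.Agent.Helper64.LimTensor

/-- An inverse system of modules indexed by `ℕ`, given in unbundled form. -/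
structure Tower (R : Type u) [Ring R] (B : ℕ → Type v) [∀ n, AddCommGroup (B n)]
    [∀ n, Module R (B n)] where
  tr : ∀ {n m : ℕ}, n ≤ m → (B m →ₗ[R] B n)
  tr_refl : ∀ (n : ℕ) (x : B n), tr (le_refl n) x = x
  tr_tr : ∀ {n m l : ℕ} (h₁ : n ≤ m) (h₂ : m ≤ l) (x : B l), tr h₁ (tr h₂ x) = tr (h₁.trans h₂) x

section lift

variable {R : Type u} [Ring R] {B : ℕ → Type v} {C : ℕ → Type w}
  [∀ n, AddCommGroup (B n)] [∀ n, Module R (B n)]
  [∀ n, AddCommGroup (C n)] [∀ n, Module R (C n)]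

/-- Stabilisation of the images of the kernels. -/
theorem exists_stable (TB : Tower R B) (TC : Tower R C) (p : ∀ n, B n →ₗ[R] C n)
    (hp : ∀ {n m : ℕ} (h : n ≤ m) (x : B m), p n (TB.tr h x) = TC.tr h (p m x))
    [∀ n, IsArtinian R (B n)] (n : ℕ) :
    ∃ (m₀ : ℕ) (h₀ : n ≤ m₀), ∀ (m : ℕ) (h : m₀ ≤ m) (κ₀ : B m₀), p m₀ κ₀ = 0 →
      ∃ κ : B m, p m κ = 0 ∧ TB.tr (h₀.trans h) κ = TB.tr h₀ κ₀ := by
  let a : Set (Submodule R (B n)) :=
    {S | ∃ (m : ℕ) (h : n ≤ m), S = (LinearMap.ker (p m)).map (TB.tr h)}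
  have ha : a.Nonempty := ⟨_, n, le_refl n, rfl⟩
  obtain ⟨S, ⟨m₀, h₀, rfl⟩, hmin⟩ := IsArtinian.set_has_minimal a ha
  refine ⟨m₀, h₀, fun m h κ₀ hκ₀ => ?_⟩
  have hle : (LinearMap.ker (p m)).map (TB.tr (h₀.trans h)) ≤
      (LinearMap.ker (p m₀)).map (TB.tr h₀) := by
    rintro x ⟨κ, hκ, rfl⟩
    refine ⟨TB.tr h κ, ?_, TB.tr_tr h₀ h κ⟩
    have hκ' : p m κ = 0 := hκ
    show p m₀ (TB.tr h κ) = 0
    rw [hp, hκ', map_zero]
  have heq : (LinearMap.ker (p m)).map (TB.tr (h₀.trans h)) =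
      (LinearMap.ker (p m₀)).map (TB.tr h₀) :=
    eq_of_le_of_not_lt hle (hmin _ ⟨m, h₀.trans h, rfl⟩)
  have hx : TB.tr h₀ κ₀ ∈ (LinearMap.ker (p m₀)).map (TB.tr h₀) := ⟨κ₀, hκ₀, rfl⟩
  rw [← heq] at hx
  obtain ⟨κ, hκ, hκ'⟩ := hx
  exact ⟨κ, hκ, hκ'⟩

/-- The lifting lemma: a compatible family in `C` whose members are all in the range of `p`
lifts to a compatible family in `B` provided the `B n` are Artinian. -/
theorem exists_compatible_lift (TB : Tower R B) (TC : Tower R C) (p : ∀ n, B n →ₗ[R] C n)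
    (hp : ∀ {n m : ℕ} (h : n ≤ m) (x : B m), p n (TB.tr h x) = TC.tr h (p m x))
    [∀ n, IsArtinian R (B n)]
    (c : ∀ n, C n) (hc : ∀ {n m : ℕ} (h : n ≤ m), TC.tr h (c m) = c n)
    (hr : ∀ n, ∃ y, p n y = c n) :
    ∃ b : ∀ n, B n, (∀ {n m : ℕ} (h : n ≤ m), TB.tr h (b m) = b n) ∧ ∀ n, p n (b n) = c n := by
  classical
  -- eventual range
  let E' : ∀ n, Set (B n) := fun n =>
    {x | ∀ (m : ℕ) (h : n ≤ m), ∃ y : B m, p m y = c m ∧ TB.tr h y = x}
  choose m₀ h₀ hstab using exists_stable TB TC p hp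
  -- key: images from stage `m₀ n` are in the eventual range
  have key : ∀ (n : ℕ) (y : B (m₀ n)), p (m₀ n) y = c (m₀ n) → TB.tr (h₀ n) y ∈ E' n := by
    intro n y hy m h
    rcases le_total m (m₀ n) with hm | hm
    · refine ⟨TB.tr hm y, ?_, TB.tr_tr h hm y⟩
      rw [hp, hy, hc]
    · obtain ⟨y₀, hy₀⟩ := hr m
      have hd : p (m₀ n) (y - TB.tr hm y₀) = 0 := by
        rw [map_sub, hp, hy, hy₀, hc, sub_self]
      obtain ⟨κ, hκ, hκ'⟩ := hstab n m hm _ hd
      refine ⟨y₀ + κ, by rw [map_add, hκ, add_zero, hy₀], ?_⟩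
      have e1 : TB.tr h = TB.tr ((h₀ n).trans hm) := rfl
      rw [map_add, e1, hκ', map_sub, TB.tr_tr]
      abel
  have hne : ∀ n, (E' n).Nonempty := fun n => by
    obtain ⟨y, hy⟩ := hr (m₀ n)
    exact ⟨_, key n y hy⟩
  have hsurj : ∀ n (x : B n), x ∈ E' n → ∃ x' ∈ E' (n + 1), TB.tr (Nat.le_succ n) x' = x := by
    intro n x hx
    obtain ⟨y, hy, hyx⟩ := hx (m₀ (n + 1)) ((Nat.le_succ n).trans (h₀ (n + 1)))
    refine ⟨TB.tr (h₀ (n + 1)) y, key (n + 1) y hy, ?_⟩
    rw [TB.tr_tr]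
    exact hyx
  -- build the sequence
  let b' : ∀ n, {x : B n // x ∈ E' n} := fun n =>
    Nat.rec (motive := fun n => {x : B n // x ∈ E' n}) ⟨(hne 0).some, (hne 0).some_mem⟩
      (fun n x => ⟨(hsurj n x.1 x.2).choose, (hsurj n x.1 x.2).choose_spec.1⟩) n
  have hb' : ∀ n, TB.tr (Nat.le_succ n) (b' (n + 1)).1 = (b' n).1 := fun n =>
    (hsurj n (b' n).1 (b' n).2).choose_spec.2
  refine ⟨fun n => (b' n).1, ?_, ?_⟩
  · intro n m h
    induction m, h using Nat.le_induction with
    | base => exact TB.tr_refl n _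
    | succ m h ih =>
      have := TB.tr_tr h (Nat.le_succ m) (b' (m + 1)).1
      rw [hb'] at this
      rw [← this, ih]
  · intro n
    obtain ⟨y, hy, hyx⟩ := (b' n).2 n (le_refl n)
    rw [TB.tr_refl] at hyx
    show p n (b' n).1 = c n
    rw [← hyx, hy]

end lift

section tensor

open TensorProduct

variable {R : Type u} [CommRing R] {Mn : ℕ → Type v} [∀ n, AddCommGroup (Mn n)]
  [∀ n, Module R (Mn n)]

/-- The tower obtained by tensoring on the right with `P`. -/
def Tower.rTensor (T : Tower R Mn) (P : Type w) [AddCommGroup P] [Module R P] :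
    Tower R (fun n => Mn n ⊗[R] P) where
  tr h := (T.tr h).rTensor P
  tr_refl n x := by
    have : T.tr (le_refl n) = LinearMap.id := LinearMap.ext (T.tr_refl n)
    rw [this, LinearMap.rTensor_id, LinearMap.id_apply]
  tr_tr h₁ h₂ x := by
    have : T.tr h₁ ∘ₗ T.tr h₂ = T.tr (h₁.trans h₂) := LinearMap.ext (T.tr_tr h₁ h₂)
    rw [← this, LinearMap.rTensor_comp, LinearMap.comp_apply]

/-- `π` exhibits `L` as the inverse limit of the tower `T` (elementwise formulation). -/
def IsLim (T : Tower R Mn) {L : Type w} [AddCommGroup L] [Module R L]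
    (π : ∀ n, L →ₗ[R] Mn n) : Prop :=
  (∀ z, (∀ n, π n z = 0) → z = 0) ∧
    ∀ s : ∀ n, Mn n, (∀ {n m : ℕ} (h : n ≤ m), T.tr h (s m) = s n) → ∃ z, ∀ n, π n z = s n

theorem piScalarRight_rTensor {X : Type*} {Y : Type*} [AddCommGroup X] [Module R X]
    [AddCommGroup Y] [Module R Y] {ι : Type*} [Fintype ι] [DecidableEq ι]
    (g : X →ₗ[R] Y) (z : X ⊗[R] (ι → R)) (i : ι) :
    piScalarRight R R Y ι (g.rTensor _ z) i = g (piScalarRight R R X ι z i) := by
  induction z using TensorProduct.induction_on with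
  | zero => simp
  | tmul x f => simp [piScalarRightHom_tmul]
  | add a b ha hb =>
    simp only [map_add, Pi.add_apply] at ha hb ⊢
    rw [ha, hb]

theorem isLim_free (T : Tower R Mn) {L : Type w} [AddCommGroup L] [Module R L]
    (π : ∀ n, L →ₗ[R] Mn n) (hL : IsLim T π) (ι : Type*) [Fintype ι] [DecidableEq ι] :
    IsLim (T.rTensor (ι → R)) (fun n => (π n).rTensor (ι → R)) := by
  refine ⟨fun z hz => ?_, fun s hs => ?_⟩
  · apply (piScalarRight R R L ι).injective
    rw [map_zero]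
    funext i
    apply hL.1
    intro n
    rw [← piScalarRight_rTensor, hz n, map_zero]
    rfl
  · have hcomp : ∀ i : ι, ∀ {n m : ℕ} (h : n ≤ m),
        T.tr h (piScalarRight R R (Mn m) ι (s m) i) = piScalarRight R R (Mn n) ι (s n) i := by
      intro i n m h
      rw [← piScalarRight_rTensor]
      have := hs h
      change (T.tr h).rTensor (ι → R) (s m) = s n at this
      rw [this]
    choose z hz using fun i => hL.2 (fun n => piScalarRight R R (Mn n) ι (s n) i) (hcomp i)
    refine ⟨(piScalarRight R R L ι).symm z, fun n => ?_⟩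
    apply (piScalarRight R R (Mn n) ι).injective
    funext i
    show piScalarRight R R (Mn n) ι ((π n).rTensor _ _) i = _
    rw [piScalarRight_rTensor, LinearEquiv.apply_symm_apply, hz]

theorem lTensor_rTensor_comm {X Y P P' : Type*} [AddCommGroup X] [Module R X]
    [AddCommGroup Y] [Module R Y] [AddCommGroup P] [Module R P] [AddCommGroup P'] [Module R P']
    (g : X →ₗ[R] Y) (f : P →ₗ[R] P') (x : X ⊗[R] P) :
    f.lTensor Y (g.rTensor P x) = g.rTensor P' (f.lTensor X x) := by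
  rw [← LinearMap.comp_apply, ← LinearMap.comp_apply, LinearMap.lTensor_comp_rTensor,
    LinearMap.rTensor_comp_lTensor]

theorem isLim_of_exact (T : Tower R Mn) {L : Type w} [AddCommGroup L] [Module R L]
    (π : ∀ n, L →ₗ[R] Mn n) (hπ : ∀ {n m : ℕ} (h : n ≤ m), T.tr h ∘ₗ π m = π n)
    {P₁ P₀ N : Type*} [AddCommGroup P₁] [Module R P₁] [AddCommGroup P₀] [Module R P₀]
    [AddCommGroup N] [Module R N]
    (ψ : P₁ →ₗ[R] P₀) (q : P₀ →ₗ[R] N) (hq : Function.Surjective q) (hex : Function.Exact ψ q)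
    [∀ n, IsArtinian R (Mn n ⊗[R] P₁)] [∀ n, IsArtinian R (Mn n ⊗[R] P₀)]
    (h₁ : IsLim (T.rTensor P₁) (fun n => (π n).rTensor P₁))
    (h₀ : IsLim (T.rTensor P₀) (fun n => (π n).rTensor P₀)) :
    IsLim (T.rTensor N) (fun n => (π n).rTensor N) := by
  refine ⟨fun z hz => ?_, fun s hs => ?_⟩
  · obtain ⟨w, rfl⟩ := LinearMap.lTensor_surjective L hq z
    have hwc : ∀ {n m : ℕ} (h : n ≤ m),
        (T.rTensor P₀).tr h ((π m).rTensor P₀ w) = (π n).rTensor P₀ w := by
      intro n m h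
      show (T.tr h).rTensor P₀ ((π m).rTensor P₀ w) = _
      rw [← LinearMap.comp_apply, ← LinearMap.rTensor_comp, hπ h]
    have hwr : ∀ n, ∃ y, ψ.lTensor (Mn n) y = (π n).rTensor P₀ w := by
      intro n
      have h0 : q.lTensor (Mn n) ((π n).rTensor P₀ w) = 0 := by
        rw [lTensor_rTensor_comm]
        exact hz n
      exact (lTensor_exact (Mn n) hex hq _).1 h0
    obtain ⟨v, hv, hvw⟩ := exists_compatible_lift (T.rTensor P₁) (T.rTensor P₀)
      (fun n => ψ.lTensor (Mn n)) (fun h x => lTensor_rTensor_comm _ _ _)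
      (fun n => (π n).rTensor P₀ w) hwc hwr
    obtain ⟨v', hv'⟩ := h₁.2 v hv
    have hvw' : ψ.lTensor L v' = w := by
      rw [← sub_eq_zero]
      apply h₀.1
      intro n
      show (π n).rTensor P₀ (_ - _) = 0
      rw [map_sub, ← lTensor_rTensor_comm, hv' n, hvw n, sub_self]
    rw [← hvw', ← LinearMap.comp_apply, ← LinearMap.lTensor_comp, hex.linearMap_comp_eq_zero,
      LinearMap.lTensor_zero, LinearMap.zero_apply]
  · obtain ⟨w, hw, hws⟩ := exists_compatible_lift (T.rTensor P₀) (T.rTensor N)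
      (fun n => q.lTensor (Mn n)) (fun h x => lTensor_rTensor_comm _ _ _) s hs
      (fun n => LinearMap.lTensor_surjective _ hq (s n))
    obtain ⟨w', hw'⟩ := h₀.2 w hw
    refine ⟨q.lTensor L w', fun n => ?_⟩
    show (π n).rTensor N (q.lTensor L w') = s n
    rw [← lTensor_rTensor_comm, hw' n, hws]

theorem isLim_of_finitePresentation (T : Tower R Mn) {L : Type w} [AddCommGroup L] [Module R L]
    (π : ∀ n, L →ₗ[R] Mn n) (hπ : ∀ {n m : ℕ} (h : n ≤ m), T.tr h ∘ₗ π m = π n)
    (hL : IsLim T π) [∀ n, IsArtinian R (Mn n)]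
    (N : Type*) [AddCommGroup N] [Module R N] [Module.FinitePresentation R N] :
    IsLim (T.rTensor N) (fun n => (π n).rTensor N) := by
  obtain ⟨b, a, q, ψ, hq, hex⟩ := Module.FinitePresentation.exists_fin' R N
  have hart : ∀ (k : ℕ) (n : ℕ), IsArtinian R (Mn n ⊗[R] (Fin k → R)) := fun k n =>
    isArtinian_of_linearEquiv (piScalarRight R R (Mn n) (Fin k)).symm
  have := hart a
  have := hart b
  exact isLim_of_exact T π hπ ψ q hq hex (isLim_free T π hL (Fin a)) (isLim_free T π hL (Fin b))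

end tensor

section cat

open CategoryTheory CategoryTheory.Limits CategoryTheory.MonoidalCategory Opposite

variable {R : Type u} [CommRing R] (M : ℕᵒᵖ ⥤ ModuleCat.{u} R)

/-- The unbundled tower attached to a functor `ℕᵒᵖ ⥤ ModuleCat R`. -/
def towerOf : Tower R (fun n => M.obj (op n)) where
  tr h := (M.map (homOfLE h).op).hom
  tr_refl n x := by
    have : (homOfLE (le_refl n)).op = 𝟙 (op n) := Subsingleton.elim _ _
    rw [this, M.map_id]
    rfl
  tr_tr h₁ h₂ x := by
    have : (homOfLE (h₁.trans h₂)).op = (homOfLE h₂).op ≫ (homOfLE h₁).op :=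
      Subsingleton.elim _ _
    rw [this, M.map_comp]
    rfl

theorem towerOf_comp_π {n m : ℕ} (h : n ≤ m) :
    (towerOf M).tr h ∘ₗ (limit.π M (op m)).hom = (limit.π M (op n)).hom := by
  show (M.map (homOfLE h).op).hom ∘ₗ (limit.π M (op m)).hom = _
  rw [← ModuleCat.hom_comp, limit.w]

theorem isLim_limit : IsLim (towerOf M) (fun n => (limit.π M (op n)).hom) := by
  refine ⟨fun z hz => ?_, fun s hs => ?_⟩
  · refine Concrete.limit_ext M z 0 (fun j => ?_)
    rw [map_zero]
    exact hz j.unop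
  · let s' : (M ⋙ forget (ModuleCat.{u} R)).sections :=
      ⟨fun j => s j.unop, fun {j j'} f => by
        have hf : f = (homOfLE (leOfHom f.unop)).op := Subsingleton.elim _ _
        rw [hf]
        exact hs (leOfHom f.unop)⟩
    let t := isLimitOfPreserves (forget (ModuleCat.{u} R)) (limit.isLimit M)
    refine ⟨(Types.isLimitEquivSections t).symm s', fun n => ?_⟩
    exact Types.isLimitEquivSections_symm_apply t s' (op n)

theorem isIso_limit_post (hM : ∀ n : ℕᵒᵖ, IsFiniteLength R (M.obj n))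
    (N : Type u) [AddCommGroup N] [Module R N] [Module.FinitePresentation R N] :
    IsIso (limit.post M (tensorRight (ModuleCat.of R N))) := by
  have hart : ∀ n : ℕ, IsArtinian R (M.obj (op n)) := fun n =>
    ((isFiniteLength_iff_isNoetherian_isArtinian).1 (hM (op n))).2
  have hgood := isLim_of_finitePresentation (towerOf M) (fun n => (limit.π M (op n)).hom)
    (towerOf_comp_π M) (isLim_limit M) N
  set G := tensorRight (ModuleCat.of R N) with hG
  have h2 : ∀ (n : ℕ) x, (limit.π M (op n)).hom.rTensor N x =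
      (limit.π (M ⋙ G) (op n)) (limit.post M G x) := by
    intro n x
    rw [← ConcreteCategory.comp_apply, limit.post_π]
    rfl
  rw [ConcreteCategory.isIso_iff_bijective]
  constructor
  · intro z z' hzz'
    rw [← sub_eq_zero]
    apply hgood.1
    intro n
    show (limit.π M (op n)).hom.rTensor N (z - z') = 0
    rw [map_sub, h2, h2, hzz', sub_self]
  · intro y
    obtain ⟨z, hz⟩ := hgood.2 (fun n => limit.π (M ⋙ G) (op n) y) (by
      intro n m h
      show ((M ⋙ G).map (homOfLE h).op) (limit.π (M ⋙ G) (op m) y) = _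
      rw [← ConcreteCategory.comp_apply, limit.w])
    refine ⟨z, Concrete.limit_ext _ _ _ (fun j => ?_)⟩
    have := hz j.unop
    rw [← h2 j.unop z]
    exact this

end cat

end Groth.Agent.Helper64.LimTensor
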