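import Mathlib
import Groth.Prelude.Def_Red2
import Groth.Prelude.Def_AGF
import Groth.Agent.Lib.Helper43.GaGm
import Groth.Agent.Lib.Helper64.FlatEqRel
import Groth.Agent.Lib.Helper64.GrpLaw

set_option autoImplicit false
universe u

open CategoryTheory MonoidalCategory CartesianMonoidalCategory MonObj GrpObj AlgebraicGeometry Limits

namespace Groth.Agent.Lib.Helper64.NilSolv

open Groth.Agent.Lib.Helper43 Groth.Agent.Lib.Helper64.GrpLaw

section Univ

variable {S : Scheme.{u}}

/-- precomposition as a monoid hom on points of a group object. -/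
noncomputable def precompHom {Y T : Over S} (α : Y ⟶ T) (G : Over S) [GrpObj G] :
    (T ⟶ G) →* (Y ⟶ G) :=
  MonoidHom.mk' (fun a => α ≫ a) (fun a b => MonObj.comp_mul α a b)

@[simp] lemma precompHom_apply {Y T : Over S} (α : Y ⟶ T) (G : Over S) [GrpObj G] (a : T ⟶ G) :
    precompHom α G a = α ≫ a := rfl

/-- universal points: any finite family of points of `G` is pulled back from a family of points
over a flat `S`-scheme. -/
theorem exists_universal (G : Over S) [GrpObj G] [Flat G.hom] (I : Type) [Finite I] :
    ∀ (Y : Over S) (a : I → (Y ⟶ G)), ∃ (T : Over S) (_ : Flat T.hom) (α : Y ⟶ T)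
      (a' : I → (T ⟶ G)), ∀ i, α ≫ a' i = a i := by
  induction I using Finite.induction_empty_option with
  | of_equiv e ih =>
    intro Y a
    obtain ⟨T, hT, α, a', h⟩ := ih Y (a ∘ e)
    exact ⟨T, hT, α, a' ∘ e.symm, fun i => by simpa using h (e.symm i)⟩
  | h_empty =>
    intro Y a
    refine ⟨𝟙_ (Over S), ?_, toUnit Y, fun i => i.elim, fun i => i.elim⟩
    rw [Over.tensorUnit_hom]
    exact MorphismProperty.id_mem _ _
  | h_option ih =>
    intro Y a
    obtain ⟨T, hT, α, a', h⟩ := ih Y (fun i => a (some i))
    refine ⟨T ⊗ G, ?_, lift α (a none), fun i => i.elim (snd T G) (fun j => fst T G ≫ a' j), ?_⟩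
    · rw [Over.tensorObj_hom]
      infer_instance
    · rintro (_ | j)
      · exact lift_snd _ _
      · simp only [Option.elim]
        rw [lift_fst_assoc, h]

end Univ

section BcHom

variable {S B : Scheme.{u}} (f : S ⟶ B)

/-- `bcPt` as a monoid hom. -/
noncomputable def bcPtHom (G : Over B) [GrpObj G] (X : Over S) :
    (X ⟶ Red.bc f G) →* ((Over.map f).obj X ⟶ G) :=
  MonoidHom.mk' (bcPt f) (fun a b => bcPt_mul f a b)

@[simp] lemma bcPtHom_apply (G : Over B) [GrpObj G] (X : Over S) (x : X ⟶ Red.bc f G) :
    bcPtHom f G X x = bcPt f x := rfl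

end BcHom

section Density

variable {R K : Type u} [CommRing R] [CommRing K] [Algebra R K]

/-- the generic fibre of an `R`-scheme, as a scheme over `K`. -/
noncomputable abbrev genFib (T : Over (Spec (CommRingCat.of R))) : Over (Spec (CommRingCat.of K)) :=
  Over.mk (pullback.snd T.hom (Spec.map (CommRingCat.ofHom (algebraMap R K))))

/-- the inclusion of the generic fibre. -/
noncomputable def genFibι (T : Over (Spec (CommRingCat.of R))) :
    (Over.map (Spec.map (CommRingCat.ofHom (algebraMap R K)))).obj (genFib (K := K) T) ⟶ T :=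
  Over.homMk (pullback.fst T.hom (Spec.map (CommRingCat.ofHom (algebraMap R K))))
    pullback.condition

/-- two morphisms from a flat `R`-scheme to a separated `R`-scheme which agree on the generic fibre
are equal. -/
theorem eq_of_genFib_eq (hinj : Function.Injective (algebraMap R K))
    (T G : Over (Spec (CommRingCat.of R))) [Flat T.hom] [IsSeparated G.hom] (a b : T ⟶ G)
    (h : genFibι (K := K) T ≫ a = genFibι (K := K) T ≫ b) : a = b := by
  have ha := Over.w a
  have hb := Over.w b
  let φ : T.left ⟶ pullback G.hom G.hom := pullback.lift a.left b.left (ha.trans hb.symm)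
  have hleft : pullback.fst T.hom (Spec.map (CommRingCat.ofHom (algebraMap R K))) ≫ a.left =
      pullback.fst T.hom (Spec.map (CommRingCat.ofHom (algebraMap R K))) ≫ b.left :=
    congrArg Over.Hom.left h
  obtain ⟨c, hc⟩ := FlatEqRel.exists_lift hinj T.hom (pullback.diagonal G.hom) φ
    (pullback.fst T.hom (Spec.map (CommRingCat.ofHom (algebraMap R K))) ≫ a.left) (by
      apply pullback.hom_ext
      · simp only [Category.assoc, pullback.diagonal_fst, Category.comp_id, φ, pullback.lift_fst]
      · simp only [Category.assoc, pullback.diagonal_snd, Category.comp_id, φ, pullback.lift_snd]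
        exact hleft)
  have h1 : c = a.left := by
    have := congrArg (fun k => k ≫ pullback.fst G.hom G.hom) hc
    simp only [Category.assoc, pullback.diagonal_fst, Category.comp_id] at this
    rw [this]
    exact pullback.lift_fst _ _ _
  have h2 : c = b.left := by
    have := congrArg (fun k => k ≫ pullback.snd G.hom G.hom) hc
    simp only [Category.assoc, pullback.diagonal_snd, Category.comp_id] at this
    rw [this]
    exact pullback.lift_snd _ _ _
  exact Over.OverMorphism.ext (h1.symm.trans h2)

end Density

section Law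

variable {R K : Type u} [CommRing R] [CommRing K] [Algebra R K]

/-- a law (natural word map in finitely many variables) satisfied by the points of the generic
fibre of a flat separated group scheme over `R` is satisfied by all points of the group scheme. -/
theorem law_of_genFib (hinj : Function.Injective (algebraMap R K))
    (G : Over (Spec (CommRingCat.of R))) [GrpObj G] [Flat G.hom] [IsSeparated G.hom]
    (I : Type) [Finite I] (w : ∀ (H : Type u) [Group H], (I → H) → H)
    (hw : ∀ (H H' : Type u) [Group H] [Group H'] (φ : H →* H') (a : I → H),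
      φ (w H a) = w H' (φ ∘ a))
    (hK : ∀ (X : Over (Spec (CommRingCat.of K)))
      (a : I → (X ⟶ Red.bc (Spec.map (CommRingCat.ofHom (algebraMap R K))) G)), w _ a = 1)
    (Y : Over (Spec (CommRingCat.of R))) (a : I → (Y ⟶ G)) : w _ a = 1 := by
  obtain ⟨T, hT, α, a', h⟩ := exists_universal G I Y a
  have h1 : w _ a' = 1 := by
    apply eq_of_genFib_eq (K := K) hinj T G
    have e1 := hw _ _ (precompHom (genFibι (K := K) T) G) a'
    have e2 : precompHom (genFibι (K := K) T) G 1 = 1 := map_one _
    rw [precompHom_apply] at e1 e2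
    rw [e1, e2]
    choose b hb using fun i => bcPt_surjective (Spec.map (CommRingCat.ofHom (algebraMap R K)))
      (G := G) (X := genFib (K := K) T) (genFibι (K := K) T ≫ a' i)
    have e3 : (⇑(precompHom (genFibι (K := K) T) G) ∘ a') =
        ⇑(bcPtHom (Spec.map (CommRingCat.ofHom (algebraMap R K))) G (genFib (K := K) T)) ∘ b := by
      funext i
      exact (hb i).symm
    rw [e3, ← hw, hK, map_one]
  have e4 := hw _ _ (precompHom α G) a'
  have e5 : (⇑(precompHom α G) ∘ a') = a := funext h
  rw [e5, h1, map_one] at e4
  exact e4.symm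

/-- a law satisfied by all points of a group scheme over `R` is satisfied by the points of any base
change. -/
theorem law_bc {S B : Scheme.{u}} (f : S ⟶ B) (G : Over B) [GrpObj G]
    (I : Type) (w : ∀ (H : Type u) [Group H], (I → H) → H)
    (hw : ∀ (H H' : Type u) [Group H] [Group H'] (φ : H →* H') (a : I → H),
      φ (w H a) = w H' (φ ∘ a))
    (hG : ∀ (Y : Over B) (a : I → (Y ⟶ G)), w _ a = 1)
    (X : Over S) (a : I → (X ⟶ Red.bc f G)) : w _ a = 1 := by
  apply bcPt_injective f
  have e1 := hw _ _ (bcPtHom f G X) a
  have e2 : bcPtHom f G X 1 = 1 := map_one _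
  rw [bcPtHom_apply] at e1 e2
  rw [e1, e2]
  exact hG _ _

end Law

section Main

open Groth.Agent.Lib.Helper64.GrpLaw

theorem main (A : Type u) [CommRing A] [IsDomain A] [IsDiscreteValuationRing A]
    (K : Type u) [Field K] [Algebra A K] [IsFractionRing A K]
    (G : Over (Spec (CommRingCat.of A))) [GrpObj G] [Flat G.hom]
    [LocallyOfFinitePresentation G.hom] [QuasiCompact G.hom] [IsSeparated G.hom] :
    (AGF.IsNilpotentGrp (Red.bc (Spec.map (CommRingCat.ofHom (algebraMap A K))) G) →
      AGF.IsNilpotentGrp (Red.bc (Spec.map (CommRingCat.ofHom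
        (algebraMap A (IsLocalRing.ResidueField A)))) G)) ∧
    (Red.IsSolvableGrp (Red.bc (Spec.map (CommRingCat.ofHom (algebraMap A K))) G) →
      Red.IsSolvableGrp (Red.bc (Spec.map (CommRingCat.ofHom
        (algebraMap A (IsLocalRing.ResidueField A)))) G)) := by
  have hinj : Function.Injective (algebraMap A K) := IsFractionRing.injective A K
  constructor
  · rintro ⟨n, hn⟩
    refine ⟨n, fun X => ?_⟩
    rw [upperCentralSeries_eq_top_iff]
    refine law_bc _ G (Fin (n + 1)) (fun H _ a => nilWord n a)
      (fun H H' _ _ φ a => map_nilWord φ n a) ?_ X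
    refine law_of_genFib (K := K) hinj G (Fin (n + 1)) (fun H _ a => nilWord n a)
      (fun H H' _ _ φ a => map_nilWord φ n a) ?_
    intro X' a
    exact (upperCentralSeries_eq_top_iff n).1 (hn X') a
  · rintro ⟨n, hn⟩
    refine ⟨n, fun X => ?_⟩
    rw [derivedSeries_eq_bot_iff]
    refine law_bc _ G (Fin n → Bool) (fun H _ a => solWord n a)
      (fun H H' _ _ φ a => map_solWord φ n a) ?_ X
    refine law_of_genFib (K := K) hinj G (Fin n → Bool) (fun H _ a => solWord n a)
      (fun H H' _ _ φ a => map_solWord φ n a) ?_
    intro X' a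
    exact (derivedSeries_eq_bot_iff n).1 (hn X') a

end Main

end Groth.Agent.Lib.Helper64.NilSolv
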