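import Mathlib
import Groth.Prelude.Def_FlatCA
import Groth.Agent.Lib.Helper64.CDBase
import Groth.Agent.H46.SmoothFibreDim
import Groth.Agent.Lib.Helper55.LocalDim
import Groth.Agent.Lib.Helper55.ZeroLocusDim
import Groth.Agent.Lib.Helper55.KrullDimIntegral
import Groth.Agent.S12231

/-! One-step dévissage: existence of a fibre basis and drop of dimension (helper64). -/

set_option autoImplicit false
universe u
open TensorProduct

namespace Groth.Agent.Lib.Helper64.OneStepBasis

attribute [local instance] Algebra.TensorProduct.rightAlgebra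

open AlgebraicGeometry CategoryTheory in
theorem smooth_of_smoothRelDim {R D : Type u} [CommRing R] [CommRing D] [Algebra R D] (n : ℕ)
    (hsm : FlatCA.SmoothRelDim n R D) : Algebra.Smooth R D := by
  have h : SmoothOfRelativeDimension n
      (Spec.map (CommRingCat.ofHom (algebraMap R D))) := hsm
  have h2 : Smooth (Spec.map (CommRingCat.ofHom (algebraMap R D))) :=
    SmoothOfRelativeDimension.smooth n _
  rw [HasRingHomProperty.Spec_iff (P := @Smooth)] at h2
  exact RingHom.smooth_algebraMap.mp h2

open AlgebraicGeometry CategoryTheory in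
/-- dimension of the fibre of a smooth algebra of relative dimension `n` when it is a domain -/
theorem ringKrullDim_fibre {R D : Type u} [CommRing R] [CommRing D] [Algebra R D] (n : ℕ)
    (hsm : FlatCA.SmoothRelDim n R D) (K : Type u) [Field K] [Algebra R K] [IsDomain (K ⊗[R] D)] :
    ringKrullDim (K ⊗[R] D) = n := by
  have hS : Algebra.Smooth R D := smooth_of_smoothRelDim n hsm
  have hpo : Algebra.IsPushout R D K (K ⊗[R] D) := Algebra.IsPushout.symm inferInstance
  have hpb := isPullback_SpecMap_of_isPushout _ _ _ _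
      (CommRingCat.isPushout_of_isPushout R D K (K ⊗[R] D))
  have := smoothOfRelativeDimension_isStableUnderBaseChange (n := n)
  have hsm' : SmoothOfRelativeDimension n
      (Spec.map (CommRingCat.ofHom (algebraMap K (K ⊗[R] D)))) :=
    MorphismProperty.of_isPullback (P := @SmoothOfRelativeDimension n) hpb hsm
  have hfp : Algebra.FinitePresentation R D := inferInstance
  have hft : Algebra.FiniteType K (K ⊗[R] D) := inferInstance
  have h1 := Groth.Agent.H46.SmoothFibreDim.localDim_eq_of_smoothOfRelativeDimension n K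
    (Spec.map (CommRingCat.ofHom (algebraMap K (K ⊗[R] D)))) ⟨⊥, Ideal.isPrime_bot⟩
  have h2 := Groth.Agent.Lib.Helper55.localDim_primeSpectrum_eq K (K ⊗[R] D) ⟨⊥, Ideal.isPrime_bot⟩
  have h3 : ringKrullDim ((K ⊗[R] D) ⧸ (⊥ : Ideal (K ⊗[R] D))) = ringKrullDim (K ⊗[R] D) :=
    ringKrullDim_eq_of_ringEquiv (RingEquiv.quotientBot _)
  simp only [Ideal.height_bot] at h2
  rw [h3] at h2
  have h4 : (((0 : ℕ∞) : WithBot ℕ∞)) = 0 := rfl
  rw [h4, add_zero] at h2
  rw [← h2]
  exact h1

section key

variable {R D : Type u} [CommRing R] [CommRing D] [Algebra R D] (p : Ideal R) [p.IsPrime]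

/-- `pD` lies over `p` when the fibre is nontrivial -/
theorem comap_map_eq [Nontrivial (p.Fiber D)] :
    (p.map (algebraMap R D)).comap (algebraMap R D) = p := by
  obtain ⟨Q⟩ : Nonempty (PrimeSpectrum (p.Fiber D)) := inferInstance
  let q := (PrimeSpectrum.primesOverOrderIsoFiber R D p).symm Q
  have hq : q.1.LiesOver p := q.2.2
  apply le_antisymm
  · intro x hx
    have h1 : algebraMap R D x ∈ q.1 :=
      (Ideal.map_le_iff_le_comap.mpr (le_of_eq hq.over)) hx
    rw [hq.over]; exact h1
  · exact Ideal.le_comap_map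

theorem one_tmul_ne_zero [Nontrivial (p.Fiber D)] [hP : (p.map (algebraMap R D)).IsPrime]
    (d : D) (hd : d ∉ p.map (algebraMap R D)) :
    ((1 : p.ResidueField) ⊗ₜ[R] d : p.Fiber D) ≠ 0 := by
  intro h0
  have hc := comap_map_eq p (D := D)
  let φ : p.Fiber D →ₐ[R] (p.map (algebraMap R D)).ResidueField :=
    Algebra.TensorProduct.lift
      (Ideal.ResidueField.mapₐ p (p.map (algebraMap R D)) (Algebra.ofId _ _) hc.symm)
      (IsScalarTower.toAlgHom R D (p.map (algebraMap R D)).ResidueField) fun _ _ ↦ .all _ _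
  have h1 := congrArg φ h0
  simp only [φ, Algebra.TensorProduct.lift_tmul, map_one, one_mul, map_zero,
    IsScalarTower.coe_toAlgHom'] at h1
  exact hd (Ideal.algebraMap_residueField_eq_zero.mp h1)

theorem lt_of_add_one_le {x : WithBot ℕ∞} {n : ℕ} (h : x + 1 ≤ (n : WithBot ℕ∞)) :
    x < (n : WithBot ℕ∞) := by
  induction x with
  | bot => exact WithBot.bot_lt_coe _
  | coe m =>
    induction m with
    | top =>
      exfalso
      have : ((⊤ : ℕ∞) : WithBot ℕ∞) + 1 = ((⊤ : ℕ∞) : WithBot ℕ∞) := rfl
      rw [this] at h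
      have h2 : ((n : ℕ∞) : WithBot ℕ∞) < ((⊤ : ℕ∞) : WithBot ℕ∞) :=
        WithBot.coe_lt_coe.mpr (ENat.natCast_lt_top n)
      exact absurd h (not_le.mpr h2)
    | coe m =>
      have h1 : ((m : ℕ∞) : WithBot ℕ∞) + 1 = (((m + 1 : ℕ) : ℕ∞) : WithBot ℕ∞) := by
        push_cast; rfl
      rw [h1] at h
      have h2 : m + 1 ≤ n := by exact_mod_cast h
      exact_mod_cast Nat.lt_of_succ_le h2

theorem supportDim_fibre_lt {n : ℕ} [hP : (p.map (algebraMap R D)).IsPrime]
    [IsDomain (p.Fiber D)] (hdim : ringKrullDim (p.Fiber D) = n)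
    (X : Type u) [AddCommGroup X] [Module D X] [Module.Finite D X]
    (hX : Subsingleton ((p.map (algebraMap R D)).ResidueField ⊗[D] X)) :
    Module.supportDim (p.Fiber D) ((p.Fiber D) ⊗[D] X) < (n : WithBot ℕ∞) := by
  have hPs : (⟨p.map (algebraMap R D), hP⟩ : PrimeSpectrum D) ∉ Module.support D X := by
    rw [Module.mem_support_iff_nontrivial_residueField_tensorProduct]
    exact not_nontrivial_iff_subsingleton.mpr hX
  rw [Module.support_eq_zeroLocus, PrimeSpectrum.mem_zeroLocus] at hPs
  obtain ⟨d, hdA, hdP⟩ := Set.not_subset.mp hPs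
  let f : p.Fiber D := (1 : p.ResidueField) ⊗ₜ[R] d
  have hf0 : f ≠ 0 := one_tmul_ne_zero p d hdP
  have hkill : ∀ y : (p.Fiber D) ⊗[D] X, f • y = 0 := by
    intro y
    induction y with
    | zero => simp
    | add a b ha hb => rw [smul_add, ha, hb, add_zero]
    | tmul a x =>
      rw [TensorProduct.smul_tmul']
      have h1 : f • a = d • a := by
        rw [Algebra.smul_def d a]; rfl
      rw [h1, TensorProduct.smul_tmul, (Module.mem_annihilator.mp hdA) x, tmul_zero]
  have hfann : f ∈ Module.annihilator (p.Fiber D) ((p.Fiber D) ⊗[D] X) :=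
    Module.mem_annihilator.mpr hkill
  have hsub : Module.support (p.Fiber D) ((p.Fiber D) ⊗[D] X) ⊆
      PrimeSpectrum.zeroLocus ((Ideal.span {f} : Ideal (p.Fiber D)) : Set (p.Fiber D)) := by
    intro q hq
    rw [PrimeSpectrum.zeroLocus_span]
    exact Set.singleton_subset_iff.mpr (Module.annihilator_le_of_mem_support hq hfann)
  have h1 : Module.supportDim (p.Fiber D) ((p.Fiber D) ⊗[D] X) ≤
      ringKrullDim ((p.Fiber D) ⧸ (Ideal.span {f} : Ideal (p.Fiber D))) := by
    rw [ringKrullDim_quotient, Module.supportDim]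
    exact Order.krullDim_le_of_strictMono (Set.inclusion hsub) (fun a b hab => hab)
  have h2 := ringKrullDim_quotient_succ_le_of_nonZeroDivisor
    (mem_nonZeroDivisors_of_ne_zero hf0)
  rw [hdim] at h2
  exact lt_of_le_of_lt h1 (lt_of_add_one_le h2)

end key
section partB

variable {D : Type u} [CommRing D] (k : Type u) [CommRing k] [Algebra D k]
  {G : Type u} [AddCommGroup G] [Module D G] {r : ℕ} (α : (Fin r → D) →ₗ[D] G)

theorem subsingleton_tensor_coker (hα : Function.Surjective (α.baseChange k)) :
    Subsingleton (k ⊗[D] (G ⧸ LinearMap.range α)) := by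
  refine ⟨fun a b => ?_⟩
  suffices h : ∀ z : k ⊗[D] (G ⧸ LinearMap.range α), z = 0 by rw [h a, h b]
  intro z
  obtain ⟨y, rfl⟩ := LinearMap.lTensor_surjective k (LinearMap.range α).mkQ_surjective z
  obtain ⟨w, rfl⟩ := hα y
  rw [LinearMap.baseChange_eq_ltensor, ← LinearMap.comp_apply, ← LinearMap.lTensor_comp,
    LinearMap.range_mkQ_comp, LinearMap.lTensor_zero, LinearMap.zero_apply]

end partB

section partA

variable {D : Type u} [CommRing D] [Nontrivial D] (k : Type u) [Field k] [Algebra D k]
  (G : Type u) [AddCommGroup G] [Module D G] [Module.Finite D G]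

theorem exists_basis_map : ∃ (r : ℕ) (α : (Fin r → D) →ₗ[D] G),
    r = Module.finrank k (k ⊗[D] G) ∧ Function.Bijective (α.baseChange k) := by
  have hfin : Module.Finite k (k ⊗[D] G) := inferInstance
  let s : Set (k ⊗[D] G) := Set.range (fun g : G => (1 : k) ⊗ₜ[D] g)
  have hs : Submodule.span k s = ⊤ := by
    rw [eq_top_iff]
    intro v hv
    clear hv
    induction v with
    | zero => exact zero_mem _
    | add a b ha hb => exact add_mem ha hb
    | tmul c g =>
      have h1 : c ⊗ₜ[D] g = c • ((1 : k) ⊗ₜ[D] g) := by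
        rw [TensorProduct.smul_tmul', smul_eq_mul, mul_one]
      rw [h1]
      exact Submodule.smul_mem _ _ (Submodule.subset_span ⟨g, rfl⟩)
  have hfin' : Module.Finite k (Submodule.span k s) := by rw [hs]; infer_instance
  obtain ⟨f, hf, hfs, -⟩ := Submodule.exists_fun_fin_finrank_span_eq k s
  have hrk : Module.finrank k (Submodule.span k s) = Module.finrank k (k ⊗[D] G) := by
    rw [hs]; exact finrank_top k _
  choose g hg using hf
  refine ⟨Module.finrank k (Submodule.span k s), Fintype.linearCombination D g, hrk, ?_⟩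
  have hsurj : Function.Surjective ((Fintype.linearCombination D g).baseChange k) := by
    have htop : (⊤ : Submodule k (k ⊗[D] G)) ≤ Submodule.span k (Set.range f) := by
      rw [hfs, hs]
    rw [← LinearMap.range_eq_top, eq_top_iff]
    refine le_trans htop (Submodule.span_le.mpr ?_)
    rintro _ ⟨i, rfl⟩
    refine ⟨(1 : k) ⊗ₜ[D] (Pi.single i 1), ?_⟩
    rw [LinearMap.baseChange_tmul, ← hg i]
    simp [Fintype.linearCombination_apply_single]
  have hfr : Module.finrank k (k ⊗[D] (Fin (Module.finrank k (Submodule.span k s)) → D)) =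
      Module.finrank k (k ⊗[D] G) := by
    rw [Module.finrank_baseChange, Module.finrank_fin_fun, hrk]
  exact ⟨(LinearMap.injective_iff_surjective_of_finrank_eq_finrank hfr).mpr hsurj, hsurj⟩

end partA

section integral

theorem isIntegral_tensor_map {R A B : Type u} [CommRing R] [CommRing A] [CommRing B]
    [Algebra R A] [Algebra R B] (K : Type u) [CommRing K] [Algebra R K] (ψ : A →ₐ[R] B)
    (hψ : ψ.toRingHom.IsIntegral) :
    (Algebra.TensorProduct.map (AlgHom.id K K) ψ).toRingHom.IsIntegral := by
  intro x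
  induction x with
  | zero => exact RingHom.isIntegralElem_zero _
  | add a b ha hb => exact RingHom.IsIntegralElem.add _ ha hb
  | tmul c b =>
    have h1 : c ⊗ₜ[R] b = (c ⊗ₜ[R] (1 : B)) * ((1 : K) ⊗ₜ[R] b) := by simp
    rw [h1]
    refine RingHom.IsIntegralElem.mul _ ?_ ?_
    · have h2 : c ⊗ₜ[R] (1 : B) =
          (Algebra.TensorProduct.map (AlgHom.id K K) ψ).toRingHom (c ⊗ₜ 1) := by simp
      rw [h2]; exact RingHom.isIntegralElem_map _
    · obtain ⟨q, hq, hq0⟩ := hψ b
      refine ⟨q.map (Algebra.TensorProduct.includeRight : A →ₐ[R] K ⊗[R] A).toRingHom,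
        hq.map _, ?_⟩
      rw [Polynomial.eval₂_map]
      have hcomp : ((Algebra.TensorProduct.map (AlgHom.id K K) ψ).toRingHom).comp
          (Algebra.TensorProduct.includeRight : A →ₐ[R] K ⊗[R] A).toRingHom =
          (Algebra.TensorProduct.includeRight : B →ₐ[R] K ⊗[R] B).toRingHom.comp ψ.toRingHom := by
        ext a; simp
      rw [hcomp]
      have h3 : (1 : K) ⊗ₜ[R] b =
          (Algebra.TensorProduct.includeRight : B →ₐ[R] K ⊗[R] B).toRingHom b := rfl
      rw [h3, ← Polynomial.hom_eval₂, hq0, map_zero]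

end integral

section compare

variable {R S C D : Type u} [CommRing R] [CommRing S] [CommRing C] [CommRing D]
  [Algebra R S] [Algebra S C] [Algebra R C] [IsScalarTower R S C]
  [Algebra R D] [Algebra D C] [IsScalarTower R D C]
  (K : Type u) [CommRing K] [Algebra R K]
  (G : Type u) [AddCommGroup G] [Module C G] [Module S G] [IsScalarTower S C G]
  [Module D G] [IsScalarTower D C G]

omit [Algebra R S] [Algebra R C] [IsScalarTower R S C] [Algebra R D] [Algebra D C]
  [IsScalarTower R D C] [Module D G] [IsScalarTower D C G] [CommRing R] [CommRing D] in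
theorem annihilator_eq_comap :
    Module.annihilator S G = (Module.annihilator C G).comap (algebraMap S C) := by
  ext s
  simp only [Module.mem_annihilator, Ideal.mem_comap, algebraMap_smul]

theorem supportDim_le [Module.Finite C G] [Module.Finite D C]
    (hS : Function.Surjective (algebraMap S C)) :
    Module.supportDim (K ⊗[R] S) ((K ⊗[R] S) ⊗[S] G) ≤
      Module.supportDim (K ⊗[R] D) ((K ⊗[R] D) ⊗[D] G) := by
  have hfSC : Module.Finite S C := Module.Finite.of_surjective (Algebra.linearMap S C) hS
  have hfSG : Module.Finite S G := Module.Finite.trans C G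
  have hfDG : Module.Finite D G := Module.Finite.trans C G
  have hJS : Module.support S G =
      PrimeSpectrum.zeroLocus ((Module.annihilator C G).comap (algebraMap S C)) := by
    rw [Module.support_eq_zeroLocus, annihilator_eq_comap (S := S) (C := C) G]
  have hJD : Module.support D G =
      PrimeSpectrum.zeroLocus ((Module.annihilator C G).comap (algebraMap D C)) := by
    rw [Module.support_eq_zeroLocus, annihilator_eq_comap (S := D) (C := C) G]
  rw [Groth.Agent.S12231.supportDim_fibre R S K G _ hJS,
    Groth.Agent.S12231.supportDim_fibre R D K G _ hJD]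
  let ψS : (S ⧸ (Module.annihilator C G).comap (algebraMap S C)) →ₐ[R]
      (C ⧸ Module.annihilator C G) :=
    Ideal.quotientMapₐ (Module.annihilator C G) (IsScalarTower.toAlgHom R S C) le_rfl
  let ψD : (D ⧸ (Module.annihilator C G).comap (algebraMap D C)) →ₐ[R]
      (C ⧸ Module.annihilator C G) :=
    Ideal.quotientMapₐ (Module.annihilator C G) (IsScalarTower.toAlgHom R D C) le_rfl
  have hψS : Function.Bijective ψS :=
    ⟨Ideal.quotientMap_injective, Ideal.quotientMap_surjective (H := le_rfl) hS⟩
  have hψD : ψD.toRingHom.IsIntegral :=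
    RingHom.IsIntegral.quotient (f := algebraMap D C)
      (algebraMap_isIntegral_iff.mpr (Algebra.IsIntegral.of_finite D C))
  have e1 : ringKrullDim (K ⊗[R] (S ⧸ (Module.annihilator C G).comap (algebraMap S C))) =
      ringKrullDim (K ⊗[R] (C ⧸ Module.annihilator C G)) :=
    ringKrullDim_eq_of_ringEquiv
      (Algebra.TensorProduct.congr (AlgEquiv.refl (R := K) (A₁ := K))
        (AlgEquiv.ofBijective ψS hψS)).toRingEquiv
  rw [e1]
  have hΦ := isIntegral_tensor_map K ψD hψD
  let _ : Algebra (K ⊗[R] (D ⧸ (Module.annihilator C G).comap (algebraMap D C)))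
      (K ⊗[R] (C ⧸ Module.annihilator C G)) :=
    (Algebra.TensorProduct.map (AlgHom.id K K) ψD).toRingHom.toAlgebra
  have : Algebra.IsIntegral (K ⊗[R] (D ⧸ (Module.annihilator C G).comap (algebraMap D C)))
      (K ⊗[R] (C ⧸ Module.annihilator C G)) := ⟨hΦ⟩
  exact Groth.Agent.Lib.Helper55.ringKrullDim_le_of_isIntegral _ _

end compare

section main

theorem main {R S : Type u} [CommRing R] [CommRing S] [Algebra R S]
    (N : Type u) [AddCommGroup N] [Module S N] [Module R N] [IsScalarTower R S N]
    (p : Ideal R) [p.IsPrime]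
    (C D G : Type u) [CommRing C] [CommRing D] [Algebra S C] [Algebra R C] [IsScalarTower R S C]
    [Algebra R D] [Algebra D C] [IsScalarTower R D C] [AddCommGroup G] [Module C G] [Module S G]
    [IsScalarTower S C G] [Module D G] [IsScalarTower D C G] [Module R G] [IsScalarTower R D G]
    (n : ℕ) (h : FlatCA.IsOneStepDevissage R S N p C D G n)
    [hP : (p.map (algebraMap R D)).IsPrime] :
    (∃ (r : ℕ) (α : (Fin r → D) →ₗ[D] G), 0 < r ∧
      Function.Bijective (α.baseChange (p.map (algebraMap R D)).ResidueField)) ∧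
    ∀ (r : ℕ) (α : (Fin r → D) →ₗ[D] G),
      Function.Bijective (α.baseChange (p.map (algebraMap R D)).ResidueField) →
      Module.supportDim (p.Fiber D) (FlatCA.fiberMod p D (G ⧸ LinearMap.range α)) <
        (n : WithBot ℕ∞) := by
  obtain ⟨⟨e⟩, hsurj, hfp, hfDC, hfCG, hsm, hgi, hdim⟩ := h
  have hS : Algebra.Smooth R D := smooth_of_smoothRelDim n hsm
  have hdom : IsDomain (p.Fiber D) :=
    CDBase.isDomain_tensor_of_smooth_geomIrred hgi p.ResidueField
  have hFdim : ringKrullDim (p.Fiber D) = n := ringKrullDim_fibre n hsm p.ResidueField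
  have hfDG : Module.Finite D G := Module.Finite.trans C G
  have hntD : Nontrivial D := by
    by_contra hnt
    have hsub : Subsingleton D := not_nontrivial_iff_subsingleton.mp hnt
    exact hP.ne_top (Subsingleton.elim _ _)
  constructor
  · obtain ⟨r, α, hr, hα⟩ := exists_basis_map (D := D) (p.map (algebraMap R D)).ResidueField G
    refine ⟨r, α, ?_, hα⟩
    by_contra hr0
    have hr0' : Module.finrank (p.map (algebraMap R D)).ResidueField
        ((p.map (algebraMap R D)).ResidueField ⊗[D] G) = 0 := by omega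
    have hsub : Subsingleton ((p.map (algebraMap R D)).ResidueField ⊗[D] G) :=
      Module.finrank_zero_iff.mp hr0'
    have h1 := supportDim_fibre_lt p hFdim G hsub
    have h2 := supportDim_le (R := R) (S := S) (C := C) (D := D) p.ResidueField G hsurj
    have h3 : Module.supportDim (p.Fiber S) ((p.Fiber S) ⊗[S] N) =
        Module.supportDim (p.Fiber S) ((p.Fiber S) ⊗[S] G) :=
      Module.supportDim_eq_of_equiv (LinearEquiv.baseChange S (p.Fiber S) N G e)
    have h4 : Module.supportDim (p.Fiber S) ((p.Fiber S) ⊗[S] N) = (n : WithBot ℕ∞) := hdim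
    rw [h4] at h3
    rw [← h3] at h2
    exact absurd h1 (not_lt.mpr h2)
  · intro r α hα
    have hsub := subsingleton_tensor_coker (p.map (algebraMap R D)).ResidueField α hα.2
    exact supportDim_fibre_lt p hFdim (G ⧸ LinearMap.range α) hsub

end main

end Groth.Agent.Lib.Helper64.OneStepBasis
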