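import Groth.Agent.Lib.Helper60.LocalCohTorsion
import Groth.Agent.S11614
import Groth.Agent.S0327
import Groth.Prelude.Def_FEt
import Mathlib

set_option autoImplicit false
universe u
open CategoryTheory AlgebraicGeometry Opposite

namespace Groth.Agent.Lib.Helper64.PuncturedAffine

open Groth.Agent.Lib.Helper60

section algebra
variable {A : Type u} [CommRing A] [IsNoetherianRing A]

/-- elementwise power torsion w.r.t. a (finitely generated) ideal gives power torsion -/
lemma exists_pow_forall_smul_eq_zero (I : Ideal A) {M : Type*} [AddCommGroup M] [Module A M] (x : M)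
    (h : ∀ f ∈ I, ∃ n : ℕ, f ^ n • x = 0) : ∃ n : ℕ, ∀ a ∈ I ^ n, a • x = 0 := by
  have h1 : I ≤ (Module.annihilator A (Submodule.span A {x})).radical := by
    intro a ha
    obtain ⟨n, hn⟩ := h a ha
    exact ⟨n, (Submodule.mem_annihilator_span_singleton _ _).mpr hn⟩
  obtain ⟨n, hn⟩ := Ideal.exists_pow_le_of_le_radical_of_fg h1 (IsNoetherian.noetherian I)
  exact ⟨n, fun a ha => (Submodule.mem_annihilator_span_singleton _ _).mp (hn ha)⟩

lemma lc_top_subsingleton {B : Type u} [CommRing B] (i : ℕ) (N : ModuleCat.{u} B) :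
    Subsingleton ((localCohomology (⊤ : Ideal B) i).obj N) := by
  refine ⟨fun y z => ?_⟩
  have h : ∀ y : (localCohomology (⊤ : Ideal B) i).obj N, y = 0 := by
    intro y
    obtain ⟨n, hn⟩ := lc_isPowerTorsion (⊤ : Ideal B) i N y
    have := hn 1 (by rw [Ideal.top_pow]; exact Submodule.mem_top)
    simpa using this
  rw [h y, h z]

theorem lc_subsingleton_of_algebra [IsLocalRing A] (B : Type u) [CommRing B] [IsNoetherianRing B]
    [Algebra A B]
    (htop : Ideal.map (algebraMap A B) (IsLocalRing.maximalIdeal A) = ⊤)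
    (hker : ∀ f ∈ IsLocalRing.maximalIdeal A, ∀ x : A, algebraMap A B x = 0 →
      ∃ n : ℕ, f ^ n * x = 0)
    (hcok : ∀ f ∈ IsLocalRing.maximalIdeal A, ∀ b : B, ∃ (n : ℕ) (a : A),
      algebraMap A B f ^ n * b = algebraMap A B a) (i : ℕ) (hi : 2 ≤ i) :
    Subsingleton ((localCohomology (IsLocalRing.maximalIdeal A) i).obj (ModuleCat.of A A)) := by
  let φ : A →ₗ[A] B := Algebra.linearMap A B
  let K : Submodule A A := LinearMap.ker φ
  let ι : (A ⧸ K) →ₗ[A] B := K.liftQ φ le_rfl
  have hι : Function.Injective ι := by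
    rw [← LinearMap.ker_eq_bot]
    exact Submodule.ker_liftQ_eq_bot _ _ _ le_rfl
  have hS₁ := sesOfSubmodule_shortExact K
  have hS₂ := sesOfInjective_shortExact ι hι
  -- torsion claims
  have hK : ∀ x : (sesOfSubmodule K).X₁, ∃ n : ℕ,
      ∀ a ∈ IsLocalRing.maximalIdeal A ^ n, a • x = 0 := by
    intro x
    apply exists_pow_forall_smul_eq_zero
    intro f hf
    have hx : algebraMap A B (x : K).1 = 0 := (x : K).2
    obtain ⟨n, hn⟩ := hker f hf _ hx
    refine ⟨n, ?_⟩
    apply Subtype.ext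
    exact hn
  have hC : ∀ x : B ⧸ LinearMap.range ι, ∃ n : ℕ,
      ∀ a ∈ IsLocalRing.maximalIdeal A ^ n, a • x = 0 := by
    intro x
    apply exists_pow_forall_smul_eq_zero
    intro f hf
    obtain ⟨b, rfl⟩ := (LinearMap.range ι).mkQ_surjective x
    obtain ⟨n, a, hna⟩ := hcok f hf b
    refine ⟨n, ?_⟩
    rw [← map_smul, Submodule.mkQ_apply, Submodule.Quotient.mk_eq_zero]
    refine ⟨Submodule.Quotient.mk a, ?_⟩
    rw [Algebra.smul_def, map_pow, hna]
    rfl
  have h1 := lc_subsingleton_of_torsion (IsLocalRing.maximalIdeal A) i (by omega) _ hK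
  obtain ⟨j, rfl⟩ : ∃ j, i = j + 1 := ⟨i - 1, by omega⟩
  have h2 := lc_subsingleton_of_torsion (IsLocalRing.maximalIdeal A) j (by omega)
    (sesOfInjective ι).X₃ hC
  -- vanishing for B
  have hB : Subsingleton ((localCohomology (IsLocalRing.maximalIdeal A) (j + 1)).obj
      (ModuleCat.of A B)) := by
    obtain ⟨e, -⟩ := Groth.Agent.S11614.result A B (IsLocalRing.maximalIdeal A) B (j + 1)
    have : Subsingleton (LocCoh.H (Ideal.map (algebraMap A B) (IsLocalRing.maximalIdeal A))
        (j + 1) B) := by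
      rw [htop]
      exact lc_top_subsingleton _ _
    exact e.symm.toEquiv.subsingleton
  refine ⟨fun y z => ?_⟩
  have h : ∀ y : (localCohomology (IsLocalRing.maximalIdeal A) (j + 1)).obj (ModuleCat.of A A),
      y = 0 := by
    intro y
    -- image in H(A/K)
    have hy1 : ((localCohomology (IsLocalRing.maximalIdeal A) (j + 1)).map
        (sesOfSubmodule K).g).hom y = 0 := by
      obtain ⟨y₃, hy₃⟩ := lc_exact₁ (IsLocalRing.maximalIdeal A) hS₂ j
        (((localCohomology (IsLocalRing.maximalIdeal A) (j + 1)).map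
        (sesOfSubmodule K).g).hom y) (@Subsingleton.elim _ hB _ _)
      rw [← hy₃, Subsingleton.elim y₃ 0, map_zero]
      rfl
    obtain ⟨y₁, rfl⟩ := lc_exact₂ (IsLocalRing.maximalIdeal A) hS₁ (j + 1) y hy1
    rw [Subsingleton.elim y₁ 0, map_zero]
    rfl
  rw [h y, h z]

theorem ringKrullDim_le_one_of_algebra [IsLocalRing A] (B : Type u) [CommRing B]
    [IsNoetherianRing B] [Algebra A B]
    (htop : Ideal.map (algebraMap A B) (IsLocalRing.maximalIdeal A) = ⊤)
    (hker : ∀ f ∈ IsLocalRing.maximalIdeal A, ∀ x : A, algebraMap A B x = 0 →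
      ∃ n : ℕ, f ^ n * x = 0)
    (hcok : ∀ f ∈ IsLocalRing.maximalIdeal A, ∀ b : B, ∃ (n : ℕ) (a : A),
      algebraMap A B f ^ n * b = algebraMap A B a) :
    ringKrullDim A ≤ 1 := by
  by_contra hlt
  obtain ⟨d, hd⟩ : ∃ d : ℕ, ringKrullDim A = d := by
    have h1 : ringKrullDim A ≠ ⊥ := ringKrullDim_ne_bot
    have h2 : ringKrullDim A ≠ ⊤ := ringKrullDim_ne_top
    obtain ⟨x, hx⟩ := WithBot.ne_bot_iff_exists.mp h1
    have hx' : x ≠ ⊤ := by
      rintro rfl
      exact h2 hx.symm
    obtain ⟨d, rfl⟩ := ENat.ne_top_iff_exists.mp hx'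
    exact ⟨d, hx.symm⟩
  have hd2 : 2 ≤ d := by
    by_contra h
    apply hlt
    rw [hd]
    have : d ≤ 1 := by omega
    exact_mod_cast this
  have h1 := Groth.Agent.S0327.result A d hd
  have h2 := lc_subsingleton_of_algebra B htop hker hcok d hd2
  exact not_subsingleton _ h2

end algebra

section scheme

variable (A : Type u) [CommRing A]

/-- restriction ring hom `A → Γ(Spec A, U)` -/
noncomputable def resHom (U : (Spec (CommRingCat.of A)).Opens) :
    A →+* Γ(Spec (CommRingCat.of A), U) :=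
  ((Spec (CommRingCat.of A)).presheaf.map (homOfLE (le_top : U ≤ ⊤)).op).hom.comp
    (Scheme.ΓSpecIso (CommRingCat.of A)).inv.hom

variable {A}

lemma resHom_apply (U : (Spec (CommRingCat.of A)).Opens) (a : A) :
    resHom A U a = ((Scheme.ΓSpecIso (CommRingCat.of A)).inv a) |_ U := rfl

lemma basicOpen_resHom (U : (Spec (CommRingCat.of A)).Opens) (a : A) :
    (Spec (CommRingCat.of A)).basicOpen (resHom A U a) = U ⊓ PrimeSpectrum.basicOpen a := by
  rw [resHom_apply]
  erw [Scheme.basicOpen_res]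
  rw [basicOpen_eq_of_affine]

variable [IsLocalRing A]

lemma basicOpen_le_puncturedSpec (a : A) (ha : a ∈ IsLocalRing.maximalIdeal A) :
    (PrimeSpectrum.basicOpen a : (Spec (CommRingCat.of A)).Opens) ≤ FEt.puncturedSpec A := by
  intro p hp
  show p ∈ ({IsLocalRing.closedPoint A}ᶜ : Set (PrimeSpectrum A))
  rw [Set.mem_compl_iff, Set.mem_singleton_iff]
  rintro rfl
  exact hp ha


/-- restriction as a ring hom -/
noncomputable def rr {X : Scheme.{u}} {V W : X.Opens} (h : V ≤ W) : Γ(X, W) →+* Γ(X, V) :=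
  (X.presheaf.map (homOfLE h).op).hom

lemma rr_apply {X : Scheme.{u}} {V W : X.Opens} (h : V ≤ W) (x : Γ(X, W)) :
    rr h x = TopCat.Presheaf.restrictOpen x V h := rfl

lemma rr_rr {X : Scheme.{u}} {V W Z : X.Opens} (h₁ : V ≤ W) (h₂ : W ≤ Z) (x : Γ(X, Z)) :
    rr h₁ (rr h₂ x) = rr (h₁.trans h₂) x := by
  rw [rr_apply, rr_apply, rr_apply]
  exact TopCat.Presheaf.restrict_restrict h₁ h₂ x

omit [IsLocalRing A] in
lemma resHom_eq_rr (U : (Spec (CommRingCat.of A)).Opens) (a : A) :
    resHom A U a = rr (le_top : U ≤ ⊤) ((Scheme.ΓSpecIso (CommRingCat.of A)).inv a) := rfl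

theorem ringKrullDim_le_one_of_isAffineOpen [IsNoetherianRing A]
    (hU : IsAffineOpen (FEt.puncturedSpec A)) : ringKrullDim A ≤ 1 := by
  let X := Spec (CommRingCat.of A)
  let U : X.Opens := FEt.puncturedSpec A
  let _ : Algebra A Γ(X, U) := (resHom A U).toAlgebra
  have : IsNoetherianRing (CommRingCat.of A) := ‹IsNoetherianRing A›
  have : IsNoetherianRing Γ(X, U) := IsLocallyNoetherian.component_noetherian ⟨U, hU⟩
  have hD : ∀ a ∈ IsLocalRing.maximalIdeal A,
      X.basicOpen (resHom A U a) = PrimeSpectrum.basicOpen a := by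
    intro a ha
    rw [basicOpen_resHom]
    exact inf_eq_right.mpr (basicOpen_le_puncturedSpec a ha)
  have hinj : Function.Injective (Scheme.ΓSpecIso (CommRingCat.of A)).inv.hom :=
    (ConcreteCategory.bijective_of_isIso (Scheme.ΓSpecIso (CommRingCat.of A)).inv).1
  have hsurj : Function.Surjective (Scheme.ΓSpecIso (CommRingCat.of A)).inv.hom :=
    (ConcreteCategory.bijective_of_isIso (Scheme.ΓSpecIso (CommRingCat.of A)).inv).2
  apply ringKrullDim_le_one_of_algebra Γ(X, U)
  · -- the maximal ideal generates the unit ideal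
    show Ideal.map (resHom A U) (IsLocalRing.maximalIdeal A) = ⊤
    rw [Ideal.map, ← hU.self_le_iSup_basicOpen_iff]
    intro p hp
    have hp' : p ≠ IsLocalRing.closedPoint A := hp
    obtain ⟨a, ha, hap⟩ : ∃ a ∈ IsLocalRing.maximalIdeal A, a ∉ p.asIdeal := by
      by_contra hcon
      push Not at hcon
      apply hp'
      apply PrimeSpectrum.ext
      exact le_antisymm (IsLocalRing.le_maximalIdeal p.2.ne_top) hcon
    rw [TopologicalSpace.Opens.mem_iSup]
    refine ⟨⟨resHom A U a, a, ha, rfl⟩, ?_⟩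
    show p ∈ X.basicOpen (resHom A U a)
    rw [hD a ha]
    exact hap
  · -- kernel is torsion
    intro f hf x hx
    have hx' : resHom A U x = 0 := hx
    have hle : X.basicOpen ((Scheme.ΓSpecIso (CommRingCat.of A)).inv f) ≤ U := by
      rw [basicOpen_eq_of_affine]
      exact basicOpen_le_puncturedSpec f hf
    have H : rr (X.basicOpen_le ((Scheme.ΓSpecIso (CommRingCat.of A)).inv f))
        ((Scheme.ΓSpecIso (CommRingCat.of A)).inv x) = 0 := by
      rw [← rr_rr hle le_top, ← resHom_eq_rr, hx', map_zero]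
    obtain ⟨n, hn⟩ := exists_pow_mul_eq_zero_of_res_basicOpen_eq_zero_of_isAffineOpen X
      (isAffineOpen_top X) _ _ H
    refine ⟨n, hinj ?_⟩
    rw [map_mul, map_pow, map_zero]
    exact hn
  · -- cokernel is torsion
    intro f hf b
    have hle : X.basicOpen ((Scheme.ΓSpecIso (CommRingCat.of A)).inv f) ≤ U := by
      rw [basicOpen_eq_of_affine]
      exact basicOpen_le_puncturedSpec f hf
    obtain ⟨n, y, hy⟩ := exists_eq_pow_mul_of_isAffineOpen X ⊤ (isAffineOpen_top X)
      ((Scheme.ΓSpecIso (CommRingCat.of A)).inv f) (rr hle b)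
    obtain ⟨a, rfl⟩ := hsurj y
    have hy' : rr (X.basicOpen_le ((Scheme.ΓSpecIso (CommRingCat.of A)).inv f))
        ((Scheme.ΓSpecIso (CommRingCat.of A)).inv a) =
        (rr (X.basicOpen_le ((Scheme.ΓSpecIso (CommRingCat.of A)).inv f))
          ((Scheme.ΓSpecIso (CommRingCat.of A)).inv f)) ^ n * rr hle b := hy
    have hle2 : X.basicOpen (resHom A U f) ≤
        X.basicOpen ((Scheme.ΓSpecIso (CommRingCat.of A)).inv f) := by
      rw [hD f hf, basicOpen_eq_of_affine]
    have H : rr (X.basicOpen_le (resHom A U f)) ((resHom A U f) ^ n * b - resHom A U a) = 0 := by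
      rw [← rr_rr hle2 hle]
      have : rr hle ((resHom A U f) ^ n * b - resHom A U a) = 0 := by
        rw [map_sub, map_mul, map_pow, resHom_eq_rr, resHom_eq_rr, rr_rr, rr_rr, hy', sub_self]
      rw [this, map_zero]
    obtain ⟨k, hk⟩ := exists_pow_mul_eq_zero_of_res_basicOpen_eq_zero_of_isAffineOpen X hU _ _ H
    refine ⟨k + n, f ^ k * a, ?_⟩
    show (resHom A U f) ^ (k + n) * b = resHom A U (f ^ k * a)
    rw [mul_sub, sub_eq_zero] at hk
    rw [map_mul, map_pow, pow_add, mul_assoc, hk]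

theorem isAffineOpen_puncturedSpec_of_ringKrullDim_le_one [IsNoetherianRing A]
    (hdim : ringKrullDim A ≤ 1) : IsAffineOpen (FEt.puncturedSpec A) := by
  by_cases hmin : IsLocalRing.maximalIdeal A ∈ minimalPrimes A
  · -- dimension zero: the punctured spectrum is empty
    have : FEt.puncturedSpec A = ⊥ := by
      ext p
      simp only [TopologicalSpace.Opens.coe_bot, Set.mem_empty_iff_false, iff_false]
      intro hp
      apply (show p ≠ IsLocalRing.closedPoint A from hp)
      apply PrimeSpectrum.ext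
      have hle : p.asIdeal ≤ IsLocalRing.maximalIdeal A := IsLocalRing.le_maximalIdeal p.2.ne_top
      exact le_antisymm hle (hmin.2 ⟨p.2, bot_le⟩ hle)
    rw [this]
    exact isAffineOpen_bot _
  · -- dimension one
    have hfin : (minimalPrimes A).Finite := minimalPrimes.finite_of_isNoetherianRing A
    obtain ⟨f, hf, hfq⟩ : ∃ f ∈ IsLocalRing.maximalIdeal A, ∀ q ∈ minimalPrimes A, f ∉ q := by
      by_contra hcon
      push Not at hcon
      have hsub : (IsLocalRing.maximalIdeal A : Set A) ⊆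
          ⋃ q ∈ (hfin.toFinset : Set (Ideal A)), (q : Set A) := by
        intro x hx
        obtain ⟨q, hq, hxq⟩ := hcon x hx
        exact Set.mem_biUnion (Finset.mem_coe.mpr (hfin.mem_toFinset.mpr hq)) hxq
      rw [Ideal.subset_union_prime (R := A) (s := hfin.toFinset) (f := fun q => q)
        (IsLocalRing.maximalIdeal A) (IsLocalRing.maximalIdeal A)
        (fun q hq _ _ => ((hfin.mem_toFinset.mp hq).1.1))] at hsub
      obtain ⟨q, hq, hle⟩ := hsub
      have hq' := hfin.mem_toFinset.mp hq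
      have : q = IsLocalRing.maximalIdeal A :=
        le_antisymm (IsLocalRing.le_maximalIdeal hq'.1.1.ne_top) hle
      exact hmin (this ▸ hq')
    have : FEt.puncturedSpec A = (Spec (CommRingCat.of A)).basicOpen
        ((Scheme.ΓSpecIso (CommRingCat.of A)).inv f) := by
      rw [basicOpen_eq_of_affine]
      apply le_antisymm _ (basicOpen_le_puncturedSpec f hf)
      intro p hp
      show f ∉ p.asIdeal
      intro hfp
      have hp' : p ≠ IsLocalRing.closedPoint A := hp
      obtain ⟨q, hq, hqp⟩ := Ideal.exists_minimalPrimes_le (bot_le : (⊥ : Ideal A) ≤ p.asIdeal)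
      have := hq.1.1
      have := p.2
      have hqp' : q < p.asIdeal := lt_of_le_of_ne hqp (fun h => hfq q hq (h ▸ hfp))
      have hpm : p.asIdeal < IsLocalRing.maximalIdeal A :=
        lt_of_le_of_ne (IsLocalRing.le_maximalIdeal p.2.ne_top)
          (fun h => hp' (PrimeSpectrum.ext h))
      have h1 := Ideal.height_add_one_le_of_lt_of_isPrime hqp'
      have h2 := Ideal.height_add_one_le_of_lt_of_isPrime hpm
      have h3 : (IsLocalRing.maximalIdeal A).height ≤ ringKrullDim A :=
        Ideal.height_le_ringKrullDim_of_isPrime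
      have h4 : (2 : ℕ∞) ≤ (IsLocalRing.maximalIdeal A).height := by
        calc (2 : ℕ∞) = 0 + 1 + 1 := by norm_num
          _ ≤ q.height + 1 + 1 := by gcongr; simp
          _ ≤ p.asIdeal.height + 1 := by gcongr
          _ ≤ _ := h2
      have h5 : ((2 : ℕ∞) : WithBot ℕ∞) ≤ 1 := (WithBot.coe_le_coe.mpr h4).trans (h3.trans hdim)
      have h6 : (2 : ℕ∞) ≤ 1 := by exact_mod_cast h5
      exact absurd h6 (by norm_num)
    rw [this]
    exact (isAffineOpen_top _).basicOpen _

end scheme

end Groth.Agent.Lib.Helper64.PuncturedAffine
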