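import Mathlib
import Groth.Prelude.Def_W4c4chowquasisplitPn
import Groth.Agent.Lib.Helper27.QsChow1

/-!
# The kernel of `QsChow.phi n` (helper64), part 1: the relations lie in the kernel
-/

set_option autoImplicit false

open MvPolynomial QsChow
open Groth.Agent.Lib.Helper27.QsChowLib

namespace Groth.Agent.Lib.Helper64.QsKer

section char2
variable {R : Type*} [CommRing R] [Algebra (ZMod 2) R]

theorem two_eq_zero' : (2 : R) = 0 := by
  have h : (2 : R) = algebraMap (ZMod 2) R 2 := (map_ofNat (algebraMap (ZMod 2) R) 2).symm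
  rw [h]
  have h2 : (2 : ZMod 2) = 0 := by decide
  rw [h2, map_zero]

theorem add_self' (x : R) : x + x = 0 := by
  have := two_eq_zero' (R := R)
  linear_combination x * this

theorem add_sq' (u v : R) : (u + v) ^ 2 = u ^ 2 + v ^ 2 := by
  have := two_eq_zero' (R := R)
  linear_combination u * v * this

theorem add_pow_two_pow (u v : R) (k : ℕ) : (u + v) ^ (2 ^ k) = u ^ (2 ^ k) + v ^ (2 ^ k) := by
  induction k with
  | zero => simp
  | succ k ih => rw [pow_succ, pow_mul, ih, add_sq', ← pow_mul, ← pow_mul]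

theorem sum_sq' {ι : Type*} (s : Finset ι) (f : ι → R) :
    (∑ i ∈ s, f i) ^ 2 = ∑ i ∈ s, (f i) ^ 2 := by
  classical
  induction s using Finset.induction_on with
  | empty => simp
  | insert a s ha ih => rw [Finset.sum_insert ha, Finset.sum_insert ha, add_sq', ih]

/-- In characteristic 2: `y^(2^k) = Σ_{t<k} a^(2^k-2^(t+1)) (y²+ay)^(2^t) + a^(2^k-1) y`. -/
theorem key_identity (a y : R) (k : ℕ) :
    y ^ (2 ^ k) = ∑ t ∈ Finset.range k, a ^ (2 ^ k - 2 ^ (t + 1)) * (y ^ 2 + a * y) ^ (2 ^ t)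
      + a ^ (2 ^ k - 1) * y := by
  induction k with
  | zero => simp
  | succ k ih =>
    have h2 := two_eq_zero' (R := R)
    obtain ⟨m, hm⟩ : ∃ m, 2 ^ (k + 1) = m + 2 := by
      refine ⟨2 ^ (k + 1) - 2, ?_⟩
      have : 2 ≤ 2 ^ (k + 1) := by
        calc 2 = 2 ^ 1 := by norm_num
          _ ≤ 2 ^ (k + 1) := Nat.pow_le_pow_right (by norm_num) (by omega)
      omega
    rw [pow_succ 2 k, pow_mul, ih, add_sq', sum_sq', Finset.sum_range_succ']
    have e1 : ∀ t ∈ Finset.range k,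
        (a ^ (2 ^ k - 2 ^ (t + 1)) * (y ^ 2 + a * y) ^ (2 ^ t)) ^ 2 =
        a ^ (2 ^ k * 2 - 2 ^ (t + 1 + 1)) * (y ^ 2 + a * y) ^ (2 ^ (t + 1)) := by
      intro t _
      rw [mul_pow, ← pow_mul, ← pow_mul, pow_succ 2 (t + 1), Nat.sub_mul, pow_succ 2 t]
    rw [Finset.sum_congr rfl e1]
    have hm' : 2 ^ k * 2 = m + 2 := by rw [← pow_succ]; exact hm
    have e2 : 2 ^ k * 2 - 2 ^ (0 + 1) = m := by rw [hm']; norm_num
    have e3 : 2 ^ k * 2 - 1 = m + 1 := by rw [hm']; omega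
    have e4 : (2 ^ k - 1) * 2 = m := by omega
    rw [e2, e3, mul_pow, ← pow_mul, e4]
    have : a ^ (m + 1) = a ^ m * a := pow_succ a m
    rw [this]
    linear_combination (-(a ^ m * a * y)) * h2

end char2

variable (n : ℕ)

theorem evar_succ (i : Fin (numVars n)) : evar n (i.val + 1) = X (some i) := by
  unfold evar
  rw [dif_pos ⟨by omega, by have := i.isLt; omega⟩]
  congr 2

theorem phi_X (v : Option (Fin (numVars n))) : phi n (X v) = genImage n v := by
  unfold phi; rw [aeval_X]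

theorem evar_one (hn : 2 ≤ n) : evar n 1 = X (some (i0 n hn)) := evar_succ n (i0 n hn)

theorem evar_two (hn : 2 ≤ n) : evar n 2 = X (some (i1 n hn)) := evar_succ n (i1 n hn)

theorem phi_evar_one (hn : 2 ≤ n) : phi n (evar n 1) = eps n 1 := by
  rw [evar_one n hn, phi_X, genImage_some, if_pos (show (i0 n hn).val = 0 from rfl)]

theorem phi_evar_two (hn : 2 ≤ n) : phi n (evar n 2) = eps n 2 ^ 2 + eps n 1 * eps n 2 := by
  rw [evar_two n hn, phi_X, genImage_some, if_neg (by simp [i1]), if_pos (by simp [i1])]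

theorem phi_xvar : phi n (xvar n) = eps n 1 ^ (n - 1) * eps n 2 := by
  unfold xvar; rw [phi_X]; rfl

theorem phi_evar_ge_three (j : ℕ) (h3 : 3 ≤ j) (hj : j ≤ numVars n) :
    phi n (evar n j) = eps n j + eps n 1 ^ (2 * j - 4) * eps n 2 := by
  obtain ⟨i, rfl⟩ : ∃ i : Fin (numVars n), j = i.val + 1 := ⟨⟨j - 1, by omega⟩, by simp; omega⟩
  rw [evar_succ, phi_X, genImage_some, if_neg (by omega), if_neg (by omega)]

/-- `(2j-3)·2^(k_j) ≥ n` for `2 ≤ j ≤ s`. -/
theorem klog_spec (hn : 2 ≤ n) (j : ℕ) (h2 : 2 ≤ j) (hj : j ≤ numVars n) :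
    n ≤ (2 * j - 3) * 2 ^ klog n j := by
  unfold klog
  unfold numVars at hj
  set q := (2 * n - 1) / (2 * j - 3) with hq
  have hpos : 0 < 2 * j - 3 := by omega
  have h1 : q < 2 ^ (Nat.log 2 q + 1) := Nat.lt_pow_succ_log_self (by norm_num) q
  rw [hq, Nat.div_lt_iff_lt_mul hpos] at h1
  rw [pow_succ] at h1
  have : 2 * n - 1 < 2 ^ Nat.log 2 q * 2 * (2 * j - 3) := h1
  have h3 : 2 ^ Nat.log 2 q * 2 * (2 * j - 3) = 2 * ((2 * j - 3) * 2 ^ Nat.log 2 q) := by ring
  rw [h3] at this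
  omega

theorem klog_two_pos (hn : 2 ≤ n) : 1 ≤ klog n 2 := by
  unfold klog
  have : (2 * n - 1) / (2 * 2 - 3) = 2 * n - 1 := by norm_num
  rw [this]
  exact Nat.le_log_of_pow_le (by norm_num) (by omega)

theorem klog_two_spec (hn : 2 ≤ n) : n ≤ 2 ^ klog n 2 := by
  have := klog_spec n hn 2 le_rfl (numVars_ge n hn)
  simpa using this

theorem eps_pow_bound (j : ℕ) (h2 : 2 ≤ j) (hj : j ≤ numVars n) :
    eps n j ^ (2 ^ klog n j) = 0 := by
  obtain ⟨i, rfl⟩ : ∃ i : Fin (numVars n), j = i.val + 1 := ⟨⟨j - 1, by omega⟩, by simp; omega⟩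
  rw [eps_succ, ← map_pow, Ideal.Quotient.eq_zero_iff_mem]
  apply Ideal.subset_span
  refine ⟨i, ?_⟩
  have : i.val ≠ 0 := by omega
  simp [bound, this]

theorem eps_one_pow_of_le (hn : 2 ≤ n) {m : ℕ} (hm : n ≤ m) : eps n 1 ^ m = 0 := by
  obtain ⟨c, rfl⟩ := Nat.exists_eq_add_of_le hm
  rw [pow_add, eps_one_pow n hn, zero_mul]

/-- `φ(S_j) = Σ_t ε₁^(2^K-2^(t+1)) ē₂^(2^t)`. -/
theorem phi_sPoly (hn : 2 ≤ n) (j : ℕ) :
    phi n (sPoly n j) = ∑ t ∈ Finset.range (klog n j),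
      eps n 1 ^ (2 ^ klog n j - 2 ^ (t + 1)) * (eps n 2 ^ 2 + eps n 1 * eps n 2) ^ 2 ^ t := by
  unfold sPoly
  rw [map_sum]
  refine Finset.sum_congr rfl fun t _ => ?_
  rw [map_mul, map_pow, map_pow, phi_evar_one n hn, phi_evar_two n hn]

theorem phi_hrel_two (hn : 2 ≤ n) : phi n (hrel n 2) = 0 := by
  unfold hrel
  rw [if_pos rfl, map_add, map_mul, map_pow, phi_evar_one n hn, phi_xvar, phi_sPoly n hn]
  have hk := klog_two_spec n hn
  have key := key_identity (eps n 1) (eps n 2) (klog n 2)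
  have h0 := eps_pow_bound n 2 le_rfl (numVars_ge n hn)
  rw [h0] at key
  have e : eps n 1 ^ (2 ^ klog n 2 - n) * (eps n 1 ^ (n - 1) * eps n 2) =
      eps n 1 ^ (2 ^ klog n 2 - 1) * eps n 2 := by
    rw [← mul_assoc, ← pow_add]
    congr 2
    omega
  rw [e, add_comm]
  exact key.symm

theorem phi_hrel_ge_three (hn : 2 ≤ n) (j : ℕ) (h3 : 3 ≤ j) (hj : j ≤ numVars n) :
    phi n (hrel n j) = 0 := by
  unfold hrel
  rw [if_neg (by omega), if_pos ⟨h3, hj⟩, map_add, map_add, map_mul, map_mul, map_pow, map_pow,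
    map_pow, phi_evar_one n hn, phi_xvar, phi_sPoly n hn, phi_evar_ge_three n j h3 hj]
  have hk := klog_spec n hn j (by omega) hj
  have key := key_identity (eps n 1) (eps n 2) (klog n j)
  have h0 := eps_pow_bound n j (by omega) hj
  rw [add_pow_two_pow, h0, zero_add, mul_pow, ← pow_mul, key]
  set S := ∑ t ∈ Finset.range (klog n j),
      eps n 1 ^ (2 ^ klog n j - 2 ^ (t + 1)) * (eps n 2 ^ 2 + eps n 1 * eps n 2) ^ 2 ^ t with hS
  have hpow : 1 ≤ 2 ^ klog n j := Nat.one_le_two_pow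
  have e1 : eps n 1 ^ ((2 * j - 3) * 2 ^ klog n j - n) * (eps n 1 ^ (n - 1) * eps n 2) =
      eps n 1 ^ ((2 * j - 3) * 2 ^ klog n j - 1) * eps n 2 := by
    rw [← mul_assoc, ← pow_add]
    congr 2
    omega
  have e2 : eps n 1 ^ ((2 * j - 4) * 2 ^ klog n j) * (S + eps n 1 ^ (2 ^ klog n j - 1) * eps n 2) =
      eps n 1 ^ ((2 * j - 4) * 2 ^ klog n j) * S +
        eps n 1 ^ ((2 * j - 3) * 2 ^ klog n j - 1) * eps n 2 := by
    rw [mul_add, ← mul_assoc, ← pow_add]
    congr 3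
    have : 2 * j - 3 = (2 * j - 4) + 1 := by omega
    rw [this, add_mul, one_mul]
    omega
  rw [e1, e2]
  have a1 := add_self' (eps n 1 ^ ((2 * j - 4) * 2 ^ klog n j) * S)
  have a2 := add_self' (eps n 1 ^ ((2 * j - 3) * 2 ^ klog n j - 1) * eps n 2)
  linear_combination a1 + a2

theorem hrel_one : hrel n 1 = 0 := by
  unfold hrel
  rw [if_neg (by omega), if_neg (by omega)]

/-- All generators of `presIdeal n` lie in the kernel of `phi n`. -/
theorem presIdeal_le_ker (hn : 2 ≤ n) : presIdeal n ≤ RingHom.ker (phi n) := by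
  unfold presIdeal
  rw [Ideal.span_le]
  rintro f (hf | ⟨i, rfl⟩)
  · rcases hf with rfl | rfl | rfl
    · change phi n _ = 0
      rw [map_pow, phi_evar_one n hn, eps_one_pow n hn]
    · change phi n _ = 0
      rw [map_mul, phi_evar_one n hn, phi_xvar, ← mul_assoc, ← pow_succ']
      have : n - 1 + 1 = n := by omega
      rw [this, eps_one_pow n hn, zero_mul]
    · change phi n _ = 0
      rw [map_pow, phi_xvar, mul_pow, ← pow_mul, eps_one_pow_of_le n hn (by omega : n ≤ (n - 1) * 2),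
        zero_mul]
  · change phi n (hrel n (i.val + 1)) = 0
    by_cases h0 : i.val = 0
    · rw [h0]; simp [hrel_one]
    by_cases h1 : i.val = 1
    · rw [h1]; exact phi_hrel_two n hn
    · exact phi_hrel_ge_three n hn _ (by omega) (by have := i.isLt; omega)

end Groth.Agent.Lib.Helper64.QsKer
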