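import Mathlib
import Groth.Prelude.Def_W4c4chowquasisplitPn
import Groth.Agent.Lib.Helper27.QsChow1
import Groth.Agent.Lib.Helper64.QsKer1

/-!
# The kernel of `QsChow.phi n` (helper64), part 2: reduction to normal forms
-/

set_option autoImplicit false

open MvPolynomial QsChow
open Groth.Agent.Lib.Helper27.QsChowLib

namespace Groth.Agent.Lib.Helper64.QsKer

variable (n : ℕ)

/-- The bounds on the exponents of normal monomials. -/
def nb (i : Fin (numVars n)) : ℕ :=
  if i.val = 0 then n else if i.val = 1 then 2 ^ (klog n 2 - 1) else 2 ^ klog n (i.val + 1)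

/-- Exponent vectors of `FreeE n`. -/
abbrev Ex : Type := Option (Fin (numVars n)) →₀ ℕ

/-- Normal exponent vectors. -/
def Normal (hn : 2 ≤ n) (a : Ex n) : Prop :=
  (∀ i, a (some i) < nb n i) ∧ a none ≤ 1 ∧ (a none = 1 → a (some (i0 n hn)) = 0)

/-- The degree in `e_2, …, e_s`. -/
def dg (a : Ex n) : ℕ := ∑ i : Fin (numVars n), if i.val = 0 then 0 else a (some i)

theorem dg_add (a b : Ex n) : dg n (a + b) = dg n a + dg n b := by
  unfold dg
  rw [← Finset.sum_add_distrib]
  refine Finset.sum_congr rfl fun i _ => ?_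
  by_cases h : i.val = 0
  · simp [h]
  · simp [h]

theorem dg_single_none (k : ℕ) : dg n (Finsupp.single none k) = 0 := by
  unfold dg
  apply Finset.sum_eq_zero
  intro i _
  by_cases h : i.val = 0
  · simp [h]
  · simp [h]

theorem dg_single_some (i : Fin (numVars n)) (k : ℕ) :
    dg n (Finsupp.single (some i) k) = if i.val = 0 then 0 else k := by
  classical
  unfold dg
  rw [Finset.sum_eq_single i]
  · simp
  · intro b _ hb
    have : (Finsupp.single (some i) k : Ex n) (some b) = 0 := by
      rw [Finsupp.single_apply, if_neg]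
      intro h
      exact hb (Option.some.inj h).symm
    simp [this]
  · intro h; exact absurd (Finset.mem_univ i) h

/-- The span of the normal monomials. -/
noncomputable def Nsp (hn : 2 ≤ n) : Submodule (ZMod 2) (FreeE n) :=
  Submodule.span (ZMod 2) {p | ∃ a : Ex n, Normal n hn a ∧ p = monomial a 1}

/-- The span of the monomials of degree `< D` in `e_2, …, e_s`. -/
noncomputable def Fl (D : ℕ) : Submodule (ZMod 2) (FreeE n) :=
  Submodule.span (ZMod 2) {p | ∃ a : Ex n, dg n a < D ∧ p = monomial a 1}

/-- Normal forms plus relations. -/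
noncomputable def NJ (hn : 2 ≤ n) : Submodule (ZMod 2) (FreeE n) :=
  Nsp n hn ⊔ (presIdeal n).restrictScalars (ZMod 2)

theorem Fl_mono {D D' : ℕ} (h : D ≤ D') : Fl n D ≤ Fl n D' := by
  unfold Fl
  apply Submodule.span_mono
  rintro p ⟨a, ha, rfl⟩
  exact ⟨a, by omega, rfl⟩

theorem monomial_mem_Fl (a : Ex n) {D : ℕ} (h : dg n a < D) :
    (monomial a (1 : ZMod 2) : FreeE n) ∈ Fl n D :=
  Submodule.subset_span ⟨a, h, rfl⟩

theorem mem_NJ_of_mem_ideal (hn : 2 ≤ n) {p : FreeE n} (hp : p ∈ presIdeal n) : p ∈ NJ n hn :=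
  Submodule.mem_sup_right hp

theorem split_monomial (a : Ex n) (v : Option (Fin (numVars n))) (k : ℕ) (h : k ≤ a v) :
    (monomial a (1 : ZMod 2) : FreeE n) = X v ^ k * monomial (a - Finsupp.single v k) 1 := by
  rw [← monomial_single_add, add_tsub_cancel_of_le (Finsupp.single_le_iff.mpr h)]

theorem dg_split (a : Ex n) (v : Option (Fin (numVars n))) (k : ℕ) (h : k ≤ a v) :
    dg n a = dg n (Finsupp.single v k) + dg n (a - Finsupp.single v k) := by
  rw [← dg_add, add_tsub_cancel_of_le (Finsupp.single_le_iff.mpr h)]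

theorem gen1_mem : evar n 1 ^ n ∈ presIdeal n :=
  Ideal.subset_span (Set.mem_union_left _ (by simp))

theorem gen2_mem : evar n 1 * xvar n ∈ presIdeal n :=
  Ideal.subset_span (Set.mem_union_left _ (by simp))

theorem gen3_mem : xvar n ^ 2 ∈ presIdeal n :=
  Ideal.subset_span (Set.mem_union_left _ (by simp))

theorem hrel_mem (i : Fin (numVars n)) : hrel n (i.val + 1) ∈ presIdeal n :=
  Ideal.subset_span (Set.mem_union_right _ ⟨i, rfl⟩)

theorem term_mem_x (hn : 2 ≤ n) (a' : Ex n) (α : ℕ) {D : ℕ} (h : dg n a' < D) :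
    evar n 1 ^ α * xvar n * monomial a' 1 ∈ Fl n D := by
  have e : evar n 1 ^ α * xvar n * monomial a' (1 : ZMod 2) =
      monomial (Finsupp.single (some (i0 n hn)) α + (Finsupp.single none 1 + a')) 1 := by
    rw [monomial_single_add, monomial_single_add, evar_one n hn, pow_one, mul_assoc]
    rfl
  rw [e]
  apply monomial_mem_Fl
  rw [dg_add, dg_add, dg_single_none, dg_single_some, if_pos (show (i0 n hn).val = 0 from rfl)]
  omega

theorem term_mem_e2 (hn : 2 ≤ n) (a' : Ex n) (α β : ℕ) {D : ℕ} (h : dg n a' + β < D) :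
    evar n 1 ^ α * evar n 2 ^ β * monomial a' 1 ∈ Fl n D := by
  have e : evar n 1 ^ α * evar n 2 ^ β * monomial a' (1 : ZMod 2) =
      monomial (Finsupp.single (some (i0 n hn)) α + (Finsupp.single (some (i1 n hn)) β + a')) 1 := by
    rw [monomial_single_add, monomial_single_add, evar_one n hn, evar_two n hn, mul_assoc]
  rw [e]
  apply monomial_mem_Fl
  rw [dg_add, dg_add, dg_single_some, dg_single_some,
    if_pos (show (i0 n hn).val = 0 from rfl), if_neg (show ¬ (i1 n hn).val = 0 by simp [i1])]
  omega

theorem Fl_le_NJ (hn : 2 ≤ n) (D : ℕ) : Fl n D ≤ NJ n hn := by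
  induction D with
  | zero =>
    unfold Fl
    rw [Submodule.span_le]
    rintro p ⟨a, ha, rfl⟩
    omega
  | succ D ih =>
    unfold Fl
    rw [Submodule.span_le]
    rintro p ⟨a, ha, rfl⟩
    by_cases hlt : dg n a < D
    · exact ih (monomial_mem_Fl n a hlt)
    have hD : dg n a = D := by omega
    subst hD
    -- case 1 : x² divides
    by_cases c1 : 2 ≤ a none
    · rw [split_monomial n a none 2 c1]
      exact mem_NJ_of_mem_ideal n hn (Ideal.mul_mem_right _ _ (gen3_mem n))
    -- case 2 : e₁^n divides
    by_cases c2 : n ≤ a (some (i0 n hn))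
    · rw [split_monomial n a (some (i0 n hn)) n c2, ← evar_one n hn]
      exact mem_NJ_of_mem_ideal n hn (Ideal.mul_mem_right _ _ (gen1_mem n))
    -- case 3 : e₁ x divides
    by_cases c3 : a none = 1 ∧ 1 ≤ a (some (i0 n hn))
    · obtain ⟨c3a, c3b⟩ := c3
      rw [split_monomial n a none 1 (by omega)]
      have hb : 1 ≤ (a - Finsupp.single none 1 : Ex n) (some (i0 n hn)) := by
        rw [Finsupp.tsub_apply, Finsupp.single_apply, if_neg (by simp)]
        simpa using c3b
      rw [split_monomial n _ (some (i0 n hn)) 1 hb, ← mul_assoc, pow_one, pow_one,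
        ← evar_one n hn]
      have : (X none : FreeE n) * evar n 1 = evar n 1 * xvar n := by
        unfold xvar; ring
      rw [this]
      exact mem_NJ_of_mem_ideal n hn (Ideal.mul_mem_right _ _ (gen2_mem n))
    -- case 4 : some e_j (j ≥ 2) has a large exponent
    by_cases c4 : ∃ i : Fin (numVars n), i.val ≠ 0 ∧ nb n i ≤ a (some i)
    · obtain ⟨i, hi0, hi⟩ := c4
      have hsplit := split_monomial n a (some i) (nb n i) hi
      have hdg := dg_split n a (some i) (nb n i) hi
      rw [dg_single_some, if_neg hi0] at hdg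
      set a' : Ex n := a - Finsupp.single (some i) (nb n i) with ha'
      by_cases hi1 : i.val = 1
      · -- the variable e₂
        have hk1 := klog_two_pos n hn
        obtain ⟨k', hk'⟩ : ∃ k', klog n 2 = k' + 1 := ⟨klog n 2 - 1, by omega⟩
        have hnb : nb n i = 2 ^ k' := by
          unfold nb
          rw [if_neg hi0, if_pos hi1, hk']
          simp
        have hX : (X (some i) : FreeE n) = evar n 2 := by
          rw [← evar_succ, hi1]
        have hrel2 : hrel n 2 = evar n 1 ^ (2 ^ klog n 2 - n) * xvar n +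
            (∑ t ∈ Finset.range k', evar n 1 ^ (2 ^ klog n 2 - 2 ^ (t + 1)) * evar n 2 ^ 2 ^ t
              + evar n 2 ^ 2 ^ k') := by
          unfold hrel sPoly
          rw [if_pos rfl]
          congr 1
          rw [hk', Finset.sum_range_succ]
          simp
        have hpow : evar n 2 ^ 2 ^ k' = hrel n 2 + (evar n 1 ^ (2 ^ klog n 2 - n) * xvar n +
            ∑ t ∈ Finset.range k', evar n 1 ^ (2 ^ klog n 2 - 2 ^ (t + 1)) * evar n 2 ^ 2 ^ t) := by
          rw [hrel2]
          have a1 := add_self' (evar n 1 ^ (2 ^ klog n 2 - n) * xvar n)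
          have a2 := add_self' (∑ t ∈ Finset.range k',
            evar n 1 ^ (2 ^ klog n 2 - 2 ^ (t + 1)) * evar n 2 ^ 2 ^ t)
          linear_combination (-1 : FreeE n) * a1 - a2
        rw [hsplit, hnb, hX, hpow, add_mul, add_mul, Finset.sum_mul]
        have hh : hrel n 2 ∈ presIdeal n := by
          have := hrel_mem n (i1 n hn)
          simpa [i1] using this
        refine Submodule.add_mem _ (mem_NJ_of_mem_ideal n hn (Ideal.mul_mem_right _ _ hh))
          (Submodule.add_mem _ ?_ (Submodule.sum_mem _ fun t ht => ?_))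
        · apply ih
          apply term_mem_x n hn
          rw [hdg, hnb]
          have : 0 < 2 ^ k' := Nat.two_pow_pos _
          omega
        · apply ih
          apply term_mem_e2 n hn
          rw [hdg, hnb]
          have : 2 ^ t < 2 ^ k' := Nat.pow_lt_pow_right (by norm_num) (Finset.mem_range.mp ht)
          omega
      · -- the variables e_j, j ≥ 3
        have hj3 : 3 ≤ i.val + 1 := by omega
        have hjs : i.val + 1 ≤ numVars n := i.isLt
        set j := i.val + 1 with hj
        have hnb : nb n i = 2 ^ klog n j := by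
          unfold nb
          rw [if_neg hi0, if_neg hi1]
        have hX : (X (some i) : FreeE n) = evar n j := by
          rw [hj, ← evar_succ]
        have hrelj : hrel n j = evar n j ^ 2 ^ klog n j +
            evar n 1 ^ ((2 * j - 3) * 2 ^ klog n j - n) * xvar n +
            evar n 1 ^ ((2 * j - 4) * 2 ^ klog n j) * sPoly n j := by
          unfold hrel
          rw [if_neg (by omega), if_pos ⟨hj3, hjs⟩]
        have hpow : evar n j ^ 2 ^ klog n j = hrel n j +
            (evar n 1 ^ ((2 * j - 3) * 2 ^ klog n j - n) * xvar n +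
            evar n 1 ^ ((2 * j - 4) * 2 ^ klog n j) * sPoly n j) := by
          rw [hrelj]
          have a1 := add_self' (evar n 1 ^ ((2 * j - 3) * 2 ^ klog n j - n) * xvar n)
          have a2 := add_self' (evar n 1 ^ ((2 * j - 4) * 2 ^ klog n j) * sPoly n j)
          linear_combination (-1 : FreeE n) * a1 - a2
        rw [hsplit, hnb, hX, hpow, add_mul, add_mul]
        have hh : hrel n j ∈ presIdeal n := hrel_mem n i
        refine Submodule.add_mem _ (mem_NJ_of_mem_ideal n hn (Ideal.mul_mem_right _ _ hh))
          (Submodule.add_mem _ ?_ ?_)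
        · apply ih
          apply term_mem_x n hn
          rw [hdg, hnb]
          have : 0 < 2 ^ klog n j := Nat.two_pow_pos _
          omega
        · unfold sPoly
          rw [Finset.mul_sum, Finset.sum_mul]
          refine Submodule.sum_mem _ fun t ht => ?_
          apply ih
          have e : evar n 1 ^ ((2 * j - 4) * 2 ^ klog n j) *
              (evar n 1 ^ (2 ^ klog n j - 2 ^ (t + 1)) * evar n 2 ^ 2 ^ t) * monomial a' 1 =
              evar n 1 ^ ((2 * j - 4) * 2 ^ klog n j + (2 ^ klog n j - 2 ^ (t + 1))) *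
                evar n 2 ^ 2 ^ t * monomial a' 1 := by
            rw [pow_add]; ring
          rw [e]
          apply term_mem_e2 n hn
          rw [hdg, hnb]
          have : 2 ^ t < 2 ^ klog n j :=
            Nat.pow_lt_pow_right (by norm_num) (Finset.mem_range.mp ht)
          omega
    · -- normal monomials
      push Not at c4
      apply Submodule.mem_sup_left
      apply Submodule.subset_span
      refine ⟨a, ⟨fun i => ?_, by omega, fun h1 => ?_⟩, rfl⟩
      · by_cases hi0 : i.val = 0
        · have : i = i0 n hn := Fin.ext hi0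
          rw [this]
          unfold nb
          rw [if_pos (show (i0 n hn).val = 0 from rfl)]
          omega
        · exact c4 i hi0
      · by_contra hne
        exact c3 ⟨h1, by omega⟩

theorem NJ_eq_top (hn : 2 ≤ n) : NJ n hn = ⊤ := by
  rw [eq_top_iff]
  intro p _
  rw [p.as_sum]
  refine Submodule.sum_mem _ fun a _ => ?_
  have : (monomial a (coeff a p) : FreeE n) = coeff a p • monomial a 1 := by
    rw [smul_monomial, smul_eq_mul, mul_one]
  rw [this]
  exact Submodule.smul_mem _ _ (Fl_le_NJ n hn (dg n a + 1) (monomial_mem_Fl n a (by omega)))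

end Groth.Agent.Lib.Helper64.QsKer
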