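import Mathlib
import Groth.Prelude.Def_W4c4chowquasisplitPn
import Groth.Agent.Lib.Helper27.QsChow1
import Groth.Agent.Lib.Helper64.QsKer1
import Groth.Agent.Lib.Helper64.QsKer2

/-!
# The kernel of `QsChow.phi n` (helper64), part 3: `phi` is injective on normal forms
-/

set_option autoImplicit false

open MvPolynomial QsChow
open Groth.Agent.Lib.Helper27.QsChowLib

namespace Groth.Agent.Lib.Helper64.QsKer

variable (n : ℕ)

/-- Exponent vectors of `FreeP n`. -/
abbrev Ep : Type := Fin (numVars n) →₀ ℕ

/-- Leading exponents of the images of the variables. -/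
noncomputable def nu (hn : 2 ≤ n) : Option (Fin (numVars n)) → Ep n
  | none => Finsupp.single (i0 n hn) (n - 1) + Finsupp.single (i1 n hn) 1
  | some i => if i.val = 1 then Finsupp.single i 2 else Finsupp.single i 1

theorem nu_none (hn : 2 ≤ n) :
    nu n hn none = Finsupp.single (i0 n hn) (n - 1) + Finsupp.single (i1 n hn) 1 := rfl

theorem nu_some (hn : 2 ≤ n) (i : Fin (numVars n)) :
    nu n hn (some i) = if i.val = 1 then Finsupp.single i 2 else Finsupp.single i 1 := rfl

/-- The monomial algebra map approximating `phi` modulo `ε₁`. -/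
noncomputable def kap (hn : 2 ≤ n) : FreeE n →ₐ[ZMod 2] FreeP n :=
  aeval (fun v => monomial (nu n hn v) 1)

/-- The exponent of `kap (monomial a 1)`. -/
noncomputable def nut (hn : 2 ≤ n) (a : Ex n) : Ep n := ∑ v : Option (Fin (numVars n)), a v • nu n hn v

theorem kap_X (hn : 2 ≤ n) (v : Option (Fin (numVars n))) :
    kap n hn (X v) = monomial (nu n hn v) 1 := by
  unfold kap; rw [aeval_X]

theorem kap_monomial (hn : 2 ≤ n) (a : Ex n) :
    kap n hn (monomial a 1) = monomial (nut n hn a) 1 := by
  unfold kap nut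
  rw [aeval_monomial, map_one, one_mul, Finsupp.prod_fintype _ _ (fun v => pow_zero _),
    monomial_sum_one]
  refine Finset.prod_congr rfl fun v _ => ?_
  rw [monomial_pow, one_pow]

theorem mk_smul (c : ZMod 2) (p : FreeP n) :
    Ideal.Quotient.mk (truncIdeal n) (c • p) = c • Ideal.Quotient.mk (truncIdeal n) p := by
  rw [← Ideal.Quotient.mkₐ_eq_mk (ZMod 2), map_smul]

theorem mk_X (i : Fin (numVars n)) :
    Ideal.Quotient.mk (truncIdeal n) (X i) = eps n (i.val + 1) := (eps_succ n i).symm

theorem mk_kap_X_sub (hn : 2 ≤ n) (v : Option (Fin (numVars n))) :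
    phi n (X v) - Ideal.Quotient.mk (truncIdeal n) (kap n hn (X v)) ∈
      Ideal.span ({eps n 1} : Set (P n)) := by
  rw [kap_X, phi_X]
  cases v with
  | none =>
    have : Ideal.Quotient.mk (truncIdeal n) (monomial (nu n hn none) 1) = genImage n none := by
      rw [nu_none, monomial_single_add, map_mul, map_pow, ← X_pow_eq_monomial, map_pow, pow_one,
        ← eps_one n hn, ← eps_two n hn]
      rfl
    rw [this, sub_self]
    exact Ideal.zero_mem _
  | some i =>
    rw [genImage_some]
    by_cases h0 : i.val = 0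
    · have : Ideal.Quotient.mk (truncIdeal n) (monomial (nu n hn (some i)) 1) = eps n 1 := by
        rw [nu_some, if_neg (by omega), ← X_pow_eq_monomial, pow_one, mk_X, h0]
      rw [if_pos h0, this, sub_self]
      exact Ideal.zero_mem _
    by_cases h1 : i.val = 1
    · have : Ideal.Quotient.mk (truncIdeal n) (monomial (nu n hn (some i)) 1) = eps n 2 ^ 2 := by
        rw [nu_some, if_pos h1, ← X_pow_eq_monomial, map_pow, mk_X, h1]
      rw [if_neg h0, if_pos h1, this, add_sub_cancel_left]
      exact Ideal.mul_mem_right _ _ (Ideal.mem_span_singleton_self _)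
    · have : Ideal.Quotient.mk (truncIdeal n) (monomial (nu n hn (some i)) 1) =
          eps n (i.val + 1) := by
        rw [nu_some, if_neg h1, ← X_pow_eq_monomial, pow_one, mk_X]
      rw [if_neg h0, if_neg h1, this, add_sub_cancel_left]
      obtain ⟨m, hm⟩ : ∃ m, 2 * (i.val + 1) - 4 = m + 1 := ⟨2 * (i.val + 1) - 5, by omega⟩
      rw [hm, pow_succ', mul_assoc]
      exact Ideal.mul_mem_right _ _ (Ideal.mem_span_singleton_self _)

theorem phi_sub_mk_kap (hn : 2 ≤ n) (p : FreeE n) :
    phi n p - Ideal.Quotient.mk (truncIdeal n) (kap n hn p) ∈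
      Ideal.span ({eps n 1} : Set (P n)) := by
  set I : Ideal (P n) := Ideal.span ({eps n 1} : Set (P n)) with hI
  have h : (Ideal.Quotient.mkₐ (ZMod 2) I).comp (phi n) =
      ((Ideal.Quotient.mkₐ (ZMod 2) I).comp (Ideal.Quotient.mkₐ (ZMod 2) (truncIdeal n))).comp
        (kap n hn) := by
    apply MvPolynomial.algHom_ext
    intro v
    simp only [AlgHom.comp_apply, Ideal.Quotient.mkₐ_eq_mk]
    rw [Ideal.Quotient.eq]
    exact mk_kap_X_sub n hn v
  have h2 := DFunLike.congr_fun h p
  simp only [AlgHom.comp_apply, Ideal.Quotient.mkₐ_eq_mk] at h2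
  rwa [Ideal.Quotient.eq] at h2

theorem top_mul_phi (hn : 2 ≤ n) (p : FreeE n) :
    eps n 1 ^ (n - 1) * phi n p =
      eps n 1 ^ (n - 1) * Ideal.Quotient.mk (truncIdeal n) (kap n hn p) := by
  have h := phi_sub_mk_kap n hn p
  rw [Ideal.mem_span_singleton'] at h
  obtain ⟨q, hq⟩ := h
  have : phi n p = Ideal.Quotient.mk (truncIdeal n) (kap n hn p) + q * eps n 1 := by
    rw [hq]; ring
  rw [this, mul_add]
  have e : eps n 1 ^ (n - 1) * (q * eps n 1) = q * eps n 1 ^ (n - 1 + 1) := by
    rw [pow_succ]
    ring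
  rw [e, eps_one_pow_of_le n hn (m := n - 1 + 1) (by omega), mul_zero, add_zero]

theorem mk_kap_X_i0 (hn : 2 ≤ n) :
    Ideal.Quotient.mk (truncIdeal n) (kap n hn (X (some (i0 n hn)))) = eps n 1 := by
  rw [kap_X, nu_some, if_neg (by simp [i0]), ← X_pow_eq_monomial, pow_one, ← eps_one n hn]

theorem mk_kap_X_none (hn : 2 ≤ n) :
    Ideal.Quotient.mk (truncIdeal n) (kap n hn (X none)) = eps n 1 ^ (n - 1) * eps n 2 := by
  rw [kap_X, nu_none, monomial_single_add, map_mul, map_pow, ← X_pow_eq_monomial, map_pow, pow_one,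
    ← eps_one n hn, ← eps_two n hn]

/-- The first key equality: monomials divisible by a high power of `e₁`. -/
theorem key_e1 (hn : 2 ≤ n) (r m : ℕ) (hr : r ≤ n - 1) (hm : r ≤ m) (p : FreeE n) :
    eps n 1 ^ (n - 1 - r) * phi n (X (some (i0 n hn)) ^ m * p) =
      eps n 1 ^ (n - 1 - r) *
        Ideal.Quotient.mk (truncIdeal n) (kap n hn (X (some (i0 n hn)) ^ m * p)) := by
  rw [map_mul, map_mul, map_mul, map_pow, map_pow, map_pow, mk_kap_X_i0, phi_X, genImage_some,
    if_pos (show (i0 n hn).val = 0 from rfl)]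
  have e : ∀ z : P n, eps n 1 ^ (n - 1 - r) * (eps n 1 ^ m * z) =
      eps n 1 ^ (m - r) * (eps n 1 ^ (n - 1) * z) := by
    intro z
    rw [← mul_assoc, ← mul_assoc, ← pow_add, ← pow_add]
    congr 2
    omega
  rw [e, e, top_mul_phi n hn p]

/-- The second key equality: monomials divisible by `x`. -/
theorem key_x (hn : 2 ≤ n) (p : FreeE n) :
    phi n (X none * p) = Ideal.Quotient.mk (truncIdeal n) (kap n hn (X none * p)) := by
  rw [map_mul, map_mul, map_mul, mk_kap_X_none, phi_X]
  have : genImage n none = eps n 1 ^ (n - 1) * eps n 2 := rfl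
  rw [this]
  have e : ∀ z : P n, eps n 1 ^ (n - 1) * eps n 2 * z = eps n 2 * (eps n 1 ^ (n - 1) * z) := by
    intro z; ring
  rw [e, e, top_mul_phi n hn p]

/-- The order of a monomial in `e₁` (with `x` counting `n - 1`). -/
def ord (hn : 2 ≤ n) (a : Ex n) : ℕ := a (some (i0 n hn)) + (n - 1) * a none

/-- The exponent of `ε₁^(n-1-r) · (leading monomial of φ(e^a))`. -/
noncomputable def cexp (hn : 2 ≤ n) (r : ℕ) (a : Ex n) : Ep n :=
  Finsupp.single (i0 n hn) (n - 1 - r) + nut n hn a

theorem key_monomial (hn : 2 ≤ n) (r : ℕ) (hr : r ≤ n - 1) (a : Ex n) (ha : Normal n hn a)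
    (hra : r ≤ ord n hn a) :
    eps n 1 ^ (n - 1 - r) * phi n (monomial a 1) =
      Ideal.Quotient.mk (truncIdeal n) (monomial (cexp n hn r a) 1) := by
  have hgoal : eps n 1 ^ (n - 1 - r) * phi n (monomial a 1) =
      eps n 1 ^ (n - 1 - r) * Ideal.Quotient.mk (truncIdeal n) (kap n hn (monomial a 1)) := by
    obtain ⟨_, h2, h3⟩ := ha
    by_cases hx : a none = 1
    · rw [split_monomial n a none 1 (by omega), pow_one, key_x n hn]
    · have h0 : a none = 0 := by omega
      have hm : r ≤ a (some (i0 n hn)) := by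
        unfold ord at hra
        rw [h0] at hra
        simpa using hra
      rw [split_monomial n a (some (i0 n hn)) (a (some (i0 n hn))) le_rfl]
      exact key_e1 n hn r _ hr hm _
  rw [hgoal, kap_monomial]
  unfold cexp
  rw [monomial_single_add, map_mul, map_pow, ← eps_one n hn]

theorem nut_apply (hn : 2 ≤ n) (a : Ex n) (i : Fin (numVars n)) :
    nut n hn a i = a none * ((if i = i0 n hn then n - 1 else 0) + (if i = i1 n hn then 1 else 0))
      + a (some i) * (if i.val = 1 then 2 else 1) := by
  classical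
  unfold nut
  rw [Finsupp.finsetSum_apply, Fintype.sum_option]
  congr 1
  · rw [nu_none, Finsupp.smul_apply, Finsupp.add_apply, Finsupp.single_apply, Finsupp.single_apply,
      smul_eq_mul]
    congr 3
    · exact propext eq_comm
    · exact propext eq_comm
  · rw [Finset.sum_eq_single i]
    · rw [nu_some, Finsupp.smul_apply, smul_eq_mul]
      by_cases h1 : i.val = 1
      · rw [if_pos h1, if_pos h1, Finsupp.single_eq_same]
      · rw [if_neg h1, if_neg h1, Finsupp.single_eq_same]
    · intro b _ hb
      rw [nu_some, Finsupp.smul_apply, smul_eq_mul]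
      by_cases h1 : b.val = 1
      · rw [if_pos h1, Finsupp.single_apply, if_neg hb, mul_zero]
      · rw [if_neg h1, Finsupp.single_apply, if_neg hb, mul_zero]
    · intro h; exact absurd (Finset.mem_univ i) h

theorem i0_ne_i1 (hn : 2 ≤ n) : i0 n hn ≠ i1 n hn := by
  intro h
  have := congrArg Fin.val h
  simp [i0, i1] at this

theorem nut_i0 (hn : 2 ≤ n) (a : Ex n) :
    nut n hn a (i0 n hn) = a none * (n - 1) + a (some (i0 n hn)) := by
  rw [nut_apply, if_pos rfl, if_neg (i0_ne_i1 n hn), if_neg (by simp [i0])]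
  ring

theorem nut_i1 (hn : 2 ≤ n) (a : Ex n) :
    nut n hn a (i1 n hn) = a none + a (some (i1 n hn)) * 2 := by
  rw [nut_apply, if_neg (Ne.symm (i0_ne_i1 n hn)), if_pos rfl, if_pos (by simp [i1])]
  ring

theorem nut_ge2 (hn : 2 ≤ n) (a : Ex n) (i : Fin (numVars n)) (h0 : i.val ≠ 0) (h1 : i.val ≠ 1) :
    nut n hn a i = a (some i) := by
  rw [nut_apply, if_neg, if_neg, if_neg h1]
  · ring
  · intro h; apply h1; rw [h]; rfl
  · intro h; apply h0; rw [h]; rfl

theorem nut_injective (hn : 2 ≤ n) (a b : Ex n) (ha : Normal n hn a) (hb : Normal n hn b)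
    (h : nut n hn a = nut n hn b) : a = b := by
  have e0 := DFunLike.congr_fun h (i0 n hn)
  have e1 := DFunLike.congr_fun h (i1 n hn)
  rw [nut_i0, nut_i0] at e0
  rw [nut_i1, nut_i1] at e1
  obtain ⟨_, ha2, _⟩ := ha
  obtain ⟨_, hb2, _⟩ := hb
  have hx : a none = b none := by omega
  have h1 : a (some (i1 n hn)) = b (some (i1 n hn)) := by omega
  rw [hx] at e0
  have h0 : a (some (i0 n hn)) = b (some (i0 n hn)) := by omega
  ext v
  cases v with
  | none => exact hx
  | some i =>
    by_cases c0 : i.val = 0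
    · have : i = i0 n hn := Fin.ext c0
      rw [this]; exact h0
    by_cases c1 : i.val = 1
    · have : i = i1 n hn := Fin.ext c1
      rw [this]; exact h1
    · have e := DFunLike.congr_fun h i
      rwa [nut_ge2 n hn a i c0 c1, nut_ge2 n hn b i c0 c1] at e

theorem coeff_eq_zero_of_mem_truncIdeal (p : FreeP n) (hp : p ∈ truncIdeal n) (b : Ep n)
    (hb : ∀ i, b i < bound n i) : coeff b p = 0 := by
  classical
  have hI : truncIdeal n = Ideal.span ((fun s => monomial s (1 : ZMod 2)) ''
      (Set.range fun i : Fin (numVars n) => Finsupp.single i (bound n i))) := by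
    unfold truncIdeal
    congr 1
    ext x
    constructor
    · rintro ⟨i, rfl⟩
      exact ⟨_, ⟨i, rfl⟩, (X_pow_eq_monomial).symm⟩
    · rintro ⟨_, ⟨i, rfl⟩, rfl⟩
      exact ⟨i, X_pow_eq_monomial⟩
  rw [hI, mem_ideal_span_monomial_image] at hp
  by_contra hne
  obtain ⟨_, ⟨i, rfl⟩, hi⟩ := hp b (mem_support_iff.mpr hne)
  have := Finsupp.single_le_iff.mp hi
  exact absurd this (not_le.mpr (hb i))

theorem support_normal_of_mem_Nsp (hn : 2 ≤ n) (g : FreeE n) (hg : g ∈ Nsp n hn) :
    ∀ a ∈ g.support, Normal n hn a := by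
  classical
  unfold Nsp at hg
  induction hg using Submodule.span_induction with
  | mem p hp =>
    obtain ⟨a, ha, rfl⟩ := hp
    intro b hb
    have := support_monomial_subset hb
    rw [Finset.mem_singleton] at this
    rw [this]; exact ha
  | zero => intro a ha; simp at ha
  | add p q _ _ ihp ihq =>
    intro a ha
    rcases Finset.mem_union.mp (support_add ha) with h | h
    · exact ihp a h
    · exact ihq a h
  | smul c p _ ih =>
    intro a ha
    exact ih a (support_smul ha)

theorem cexp_bound (hn : 2 ≤ n) (a : Ex n) (ha : Normal n hn a) (i : Fin (numVars n)) :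
    cexp n hn (ord n hn a) a i < bound n i := by
  obtain ⟨h1, h2, h3⟩ := ha
  unfold cexp
  rw [Finsupp.add_apply, Finsupp.single_apply]
  by_cases c0 : i.val = 0
  · have hi : i = i0 n hn := Fin.ext c0
    subst hi
    rw [if_pos rfl, nut_i0]
    have hb : bound n (i0 n hn) = n := by simp [bound, i0]
    rw [hb]
    unfold ord
    have h10 := h1 (i0 n hn)
    have hnb : nb n (i0 n hn) = n := by simp [nb, i0]
    rw [hnb] at h10
    by_cases hx : a none = 1
    · rw [hx, h3 hx]; omega
    · have : a none = 0 := by omega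
      rw [this]; omega
  · rw [if_neg (fun h => c0 (by rw [← h]; rfl))]
    by_cases c1 : i.val = 1
    · have hi : i = i1 n hn := Fin.ext c1
      subst hi
      rw [nut_i1]
      have hb : bound n (i1 n hn) = 2 ^ klog n 2 := by simp [bound, i1]
      have hnb : nb n (i1 n hn) = 2 ^ (klog n 2 - 1) := by simp [nb, i1]
      have h11 := h1 (i1 n hn)
      rw [hnb] at h11
      rw [hb]
      have hk := klog_two_pos n hn
      obtain ⟨k', hk'⟩ : ∃ k', klog n 2 = k' + 1 := ⟨klog n 2 - 1, by omega⟩
      rw [hk'] at h11 ⊢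
      rw [pow_succ]
      simp only [Nat.add_sub_cancel] at h11
      omega
    · rw [nut_ge2 n hn a i c0 c1]
      have hb : bound n i = 2 ^ klog n (i.val + 1) := by simp [bound, c0]
      have hnb : nb n i = 2 ^ klog n (i.val + 1) := by simp [nb, c0, c1]
      have := h1 i
      rw [hnb] at this
      rw [hb]
      omega

theorem ord_le (hn : 2 ≤ n) (a : Ex n) (ha : Normal n hn a) : ord n hn a ≤ n - 1 := by
  obtain ⟨h1, h2, h3⟩ := ha
  unfold ord
  have h10 := h1 (i0 n hn)
  have hnb : nb n (i0 n hn) = n := by simp [nb, i0]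
  rw [hnb] at h10
  by_cases hx : a none = 1
  · rw [hx, h3 hx]; omega
  · have : a none = 0 := by omega
    rw [this]; omega

/-- `phi n` is injective on the span of the normal monomials. -/
theorem eq_zero_of_mem_Nsp (hn : 2 ≤ n) (g : FreeE n) (hg : g ∈ Nsp n hn) (h0 : phi n g = 0) :
    g = 0 := by
  classical
  by_contra hne
  have hnorm := support_normal_of_mem_Nsp n hn g hg
  have hsupp : g.support.Nonempty := by
    rw [Finset.nonempty_iff_ne_empty]
    intro h
    exact hne (support_eq_empty.mp h)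
  obtain ⟨as, has, hmin⟩ := Finset.exists_min_image g.support (ord n hn) hsupp
  set r := ord n hn as with hr
  have hr1 : r ≤ n - 1 := ord_le n hn as (hnorm as has)
  -- the lifted polynomial
  set G : FreeP n := ∑ a ∈ g.support, monomial (cexp n hn r a) (coeff a g) with hG
  have hmk : Ideal.Quotient.mk (truncIdeal n) G = eps n 1 ^ (n - 1 - r) * phi n g := by
    conv_rhs => rw [g.as_sum]
    rw [hG, map_sum, map_sum, Finset.mul_sum]
    refine Finset.sum_congr rfl fun a ha => ?_
    have e1 : (monomial a (coeff a g) : FreeE n) = coeff a g • monomial a 1 := by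
      rw [smul_monomial, smul_eq_mul, mul_one]
    have e2 : (monomial (cexp n hn r a) (coeff a g) : FreeP n) =
        coeff a g • monomial (cexp n hn r a) 1 := by
      rw [smul_monomial, smul_eq_mul, mul_one]
    rw [e1, e2, mk_smul, map_smul, mul_smul_comm,
      key_monomial n hn r hr1 a (hnorm a ha) (hmin a ha)]
  rw [h0, mul_zero, Ideal.Quotient.eq_zero_iff_mem] at hmk
  have hc := coeff_eq_zero_of_mem_truncIdeal n G hmk (cexp n hn r as)
    (cexp_bound n hn as (hnorm as has))
  rw [hG, coeff_sum, Finset.sum_eq_single as] at hc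
  · rw [coeff_monomial, if_pos rfl] at hc
    exact (mem_support_iff.mp has) hc
  · intro b hb hbne
    rw [coeff_monomial, if_neg]
    intro hcb
    apply hbne
    unfold cexp at hcb
    exact nut_injective n hn b as (hnorm b hb) (hnorm as has) (add_left_cancel hcb)
  · intro h; exact absurd has h

/-- The kernel of `phi n` is the ideal of relations. -/
theorem ker_phi_eq (hn : 2 ≤ n) : RingHom.ker (phi n) = presIdeal n := by
  apply le_antisymm
  · intro f hf
    have hf' : phi n f = 0 := hf
    have htop : f ∈ NJ n hn := by rw [NJ_eq_top n hn]; trivial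
    unfold NJ at htop
    obtain ⟨g, hg, j, hj, rfl⟩ := Submodule.mem_sup.mp htop
    have hj' : j ∈ presIdeal n := hj
    have hjz : phi n j = 0 := presIdeal_le_ker n hn hj'
    rw [map_add, hjz, add_zero] at hf'
    rw [eq_zero_of_mem_Nsp n hn g hg hf', zero_add]
    exact hj'
  · exact presIdeal_le_ker n hn

end Groth.Agent.Lib.Helper64.QsKer
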