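import Mathlib
import Groth.Prelude.Def_W4c4chowquasisplitPn2

/-!
# Number-theoretic facts on the exponents `klog`, `kprime` (helper64)
-/

set_option autoImplicit false
set_option linter.unusedSectionVars false

open QsChow

namespace Groth.Agent.Lib.Helper64.QsNT

/-- The odd part of `n`. -/
def oddPart (n : ℕ) : ℕ := n / 2 ^ twoExp n

theorem n_eq (n : ℕ) : n = 2 ^ twoExp n * oddPart n :=
  (Nat.mul_div_cancel' (pow_padicValNat_dvd (p := 2) (n := n))).symm

theorem oddPart_odd (n : ℕ) (hn : n ≠ 0) : oddPart n % 2 = 1 := by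
  by_contra h
  have h2 : 2 ∣ oddPart n := by omega
  obtain ⟨c, hc⟩ := h2
  have hdvd : 2 ^ (twoExp n + 1) ∣ n := by
    refine ⟨c, ?_⟩
    conv_lhs => rw [n_eq n, hc]
    ring
  exact pow_succ_padicValNat_not_dvd (p := 2) hn hdvd

theorem odd_unique {d m e f : ℕ} (hd : d % 2 = 1) (hm : m % 2 = 1) (h : d * 2 ^ e = m * 2 ^ f) :
    d = m := by
  have cd : Nat.Coprime d (2 ^ f) := by
    apply Nat.Coprime.pow_right
    rw [Nat.coprime_two_right, Nat.odd_iff]; exact hd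
  have cm : Nat.Coprime m (2 ^ e) := by
    apply Nat.Coprime.pow_right
    rw [Nat.coprime_two_right, Nat.odd_iff]; exact hm
  have h1 : d ∣ m := cd.dvd_of_dvd_mul_right ⟨2 ^ e, h.symm⟩
  have h2 : m ∣ d := cm.dvd_of_dvd_mul_right ⟨2 ^ f, h⟩
  exact Nat.dvd_antisymm h1 h2

section
variable {n a m : ℕ} (hnam : n = 2 ^ a * m) (hm : m % 2 = 1) (hm3 : 3 ≤ m) (ha : 1 ≤ a)
include hnam hm hm3 ha

theorem two_m_le : 2 * m ≤ n := by
  have : 2 ^ 1 ≤ 2 ^ a := Nat.pow_le_pow_right (by norm_num) ha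
  calc 2 * m = 2 ^ 1 * m := by ring
    _ ≤ 2 ^ a * m := Nat.mul_le_mul_right _ this
    _ = n := hnam.symm

theorem three_pow_le : 3 * 2 ^ a ≤ n := by
  rw [hnam, mul_comm]
  exact Nat.mul_le_mul_left _ hm3

/-- `k_l = a` for `2l - 3 = m`. -/
theorem klog_l (l : ℕ) (hl : 2 * l - 3 = m) : klog n l = a := by
  unfold klog
  rw [hl]
  have hdiv : (2 * n - 1) / m = 2 ^ (a + 1) - 1 := by
    have h1 : 1 ≤ 2 ^ (a + 1) := Nat.one_le_two_pow
    apply Nat.div_eq_of_lt_le
    · have : (2 ^ (a + 1) - 1) * m = 2 * n - m := by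
        rw [Nat.sub_mul, one_mul, hnam, pow_succ]; ring_nf
      rw [this]; omega
    · have : (2 ^ (a + 1) - 1 + 1) * m = 2 * n := by
        rw [Nat.sub_add_cancel h1, hnam, pow_succ]; ring
      rw [this]
      have := two_m_le hnam hm hm3 ha
      omega
  rw [hdiv]
  apply Nat.log_eq_of_pow_le_of_lt_pow
  · have : 2 ^ (a + 1) = 2 * 2 ^ a := by rw [pow_succ]; ring
    have h1 : 1 ≤ 2 ^ a := Nat.one_le_two_pow
    omega
  · have h1 : 1 ≤ 2 ^ (a + 1) := Nat.one_le_two_pow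
    omega

/-- `k'_l = a + 1` for `2l - 3 = m`. -/
theorem kprime_l (l : ℕ) (hl : 2 * l - 3 = m) : kprime n l = a + 1 := by
  unfold kprime
  rw [if_neg (by omega), if_neg (by omega), hl]
  have : 2 * n / m = 2 ^ (a + 1) := by
    apply Nat.div_eq_of_eq_mul_left (by omega)
    rw [hnam, pow_succ]; ring
  rw [this, Nat.log_pow (by norm_num)]

/-- For `d = 2j - 3` odd and different from `m`, `k'_j = k_j`. -/
theorem kprime_eq_klog (j : ℕ) (hj3 : 3 ≤ j) (hjm : 2 * j - 3 ≠ m) (hjn : 2 * j - 3 ≤ n) :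
    kprime n j = klog n j := by
  unfold kprime klog
  rw [if_neg (by omega), if_neg (by omega)]
  set d := 2 * j - 3 with hd
  have hdpos : 0 < d := by omega
  have hdodd : d % 2 = 1 := by omega
  apply le_antisymm
  · -- K' ≤ K
    have hq' : 2 * n / d ≠ 0 := by
      rw [Nat.div_ne_zero_iff]; omega
    have h1 : 2 ^ Nat.log 2 (2 * n / d) ≤ 2 * n / d := Nat.pow_log_le_self 2 hq'
    rw [Nat.le_div_iff_mul_le hdpos] at h1
    have hne : 2 ^ Nat.log 2 (2 * n / d) * d ≠ 2 * n := by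
      intro h
      apply hjm
      have : d * 2 ^ Nat.log 2 (2 * n / d) = m * 2 ^ (a + 1) := by
        rw [mul_comm, h, hnam, pow_succ]; ring
      exact odd_unique hdodd hm this
    apply Nat.le_log_of_pow_le (by norm_num)
    rw [Nat.le_div_iff_mul_le hdpos]
    omega
  · apply Nat.log_mono_right
    apply Nat.div_le_div_right
    omega

/-- For `d = 2j - 3` odd and different from `m`, `d · 2^(k_j) ≠ n`. -/
theorem mul_pow_ne (j : ℕ) (hj3 : 3 ≤ j) (hjm : 2 * j - 3 ≠ m) (K : ℕ) :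
    (2 * j - 3) * 2 ^ K ≠ n := by
  intro h
  apply hjm
  have hdodd : (2 * j - 3) % 2 = 1 := by omega
  have : (2 * j - 3) * 2 ^ K = m * 2 ^ a := by rw [h, hnam]; ring
  exact odd_unique hdodd hm this

/-- `(2j-4)·2^K ≥ 2^a` whenever `(2j-3)·2^K ≥ n`. -/
theorem pow_le_mul (j : ℕ) (hj3 : 3 ≤ j) (K : ℕ) (hK : n ≤ (2 * j - 3) * 2 ^ K) :
    2 ^ a ≤ (2 * j - 4) * 2 ^ K := by
  have h3 := three_pow_le hnam hm hm3 ha
  have e : (2 * j - 3) * 2 ^ K = (2 * j - 4) * 2 ^ K + 2 ^ K := by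
    have : 2 * j - 3 = (2 * j - 4) + 1 := by omega
    rw [this]; ring
  have h4 : 2 * 2 ^ K ≤ (2 * j - 4) * 2 ^ K := Nat.mul_le_mul_right _ (by omega)
  omega

/-- `k_2 = k'_2 + 1` when `n` is not a power of two. -/
theorem klog_two_eq : klog n 2 = kprime n 2 + 1 := by
  unfold klog kprime
  rw [if_neg (by omega), if_pos rfl]
  have hn0 : n ≠ 0 := by
    have := three_pow_le hnam hm hm3 ha
    have : 1 ≤ 2 ^ a := Nat.one_le_two_pow
    omega
  have : (2 * n - 1) / (2 * 2 - 3) = 2 * n - 1 := by norm_num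
  rw [this]
  set c := Nat.log 2 n with hc
  have h1 : 2 ^ c ≤ n := Nat.pow_log_le_self 2 hn0
  have h2 : n < 2 ^ (c + 1) := Nat.lt_pow_succ_log_self (by norm_num) n
  have hne : 2 ^ c ≠ n := by
    intro h
    have : m * 2 ^ a = 1 * 2 ^ c := by rw [h, hnam]; ring
    have := odd_unique hm (by norm_num) this
    omega
  apply Nat.log_eq_of_pow_le_of_lt_pow
  · rw [pow_succ]; omega
  · rw [pow_succ 2 (c + 1)]; omega

theorem n_lt_pow_klog_two : n < 2 ^ klog n 2 := by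
  rw [klog_two_eq hnam hm hm3 ha]
  unfold kprime
  rw [if_neg (by omega), if_pos rfl]
  exact Nat.lt_pow_succ_log_self (by norm_num) n

theorem a_le_kprime_two : a ≤ kprime n 2 := by
  unfold kprime
  rw [if_neg (by omega), if_pos rfl]
  apply Nat.le_log_of_pow_le (by norm_num)
  have := three_pow_le hnam hm hm3 ha
  omega

end

end Groth.Agent.Lib.Helper64.QsNT
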