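import Mathlib
import Groth.Prelude.Def_W4c4chowquasisplitPn2
import Groth.Agent.Lib.Helper27.QsChow2
import Groth.Agent.Lib.Helper64.QsKer3
import Groth.Agent.Lib.Helper64.QsNT

/-!
# The presentation of the fixed subalgebra modulo `ε₁^(2^a)` for `n` even, not a power of two
(helper64)
-/

set_option autoImplicit false

open MvPolynomial QsChow
open Groth.Agent.Lib.Helper27.QsChowLib
open Groth.Agent.Lib.Helper64.QsNT

namespace Groth.Agent.Lib.Helper64.QsKer

variable (n : ℕ)

/-- The inclusion `F_2[e_1..e_s] → F_2[e_1..e_s, x]`. -/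
noncomputable def iot : FreeP n →ₐ[ZMod 2] FreeE n := rename some

theorem phi_iot (q : FreeP n) : phi n (iot n q) = psi n q := by
  unfold phi psi iot
  rw [aeval_rename]
  rfl

theorem iot_X (i : Fin (numVars n)) : iot n (X i) = X (some i) := by
  unfold iot; rw [rename_X]

theorem evarE_succ (i : Fin (numVars n)) : evarE n (i.val + 1) = X i := by
  unfold evarE
  rw [dif_pos ⟨by omega, by have := i.isLt; omega⟩]
  congr 2

/-- The retraction sending `x` to `e_i^e`. -/
noncomputable def rho (i : Fin (numVars n)) (e : ℕ) : FreeE n →ₐ[ZMod 2] FreeP n :=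
  aeval (fun v => Option.elim v (X i ^ e) X)

theorem rho_X_some (i : Fin (numVars n)) (e : ℕ) (i' : Fin (numVars n)) :
    rho n i e (X (some i')) = X i' := by
  unfold rho; rw [aeval_X]; rfl

theorem rho_X_none (i : Fin (numVars n)) (e : ℕ) : rho n i e (X none) = X i ^ e := by
  unfold rho; rw [aeval_X]; rfl

theorem rho_iot (i : Fin (numVars n)) (e : ℕ) (q : FreeP n) : rho n i e (iot n q) = q := by
  unfold rho iot
  rw [aeval_rename]
  have : ((fun v : Option (Fin (numVars n)) => Option.elim v (X i ^ e) X) ∘ some) =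
      (X : Fin (numVars n) → FreeP n) := rfl
  rw [this, aeval_X_left]
  rfl

theorem rho_evar_succ (i : Fin (numVars n)) (e : ℕ) (i' : Fin (numVars n)) :
    rho n i e (evar n (i'.val + 1)) = X i' := by
  rw [evar_succ, rho_X_some]

theorem rho_xvar (i : Fin (numVars n)) (e : ℕ) : rho n i e (xvar n) = X i ^ e := rho_X_none n i e

section tau

variable (hn : 2 ≤ n)
  (τ : P n →ₐ[ZMod 2] P n) (hτ1 : τ (eps n 1) = eps n 1)
  (hτ : ∀ j : ℕ, 2 ≤ j → j ≤ numVars n → τ (eps n j) = eps n j + eps n 1 ^ (2 * j - 3))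

include hn hτ1 hτ in
theorem phi_fixed (f : FreeE n) : τ (phi n f) = phi n f := by
  have h : phi n f ∈ (phi n).range := ⟨f, rfl⟩
  rw [main741 n hn τ hτ1 hτ] at h
  exact h

include hn hτ1 hτ in
theorem psi_fixed (q : FreeP n) : τ (psi n q) = psi n q := by
  rw [← phi_iot]; exact phi_fixed n hn τ hτ1 hτ _

include hn hτ1 hτ in
theorem exists_phi_of_fixed (z : P n) (hz : τ z = z) : ∃ f, phi n f = z := by
  have h : z ∈ AlgHom.equalizer τ (AlgHom.id (ZMod 2) (P n)) := hz
  rw [← main741 n hn τ hτ1 hτ] at h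
  exact h

/-- Membership in `ε₁^E · P^τ`. -/
def InS (E : ℕ) (p : P n) : Prop := ∃ w, τ w = w ∧ p = eps n 1 ^ E * w

theorem inS_zero (E : ℕ) : InS n τ E 0 := ⟨0, map_zero τ, by simp⟩

theorem inS_add {E : ℕ} {p q : P n} (hp : InS n τ E p) (hq : InS n τ E q) : InS n τ E (p + q) := by
  obtain ⟨w, hw, rfl⟩ := hp
  obtain ⟨v, hv, rfl⟩ := hq
  exact ⟨w + v, by rw [map_add, hw, hv], by ring⟩

theorem inS_sum {ι : Type*} {E : ℕ} (s : Finset ι) (f : ι → P n) (h : ∀ i ∈ s, InS n τ E (f i)) :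
    InS n τ E (∑ i ∈ s, f i) := by
  classical
  induction s using Finset.induction_on with
  | empty => simpa using inS_zero n τ E
  | insert a s ha ih =>
    rw [Finset.sum_insert ha]
    exact inS_add n τ (h a (Finset.mem_insert_self _ _))
      (ih fun i hi => h i (Finset.mem_insert_of_mem hi))

theorem inS_mul_left {E : ℕ} {p z : P n} (hp : InS n τ E p) (hz : τ z = z) :
    InS n τ E (z * p) := by
  obtain ⟨w, hw, rfl⟩ := hp
  exact ⟨z * w, by rw [map_mul, hw, hz], by ring⟩

theorem inS_mul_right {E : ℕ} {p z : P n} (hp : InS n τ E p) (hz : τ z = z) :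
    InS n τ E (p * z) := by
  rw [mul_comm]; exact inS_mul_left n τ hp hz

include hτ1 in
theorem inS_pow_mul {E E' : ℕ} (h : E ≤ E') {w : P n} (hw : τ w = w) :
    InS n τ E (eps n 1 ^ E' * w) := by
  obtain ⟨c, rfl⟩ := Nat.exists_eq_add_of_le h
  exact ⟨eps n 1 ^ c * w, by rw [map_mul, map_pow, hτ1, hw], by rw [pow_add]; ring⟩

theorem inS_sub {E : ℕ} {p q : P n} (hp : InS n τ E p) (hq : InS n τ E q) : InS n τ E (p - q) := by
  have : p - q = p + q := by
    have := add_self' q
    linear_combination (-1 : P n) * this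
  rw [this]; exact inS_add n τ hp hq

include hn hτ1 hτ in
/-- `φ(e₁^E' · f) ∈ ε₁^E P^τ` for `E ≤ E'`. -/
theorem inS_phi_e1_mul {E E' : ℕ} (h : E ≤ E') (f : FreeE n) :
    InS n τ E (phi n (evar n 1 ^ E' * f)) := by
  rw [map_mul, map_pow, phi_evar_one n hn]
  exact inS_pow_mul n τ hτ1 h (phi_fixed n hn τ hτ1 hτ f)

include hn in
/-- `φ(e₁^(u+1) · x · f) = 0`. -/
theorem phi_e1_x_mul (u : ℕ) (f : FreeE n) : phi n (evar n 1 ^ (u + 1) * xvar n * f) = 0 := by
  have h : phi n (evar n 1 * xvar n) = 0 := by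
    have := presIdeal_le_ker n hn (gen2_mem n)
    exact this
  have e : evar n 1 ^ (u + 1) * xvar n * f = evar n 1 * xvar n * (evar n 1 ^ u * f) := by
    rw [pow_succ]; ring
  rw [e, map_mul, h, zero_mul]

end tau

section even

variable (hn : 2 ≤ n)
  (τ : P n →ₐ[ZMod 2] P n) (hτ1 : τ (eps n 1) = eps n 1)
  (hτ : ∀ j : ℕ, 2 ≤ j → j ≤ numVars n → τ (eps n j) = eps n j + eps n 1 ^ (2 * j - 3))
  {a m l : ℕ} (hnam : n = 2 ^ a * m) (hm : m % 2 = 1) (hm3 : 3 ≤ m) (ha : 1 ≤ a)
  (hl : 2 * l - 3 = m) (il : Fin (numVars n)) (hil : il.val + 1 = l)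

include hnam hm hm3 ha hl hil in
theorem hrel_l : hrel n l = evar n l ^ 2 ^ a + xvar n +
    evar n 1 ^ ((2 * l - 4) * 2 ^ a) * sPoly n l := by
  have h3 : 3 ≤ l := by omega
  have hls : l ≤ numVars n := by have := il.isLt; omega
  unfold hrel
  rw [if_neg (by omega), if_pos ⟨h3, hls⟩, klog_l hnam hm hm3 ha l hl]
  have : (2 * l - 3) * 2 ^ a - n = 0 := by rw [hl, hnam, mul_comm]; simp
  rw [this, pow_zero, one_mul]

include hn hnam hm hm3 ha hl hil in
theorem phi_el_pow : phi n (evar n l ^ 2 ^ a) = phi n (xvar n) +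
    phi n (evar n 1 ^ ((2 * l - 4) * 2 ^ a) * sPoly n l) := by
  have h3 : 3 ≤ l := by omega
  have hls : l ≤ numVars n := by have := il.isLt; omega
  have h := phi_hrel_ge_three n hn l h3 hls
  rw [hrel_l n hnam hm hm3 ha hl il hil, map_add, map_add] at h
  have a1 := add_self' (phi n (xvar n))
  have a2 := add_self' (phi n (evar n 1 ^ ((2 * l - 4) * 2 ^ a) * sPoly n l))
  linear_combination h - a1 - a2

theorem evar_l_eq (hil : il.val + 1 = l) : evar n l = X (some il) := by
  rw [← hil, evar_succ]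

theorem psi_X (i : Fin (numVars n)) : psi n (X i) = phi n (X (some i)) := by
  rw [← phi_iot, iot_X]

include hn hτ1 hτ hnam hm hm3 ha hl hil in
theorem diff_inS (f : FreeE n) :
    InS n τ (2 ^ a) (phi n f - psi n (rho n il (2 ^ a) f)) := by
  have h3 : 3 ≤ l := by omega
  induction f using MvPolynomial.induction_on with
  | C r =>
    have : phi n (C r) - psi n (rho n il (2 ^ a) (C r)) = 0 := by
      rw [← algebraMap_eq, AlgHom.commutes, AlgHom.commutes, AlgHom.commutes, sub_self]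
    rw [this]; exact inS_zero n τ _
  | add p q hp hq =>
    have : phi n (p + q) - psi n (rho n il (2 ^ a) (p + q)) =
        (phi n p - psi n (rho n il (2 ^ a) p)) + (phi n q - psi n (rho n il (2 ^ a) q)) := by
      rw [map_add, map_add, map_add]; ring
    rw [this]; exact inS_add n τ hp hq
  | mul_X p v hp =>
    have e : phi n (p * X v) - psi n (rho n il (2 ^ a) (p * X v)) =
        phi n p * (phi n (X v) - psi n (rho n il (2 ^ a) (X v))) +
        (phi n p - psi n (rho n il (2 ^ a) p)) * psi n (rho n il (2 ^ a) (X v)) := by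
      rw [map_mul, map_mul, map_mul]; ring
    rw [e]
    refine inS_add n τ (inS_mul_left n τ ?_ (phi_fixed n hn τ hτ1 hτ p))
      (inS_mul_right n τ hp (psi_fixed n hn τ hτ1 hτ _))
    cases v with
    | some i =>
      rw [rho_X_some, psi_X, sub_self]; exact inS_zero n τ _
    | none =>
      rw [rho_X_none, map_pow, psi_X, ← map_pow, ← evar_l_eq n il hil,
        phi_el_pow n hn hnam hm hm3 ha hl il hil]
      have e2 : phi n (X none) - (phi n (xvar n) +
          phi n (evar n 1 ^ ((2 * l - 4) * 2 ^ a) * sPoly n l)) =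
          phi n (evar n 1 ^ ((2 * l - 4) * 2 ^ a) * sPoly n l) := by
        have a2 := add_self' (phi n (evar n 1 ^ ((2 * l - 4) * 2 ^ a) * sPoly n l))
        have : (X none : FreeE n) = xvar n := rfl
        rw [this]
        linear_combination (-1 : P n) * a2
      rw [e2]
      apply inS_phi_e1_mul n hn τ hτ1 hτ
      calc 2 ^ a = 1 * 2 ^ a := (one_mul _).symm
        _ ≤ (2 * l - 4) * 2 ^ a := Nat.mul_le_mul_right _ (by omega)

include hn hτ1 hτ hnam hm hm3 ha hl hil in
/-- Part (ii). -/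
theorem even_part2 (z : P n) (hz : τ z = z) :
    ∃ q : FreeP n, ∃ w : P n, τ w = w ∧ z = psi n q + eps n 1 ^ 2 ^ a * w := by
  obtain ⟨f, rfl⟩ := exists_phi_of_fixed n hn τ hτ1 hτ z hz
  obtain ⟨w, hw, hd⟩ := diff_inS n hn τ hτ1 hτ hnam hm hm3 ha hl il hil f
  refine ⟨rho n il (2 ^ a) f, w, hw, ?_⟩
  rw [← hd]; ring

end even

section even2

variable (hn : 2 ≤ n)
  (τ : P n →ₐ[ZMod 2] P n) (hτ1 : τ (eps n 1) = eps n 1)
  (hτ : ∀ j : ℕ, 2 ≤ j → j ≤ numVars n → τ (eps n j) = eps n j + eps n 1 ^ (2 * j - 3))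
  {a m l : ℕ} (hnam : n = 2 ^ a * m) (hm : m % 2 = 1) (hm3 : 3 ≤ m) (ha : 1 ≤ a)
  (hl : 2 * l - 3 = m) (il : Fin (numVars n)) (hil : il.val + 1 = l)
  (hta : twoExp n = a) (hlidx : lIdx n = l)

/-- The ideal of polynomials whose image under `ψ` lies in `ε₁^E P^τ`. -/
def Iq (E : ℕ) : Ideal (FreeP n) where
  carrier := {q | InS n τ E (psi n q)}
  add_mem' := by
    intro p q hp hq
    change InS n τ E (psi n (p + q))
    rw [map_add]; exact inS_add n τ hp hq
  zero_mem' := by
    change InS n τ E (psi n 0)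
    rw [map_zero]; exact inS_zero n τ E
  smul_mem' := by
    intro c q hq
    change InS n τ E (psi n (c • q))
    rw [smul_eq_mul, map_mul]
    exact inS_mul_left n τ hq (psi_fixed n hn τ hτ1 hτ c)

theorem mem_Iq (E : ℕ) (q : FreeP n) : q ∈ Iq n hn τ hτ1 hτ E ↔ InS n τ E (psi n q) := Iff.rfl

theorem psi_X_pow (i : Fin (numVars n)) (e : ℕ) : psi n (X i ^ e) = phi n (X (some i) ^ e) := by
  rw [map_pow, map_pow, psi_X]

include hnam hm hm3 ha in
theorem two_pow_a_le_n : 2 ^ a ≤ n := by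
  have := three_pow_le hnam hm hm3 ha
  omega

include hn hτ1 hτ hnam hm hm3 ha hl hil hta hlidx in
theorem evenIdeal_le_Iq : evenIdeal n ≤ Iq n hn τ hτ1 hτ (2 ^ a) := by
  have h3 : 3 ≤ l := by omega
  have hls : l ≤ numVars n := by have := il.isLt; omega
  have h2a : 2 ^ a ≤ (2 * l - 4) * 2 ^ a := by
    calc 2 ^ a = 1 * 2 ^ a := (one_mul _).symm
      _ ≤ (2 * l - 4) * 2 ^ a := Nat.mul_le_mul_right _ (by omega)
  unfold evenIdeal
  rw [Ideal.span_le]
  rintro q (hq | ⟨i, rfl⟩)
  · rw [Set.mem_singleton_iff] at hq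
    subst hq
    rw [SetLike.mem_coe, mem_Iq, hlidx, kprime_l hnam hm hm3 ha l hl, Nat.add_sub_cancel]
    have e1 : evarE n 1 = X (i0 n hn) := evarE_succ n (i0 n hn)
    have el : evarE n l = X il := by rw [← hil, evarE_succ]
    rw [e1, el, map_mul, psi_X, psi_X_pow, ← evar_l_eq n il hil, ← evar_one n hn,
      phi_el_pow n hn hnam hm hm3 ha hl il hil, mul_add, ← map_mul, ← map_mul]
    have hz : phi n (evar n 1 * xvar n) = 0 := presIdeal_le_ker n hn (gen2_mem n)
    rw [hz, zero_add]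
    have e : evar n 1 * (evar n 1 ^ ((2 * l - 4) * 2 ^ a) * sPoly n l) =
        evar n 1 ^ ((2 * l - 4) * 2 ^ a + 1) * sPoly n l := by
      rw [pow_succ]; ring
    rw [e]
    exact inS_phi_e1_mul n hn τ hτ1 hτ (by omega) _
  · rw [SetLike.mem_coe, mem_Iq]
    change InS n τ (2 ^ a) (psi n (evarE n (i.val + 1) ^ 2 ^ kprime n (i.val + 1)))
    rw [evarE_succ]
    by_cases c0 : i.val = 0
    · -- e₁^(2^a)
      have hi : i = i0 n hn := Fin.ext c0
      have hk : kprime n (i.val + 1) = a := by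
        rw [c0]; unfold kprime; rw [if_pos rfl]; exact hta
      rw [hk, hi, psi_X_pow, ← evar_one n hn, map_pow, phi_evar_one n hn]
      exact ⟨1, map_one τ, by ring⟩
    by_cases c1 : i.val = 1
    · -- e₂^(2^c)
      have hi : i = i1 n hn := Fin.ext c1
      rw [c1, hi, psi_X_pow, ← evar_two n hn]
      set c := kprime n (1 + 1) with hc
      have hk : klog n 2 = c + 1 := klog_two_eq hnam hm hm3 ha
      have hlt : n < 2 ^ klog n 2 := n_lt_pow_klog_two hnam hm hm3 ha
      have hac : a ≤ c := a_le_kprime_two hnam hm hm3 ha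
      have h0 := phi_hrel_two n hn
      have hrel2 : hrel n 2 = evar n 1 ^ (2 ^ klog n 2 - n) * xvar n +
          (∑ t ∈ Finset.range c, evar n 1 ^ (2 ^ klog n 2 - 2 ^ (t + 1)) * evar n 2 ^ 2 ^ t
            + evar n 2 ^ 2 ^ c) := by
        unfold hrel sPoly
        rw [if_pos rfl]
        congr 1
        rw [hk, Finset.sum_range_succ]
        simp
      rw [hrel2, map_add, map_add] at h0
      obtain ⟨u, hu⟩ : ∃ u, 2 ^ klog n 2 - n = u + 1 := ⟨2 ^ klog n 2 - n - 1, by omega⟩
      have hz : phi n (evar n 1 ^ (2 ^ klog n 2 - n) * xvar n) = 0 := by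
        have := phi_e1_x_mul n hn u 1
        rwa [mul_one, ← hu] at this
      rw [hz, zero_add] at h0
      have e : phi n (evar n 2 ^ 2 ^ c) = phi n (∑ t ∈ Finset.range c,
          evar n 1 ^ (2 ^ klog n 2 - 2 ^ (t + 1)) * evar n 2 ^ 2 ^ t) := by
        have a1 := add_self' (phi n (evar n 2 ^ 2 ^ c))
        linear_combination (-1 : P n) * h0 + a1
      rw [e, map_sum]
      apply inS_sum
      intro t ht
      apply inS_phi_e1_mul n hn τ hτ1 hτ
      have ht' : t + 1 ≤ c := Finset.mem_range.mp ht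
      have h1 : 2 ^ (t + 1) ≤ 2 ^ c := Nat.pow_le_pow_right (by norm_num) ht'
      have h2 : 2 ^ a ≤ 2 ^ c := Nat.pow_le_pow_right (by norm_num) hac
      rw [hk, pow_succ]
      omega
    · -- e_j, j ≥ 3
      have hj3 : 3 ≤ i.val + 1 := by omega
      have hjs : i.val + 1 ≤ numVars n := i.isLt
      rw [psi_X_pow, ← evar_succ]
      by_cases hjl : i.val + 1 = l
      · -- j = l
        rw [hjl, kprime_l hnam hm hm3 ha l hl, pow_succ, pow_mul, map_pow,
          phi_el_pow n hn hnam hm hm3 ha hl il hil, add_sq', ← map_pow, ← map_pow]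
        have hz : phi n (xvar n ^ 2) = 0 := presIdeal_le_ker n hn (gen3_mem n)
        rw [hz, zero_add]
        have e : (evar n 1 ^ ((2 * l - 4) * 2 ^ a) * sPoly n l) ^ 2 =
            evar n 1 ^ ((2 * l - 4) * 2 ^ a * 2) * sPoly n l ^ 2 := by
          rw [mul_pow, ← pow_mul]
        rw [e]
        exact inS_phi_e1_mul n hn τ hτ1 hτ (by omega) _
      · -- j ≠ l
        set j := i.val + 1 with hj
        have hjm : 2 * j - 3 ≠ m := by omega
        have hjn : 2 * j - 3 ≤ n := by unfold numVars at hjs; omega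
        rw [kprime_eq_klog hnam hm hm3 ha j hj3 hjm hjn]
        have hK := klog_spec n hn j (by omega) hjs
        have hne := mul_pow_ne hnam hm hm3 ha j hj3 hjm (klog n j)
        have hpl := pow_le_mul hnam hm hm3 ha j hj3 (klog n j) hK
        have h0 := phi_hrel_ge_three n hn j hj3 hjs
        have hrelj : hrel n j = evar n j ^ 2 ^ klog n j +
            evar n 1 ^ ((2 * j - 3) * 2 ^ klog n j - n) * xvar n +
            evar n 1 ^ ((2 * j - 4) * 2 ^ klog n j) * sPoly n j := by
          unfold hrel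
          rw [if_neg (by omega), if_pos ⟨hj3, hjs⟩]
        rw [hrelj, map_add, map_add] at h0
        obtain ⟨u, hu⟩ : ∃ u, (2 * j - 3) * 2 ^ klog n j - n = u + 1 :=
          ⟨(2 * j - 3) * 2 ^ klog n j - n - 1, by omega⟩
        have hz : phi n (evar n 1 ^ ((2 * j - 3) * 2 ^ klog n j - n) * xvar n) = 0 := by
          have := phi_e1_x_mul n hn u 1
          rwa [mul_one, ← hu] at this
        rw [hz, add_zero] at h0
        have e : phi n (evar n j ^ 2 ^ klog n j) =
            phi n (evar n 1 ^ ((2 * j - 4) * 2 ^ klog n j) * sPoly n j) := by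
          have a1 := add_self' (phi n (evar n 1 ^ ((2 * j - 4) * 2 ^ klog n j) * sPoly n j))
          linear_combination h0 - a1
        rw [e]
        exact inS_phi_e1_mul n hn τ hτ1 hτ hpl _

end even2

section even3

variable (hn : 2 ≤ n)
  (τ : P n →ₐ[ZMod 2] P n) (hτ1 : τ (eps n 1) = eps n 1)
  (hτ : ∀ j : ℕ, 2 ≤ j → j ≤ numVars n → τ (eps n j) = eps n j + eps n 1 ^ (2 * j - 3))
  {a m l : ℕ} (hnam : n = 2 ^ a * m) (hm : m % 2 = 1) (hm3 : 3 ≤ m) (ha : 1 ≤ a)
  (hl : 2 * l - 3 = m) (il : Fin (numVars n)) (hil : il.val + 1 = l)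
  (hta : twoExp n = a) (hlidx : lIdx n = l)

theorem even_gen (i : Fin (numVars n)) : X i ^ 2 ^ kprime n (i.val + 1) ∈ evenIdeal n := by
  apply Ideal.subset_span
  refine Set.mem_union_right _ ⟨i, ?_⟩
  change evarE n (i.val + 1) ^ 2 ^ kprime n (i.val + 1) = _
  rw [evarE_succ]

include hnam hm hm3 ha hl hil hlidx in
theorem even_g1 : X (i0 n hn) * X il ^ 2 ^ a ∈ evenIdeal n := by
  apply Ideal.subset_span
  refine Set.mem_union_left _ ?_
  rw [Set.mem_singleton_iff, hlidx, kprime_l hnam hm hm3 ha l hl, Nat.add_sub_cancel]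
  have e1 : evarE n 1 = X (i0 n hn) := evarE_succ n (i0 n hn)
  have el : evarE n l = X il := by rw [← hil, evarE_succ]
  rw [e1, el]

include hta in
theorem even_pow0 {E : ℕ} (h : 2 ^ a ≤ E) : X (i0 n hn) ^ E ∈ evenIdeal n := by
  obtain ⟨c, rfl⟩ := Nat.exists_eq_add_of_le h
  rw [pow_add]
  apply Ideal.mul_mem_right
  have := even_gen n (i0 n hn)
  have hk : kprime n ((i0 n hn).val + 1) = a := by
    unfold kprime; rw [if_pos (by simp [i0])]; exact hta
  rwa [hk] at this

theorem rho_evar_one (e : ℕ) : rho n il e (evar n 1) = X (i0 n hn) := by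
  rw [evar_one n hn, rho_X_some]

theorem rho_evar_two (e : ℕ) : rho n il e (evar n 2) = X (i1 n hn) := by
  rw [evar_two n hn, rho_X_some]

include hn hnam hm hm3 ha hl hil hta hlidx in
theorem map_rho_le : Ideal.map (rho n il (2 ^ a)) (presIdeal n) ≤ evenIdeal n := by
  have h3 : 3 ≤ l := by omega
  have hls : l ≤ numVars n := by have := il.isLt; omega
  unfold presIdeal
  rw [Ideal.map_span, Ideal.span_le]
  rintro _ ⟨g, hg, rfl⟩
  rcases hg with (hg | ⟨i, rfl⟩)
  · rcases hg with rfl | rfl | rfl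
    · -- e₁^n
      change rho n il (2 ^ a) (evar n 1 ^ n) ∈ evenIdeal n
      rw [map_pow, rho_evar_one n hn]
      exact even_pow0 n hn hta (two_pow_a_le_n n hnam hm hm3 ha)
    · -- e₁ x
      change rho n il (2 ^ a) (evar n 1 * xvar n) ∈ evenIdeal n
      rw [map_mul, rho_evar_one n hn, rho_xvar]
      exact even_g1 n hn hnam hm hm3 ha hl il hil hlidx
    · -- x²
      change rho n il (2 ^ a) (xvar n ^ 2) ∈ evenIdeal n
      rw [map_pow, rho_xvar, ← pow_mul, ← pow_succ]
      have := even_gen n il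
      rwa [hil, kprime_l hnam hm hm3 ha l hl] at this
  · change rho n il (2 ^ a) (hrel n (i.val + 1)) ∈ evenIdeal n
    by_cases c0 : i.val = 0
    · rw [c0, hrel_one, map_zero]; exact Ideal.zero_mem _
    by_cases c1 : i.val = 1
    · -- h₂
      rw [c1]
      set c := kprime n (1 + 1) with hc
      have hk : klog n 2 = c + 1 := klog_two_eq hnam hm hm3 ha
      have hlt : n < 2 ^ klog n 2 := n_lt_pow_klog_two hnam hm hm3 ha
      have hac : a ≤ c := a_le_kprime_two hnam hm hm3 ha
      have hrel2 : hrel n 2 = evar n 1 ^ (2 ^ klog n 2 - n) * xvar n +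
          (∑ t ∈ Finset.range c, evar n 1 ^ (2 ^ klog n 2 - 2 ^ (t + 1)) * evar n 2 ^ 2 ^ t
            + evar n 2 ^ 2 ^ c) := by
        unfold hrel sPoly
        rw [if_pos rfl]
        congr 1
        rw [hk, Finset.sum_range_succ]
        simp
      rw [show (1 + 1 : ℕ) = 2 from rfl, hrel2, map_add, map_add, map_mul, map_pow, map_pow,
        rho_evar_one n hn, rho_evar_two n hn, rho_xvar, map_sum]
      obtain ⟨u, hu⟩ : ∃ u, 2 ^ klog n 2 - n = u + 1 := ⟨2 ^ klog n 2 - n - 1, by omega⟩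
      refine Ideal.add_mem _ ?_ (Ideal.add_mem _ (Ideal.sum_mem _ fun t ht => ?_) ?_)
      · rw [hu, pow_succ, mul_assoc]
        exact Ideal.mul_mem_left _ _ (even_g1 n hn hnam hm hm3 ha hl il hil hlidx)
      · rw [map_mul, map_pow, map_pow, rho_evar_one n hn, rho_evar_two n hn]
        apply Ideal.mul_mem_right
        apply even_pow0 n hn hta
        have ht' : t + 1 ≤ c := Finset.mem_range.mp ht
        have h1 : 2 ^ (t + 1) ≤ 2 ^ c := Nat.pow_le_pow_right (by norm_num) ht'
        have h2 : 2 ^ a ≤ 2 ^ c := Nat.pow_le_pow_right (by norm_num) hac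
        rw [hk, pow_succ]
        omega
      · have := even_gen n (i1 n hn)
        exact this
    · -- h_j, j ≥ 3
      have hj3 : 3 ≤ i.val + 1 := by omega
      have hjs : i.val + 1 ≤ numVars n := i.isLt
      have hrelj : hrel n (i.val + 1) = evar n (i.val + 1) ^ 2 ^ klog n (i.val + 1) +
          evar n 1 ^ ((2 * (i.val + 1) - 3) * 2 ^ klog n (i.val + 1) - n) * xvar n +
          evar n 1 ^ ((2 * (i.val + 1) - 4) * 2 ^ klog n (i.val + 1)) * sPoly n (i.val + 1) := by
        unfold hrel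
        rw [if_neg (by omega), if_pos ⟨hj3, hjs⟩]
      rw [hrelj, map_add, map_add, map_mul, map_mul, map_pow, map_pow, map_pow,
        rho_evar_one n hn, rho_xvar, rho_evar_succ]
      by_cases hjl : i.val + 1 = l
      · -- j = l
        have hi : i = il := Fin.ext (by omega)
        have hz : (2 * (i.val + 1) - 3) * 2 ^ klog n (i.val + 1) - n = 0 := by
          rw [hjl, klog_l hnam hm hm3 ha l hl, hl, hnam, mul_comm]; simp
        rw [hz, pow_zero, one_mul, hjl, klog_l hnam hm hm3 ha l hl, hi]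
        have e : X il ^ 2 ^ a + X il ^ 2 ^ a +
            X (i0 n hn) ^ ((2 * l - 4) * 2 ^ a) * rho n il (2 ^ a) (sPoly n l) =
            X (i0 n hn) ^ ((2 * l - 4) * 2 ^ a) * rho n il (2 ^ a) (sPoly n l) := by
          have a1 := add_self' (X il ^ 2 ^ a : FreeP n)
          linear_combination a1
        rw [e]
        apply Ideal.mul_mem_right
        apply even_pow0 n hn hta
        calc 2 ^ a = 1 * 2 ^ a := (one_mul _).symm
          _ ≤ (2 * l - 4) * 2 ^ a := Nat.mul_le_mul_right _ (by omega)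
      · -- j ≠ l
        set j := i.val + 1 with hj
        have hjm : 2 * j - 3 ≠ m := by omega
        have hjn : 2 * j - 3 ≤ n := by unfold numVars at hjs; omega
        have hK := klog_spec n hn j (by omega) hjs
        have hne := mul_pow_ne hnam hm hm3 ha j hj3 hjm (klog n j)
        have hpl := pow_le_mul hnam hm hm3 ha j hj3 (klog n j) hK
        obtain ⟨u, hu⟩ : ∃ u, (2 * j - 3) * 2 ^ klog n j - n = u + 1 :=
          ⟨(2 * j - 3) * 2 ^ klog n j - n - 1, by omega⟩
        refine Ideal.add_mem _ (Ideal.add_mem _ ?_ ?_) ?_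
        · have := even_gen n i
          rwa [← hj, kprime_eq_klog hnam hm hm3 ha j hj3 hjm hjn] at this
        · rw [hu, pow_succ, mul_assoc]
          exact Ideal.mul_mem_left _ _ (even_g1 n hn hnam hm hm3 ha hl il hil hlidx)
        · apply Ideal.mul_mem_right
          exact even_pow0 n hn hta hpl

include hn hτ1 hτ hnam hm hm3 ha hl hil hta hlidx in
/-- Part (i). -/
theorem even_part1 (q : FreeP n) :
    (∃ w : P n, τ w = w ∧ psi n q = eps n 1 ^ 2 ^ a * w) ↔ q ∈ evenIdeal n := by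
  constructor
  · rintro ⟨w, hw, hq⟩
    obtain ⟨w', rfl⟩ := exists_phi_of_fixed n hn τ hτ1 hτ w hw
    have hker : iot n q + evar n 1 ^ 2 ^ a * w' ∈ RingHom.ker (phi n) := by
      change phi n _ = 0
      rw [map_add, phi_iot, hq, map_mul, map_pow, phi_evar_one n hn]
      exact add_self' _
    rw [ker_phi_eq n hn] at hker
    have hmap := map_rho_le n hn hnam hm hm3 ha hl il hil hta hlidx
      (Ideal.mem_map_of_mem (rho n il (2 ^ a)) hker)
    rw [map_add, rho_iot, map_mul, map_pow, rho_evar_one n hn] at hmap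
    have h2 : X (i0 n hn) ^ 2 ^ a * rho n il (2 ^ a) w' ∈ evenIdeal n :=
      Ideal.mul_mem_right _ _ (even_pow0 n hn hta le_rfl)
    have e : q = (q + X (i0 n hn) ^ 2 ^ a * rho n il (2 ^ a) w') +
        X (i0 n hn) ^ 2 ^ a * rho n il (2 ^ a) w' := by
      have a1 := add_self' (X (i0 n hn) ^ 2 ^ a * rho n il (2 ^ a) w')
      linear_combination (-1 : FreeP n) * a1
    rw [e]
    exact Ideal.add_mem _ hmap h2
  · intro hq
    exact evenIdeal_le_Iq n hn τ hτ1 hτ hnam hm hm3 ha hl il hil hta hlidx hq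

end even3

/-- S17748. -/
theorem even_main (hn : 2 ≤ n)
    (τ : P n →ₐ[ZMod 2] P n) (hτ1 : τ (eps n 1) = eps n 1)
    (hτ : ∀ j : ℕ, 2 ≤ j → j ≤ numVars n → τ (eps n j) = eps n j + eps n 1 ^ (2 * j - 3))
    (ha : 1 ≤ twoExp n) (hne : n ≠ 2 ^ twoExp n) :
    (∀ q : FreeP n,
      (∃ w : P n, τ w = w ∧ psi n q = eps n 1 ^ 2 ^ twoExp n * w) ↔ q ∈ evenIdeal n) ∧
    (∀ z : P n, τ z = z → ∃ q : FreeP n, ∃ w : P n,
      τ w = w ∧ z = psi n q + eps n 1 ^ 2 ^ twoExp n * w) := by
  have hn0 : n ≠ 0 := by omega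
  have hnam := n_eq n
  have hm := oddPart_odd n hn0
  have hm3 : 3 ≤ oddPart n := by
    have h1 : oddPart n ≠ 1 := by
      intro h
      apply hne
      rw [h, mul_one] at hnam
      exact hnam
    omega
  have hl : 2 * lIdx n - 3 = oddPart n := by
    unfold lIdx
    change 2 * ((oddPart n + 3) / 2) - 3 = oddPart n
    omega
  have h2m := two_m_le hnam hm hm3 ha
  have hls : lIdx n ≤ numVars n := by
    unfold numVars
    omega
  have hl3 : 3 ≤ lIdx n := by omega
  let il : Fin (numVars n) := ⟨lIdx n - 1, by omega⟩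
  have hil : il.val + 1 = lIdx n := by
    change lIdx n - 1 + 1 = lIdx n
    omega
  exact ⟨even_part1 n hn τ hτ1 hτ hnam hm hm3 ha hl il hil rfl rfl,
    even_part2 n hn τ hτ1 hτ hnam hm hm3 ha hl il hil⟩

end Groth.Agent.Lib.Helper64.QsKer
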