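import Mathlib
import Groth.Prelude.Def_W4c4chowquasisplitPn2
import Groth.Agent.Lib.Helper64.QsNT

/-!
# More number-theoretic facts on the exponents `klog`, `kprime` (helper64)
-/

set_option autoImplicit false

open QsChow

namespace Groth.Agent.Lib.Helper64.QsNT

/-- For `d = 2j - 3` odd and different from the odd part `m` of `n`, `k'_j = k_j`. -/
theorem kprime_eq_klog' {n a m : ℕ} (hnam : n = 2 ^ a * m) (hm : m % 2 = 1)
    (j : ℕ) (hj3 : 3 ≤ j) (hjm : 2 * j - 3 ≠ m) (hjn : 2 * j - 3 ≤ n) :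
    kprime n j = klog n j := by
  unfold kprime klog
  rw [if_neg (by omega), if_neg (by omega)]
  set d := 2 * j - 3 with hd
  have hdpos : 0 < d := by omega
  have hdodd : d % 2 = 1 := by omega
  apply le_antisymm
  · have hq' : 2 * n / d ≠ 0 := by
      rw [Nat.div_ne_zero_iff]; omega
    have h1 : 2 ^ Nat.log 2 (2 * n / d) ≤ 2 * n / d := Nat.pow_log_le_self 2 hq'
    rw [Nat.le_div_iff_mul_le hdpos] at h1
    have hne : 2 ^ Nat.log 2 (2 * n / d) * d ≠ 2 * n := by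
      intro h
      apply hjm
      have : d * 2 ^ Nat.log 2 (2 * n / d) = m * 2 ^ (a + 1) := by
        rw [mul_comm, h, hnam, pow_succ]; ring
      exact odd_unique hdodd hm this
    apply Nat.le_log_of_pow_le (by norm_num)
    rw [Nat.le_div_iff_mul_le hdpos]
    omega
  · apply Nat.log_mono_right
    apply Nat.div_le_div_right
    omega

theorem mul_pow_ne' {n a m : ℕ} (hnam : n = 2 ^ a * m) (hm : m % 2 = 1)
    (j : ℕ) (hj3 : 3 ≤ j) (hjm : 2 * j - 3 ≠ m) (K : ℕ) :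
    (2 * j - 3) * 2 ^ K ≠ n := by
  intro h
  apply hjm
  have hdodd : (2 * j - 3) % 2 = 1 := by omega
  have : (2 * j - 3) * 2 ^ K = m * 2 ^ a := by rw [h, hnam]; ring
  exact odd_unique hdodd hm this

/-- `k_2 = k'_2 + 1` when `n` is not a power of two. -/
theorem klog_two_eq' {n : ℕ} (hn0 : n ≠ 0) (hnp : ∀ c, 2 ^ c ≠ n) : klog n 2 = kprime n 2 + 1 := by
  unfold klog kprime
  rw [if_neg (by omega), if_pos rfl]
  have : (2 * n - 1) / (2 * 2 - 3) = 2 * n - 1 := by norm_num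
  rw [this]
  set c := Nat.log 2 n with hc
  have h1 : 2 ^ c ≤ n := Nat.pow_log_le_self 2 hn0
  have h2 : n < 2 ^ (c + 1) := Nat.lt_pow_succ_log_self (by norm_num) n
  have hne : 2 ^ c ≠ n := hnp c
  apply Nat.log_eq_of_pow_le_of_lt_pow
  · rw [pow_succ]; omega
  · rw [pow_succ 2 (c + 1)]; omega

theorem n_lt_pow_klog_two' {n : ℕ} (hn0 : n ≠ 0) (hnp : ∀ c, 2 ^ c ≠ n) : n < 2 ^ klog n 2 := by
  rw [klog_two_eq' hn0 hnp]
  unfold kprime
  rw [if_neg (by omega), if_pos rfl]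
  exact Nat.lt_pow_succ_log_self (by norm_num) n

theorem one_le_pow_kprime_two (n : ℕ) : 1 ≤ 2 ^ kprime n 2 := Nat.one_le_two_pow

theorem twoExp_pow (b : ℕ) : twoExp (2 ^ b) = b := by
  unfold twoExp
  exact padicValNat.prime_pow b

theorem klog_two_pow2 (b : ℕ) : klog (2 ^ b) 2 = b := by
  unfold klog
  have : (2 * 2 ^ b - 1) / (2 * 2 - 3) = 2 * 2 ^ b - 1 := by norm_num
  rw [this]
  have h1 : 1 ≤ 2 ^ b := Nat.one_le_two_pow
  apply Nat.log_eq_of_pow_le_of_lt_pow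
  · omega
  · rw [pow_succ]; omega

theorem kprime_two_pow2 (b : ℕ) : kprime (2 ^ b) 2 = b := by
  unfold kprime
  rw [if_neg (by omega), if_pos rfl, Nat.log_pow (by norm_num)]

theorem kprime_one (n : ℕ) : kprime n 1 = twoExp n := by
  unfold kprime; rw [if_pos rfl]

/-- For `n = 2^b`: `(2j-3)·2^K ≥ n` implies `(2j-4)·2^K ≥ n`. -/
theorem pow2_le_mul (b j K : ℕ) (hj3 : 3 ≤ j) (hK : 2 ^ b ≤ (2 * j - 3) * 2 ^ K) :
    2 ^ b ≤ (2 * j - 4) * 2 ^ K := by
  by_cases hKb : b ≤ K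
  · have h1 : 2 ^ b ≤ 2 ^ K := Nat.pow_le_pow_right (by norm_num) hKb
    calc 2 ^ b ≤ 2 ^ K := h1
      _ = 1 * 2 ^ K := (one_mul _).symm
      _ ≤ (2 * j - 4) * 2 ^ K := Nat.mul_le_mul_right _ (by omega)
  · push Not at hKb
    obtain ⟨c, hc⟩ : ∃ c, b = K + (c + 1) := ⟨b - K - 1, by omega⟩
    have e : 2 ^ b = 2 ^ (c + 1) * 2 ^ K := by rw [hc, pow_add]; ring
    rw [e] at hK ⊢
    have hpos : 0 < 2 ^ K := Nat.two_pow_pos K
    have h1 : 2 ^ (c + 1) ≤ 2 * j - 3 := Nat.le_of_mul_le_mul_right hK hpos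
    have h2 : 2 ^ (c + 1) = 2 * 2 ^ c := by rw [pow_succ]; ring
    apply Nat.mul_le_mul_right
    omega

theorem odd_ne_two_pow {n : ℕ} (hodd : n % 2 = 1) (hn : 2 ≤ n) (c : ℕ) : 2 ^ c ≠ n := by
  intro h
  cases c with
  | zero => simp at h; omega
  | succ c => rw [pow_succ] at h; omega

theorem twoExp_odd {n : ℕ} (hodd : n % 2 = 1) : twoExp n = 0 := by
  unfold twoExp
  apply padicValNat.eq_zero_of_not_dvd
  omega

end Groth.Agent.Lib.Helper64.QsNT
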