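import Mathlib
import Groth.Prelude.Def_W4c4chowquasisplitPn2
import Groth.Agent.Lib.Helper27.QsChow2
import Groth.Agent.Lib.Helper64.QsKer3
import Groth.Agent.Lib.Helper64.QsNT
import Groth.Agent.Lib.Helper64.QsNT2
import Groth.Agent.Lib.Helper64.QsEven

/-!
# The presentation of the fixed subalgebra modulo `ε₁` for `n` odd (helper64)
-/

set_option autoImplicit false
set_option linter.unusedSectionVars false

open MvPolynomial QsChow
open Groth.Agent.Lib.Helper27.QsChowLib
open Groth.Agent.Lib.Helper64.QsNT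

namespace Groth.Agent.Lib.Helper64.QsKer

variable (n : ℕ)

section odd

variable (hn : 2 ≤ n)
  (τ : P n →ₐ[ZMod 2] P n) (hτ1 : τ (eps n 1) = eps n 1)
  (hτ : ∀ j : ℕ, 2 ≤ j → j ≤ numVars n → τ (eps n j) = eps n j + eps n 1 ^ (2 * j - 3))
  (hodd : n % 2 = 1)

/-- The ideal of polynomials whose image under `φ` lies in `ε₁^E P^τ`. -/
def IqE (E : ℕ) : Ideal (FreeE n) where
  carrier := {q | InS n τ E (phi n q)}
  add_mem' := by
    intro p q hp hq
    change InS n τ E (phi n (p + q))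
    rw [map_add]; exact inS_add n τ hp hq
  zero_mem' := by
    change InS n τ E (phi n 0)
    rw [map_zero]; exact inS_zero n τ E
  smul_mem' := by
    intro c q hq
    change InS n τ E (phi n (c • q))
    rw [smul_eq_mul, map_mul]
    exact inS_mul_left n τ hq (phi_fixed n hn τ hτ1 hτ c)

theorem mem_IqE (E : ℕ) (q : FreeE n) : q ∈ IqE n hn τ hτ1 hτ E ↔ InS n τ E (phi n q) := Iff.rfl

theorem odd_gen (i : Fin (numVars n)) :
    evar n (i.val + 1) ^ 2 ^ kprime n (i.val + 1) ∈ oddIdeal n := by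
  apply Ideal.subset_span
  exact Set.mem_union_right _ ⟨i, rfl⟩

theorem odd_e1 : evar n 1 ∈ oddIdeal n :=
  Ideal.subset_span (Set.mem_union_left _ (by simp))

theorem odd_x2 : xvar n ^ 2 ∈ oddIdeal n :=
  Ideal.subset_span (Set.mem_union_left _ (by simp))

theorem odd_pow0 {E : ℕ} (h : 1 ≤ E) : evar n 1 ^ E ∈ oddIdeal n := by
  obtain ⟨c, rfl⟩ := Nat.exists_eq_add_of_le h
  rw [pow_add, pow_one]
  exact Ideal.mul_mem_right _ _ (odd_e1 n)

include hn hodd in
theorem hrel_two_odd : ∃ u : ℕ, hrel n 2 = evar n 1 ^ (u + 1) * xvar n +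
    (∑ t ∈ Finset.range (kprime n 2),
        evar n 1 ^ (2 ^ klog n 2 - 2 ^ (t + 1)) * evar n 2 ^ 2 ^ t
      + evar n 2 ^ 2 ^ kprime n 2) := by
  have hn0 : n ≠ 0 := by omega
  have hnp := odd_ne_two_pow hodd hn
  have hk : klog n 2 = kprime n 2 + 1 := klog_two_eq' hn0 hnp
  have hlt : n < 2 ^ klog n 2 := n_lt_pow_klog_two' hn0 hnp
  refine ⟨2 ^ klog n 2 - n - 1, ?_⟩
  have hu : 2 ^ klog n 2 - n - 1 + 1 = 2 ^ klog n 2 - n := by omega
  rw [hu]
  unfold hrel sPoly
  rw [if_pos rfl]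
  congr 1
  conv_lhs => rw [hk, Finset.sum_range_succ]
  congr 1
  rw [hk]
  simp

include hn hodd in
theorem hrel_j_odd (j : ℕ) (hj3 : 3 ≤ j) (hjs : j ≤ numVars n) :
    ∃ u : ℕ, hrel n j = evar n j ^ 2 ^ kprime n j + evar n 1 ^ (u + 1) * xvar n +
      evar n 1 ^ ((2 * j - 4) * 2 ^ klog n j) * sPoly n j := by
  have hnam : n = 2 ^ 0 * n := by simp
  have hjn : 2 * j - 3 ≤ n := by unfold numVars at hjs; omega
  have hjm : 2 * j - 3 ≠ n := by unfold numVars at hjs; omega
  have hK := klog_spec n hn j (by omega) hjs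
  have hne := mul_pow_ne' hnam hodd j hj3 hjm (klog n j)
  refine ⟨(2 * j - 3) * 2 ^ klog n j - n - 1, ?_⟩
  have hu : (2 * j - 3) * 2 ^ klog n j - n - 1 + 1 = (2 * j - 3) * 2 ^ klog n j - n := by omega
  rw [hu, kprime_eq_klog' hnam hodd j hj3 hjm hjn]
  unfold hrel
  rw [if_neg (by omega), if_pos ⟨hj3, hjs⟩]

include hn hτ1 hτ hodd in
theorem oddIdeal_le_IqE : oddIdeal n ≤ IqE n hn τ hτ1 hτ 1 := by
  unfold oddIdeal
  rw [Ideal.span_le]
  rintro q (hq | ⟨i, rfl⟩)
  · rcases hq with rfl | rfl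
    · rw [SetLike.mem_coe, mem_IqE, phi_evar_one n hn]
      exact ⟨1, map_one τ, by ring⟩
    · rw [SetLike.mem_coe, mem_IqE]
      have hz : phi n (xvar n ^ 2) = 0 := presIdeal_le_ker n hn (gen3_mem n)
      rw [hz]; exact inS_zero n τ 1
  · rw [SetLike.mem_coe, mem_IqE]
    change InS n τ 1 (phi n (evar n (i.val + 1) ^ 2 ^ kprime n (i.val + 1)))
    by_cases c0 : i.val = 0
    · rw [c0, kprime_one, twoExp_odd hodd, pow_zero, pow_one, phi_evar_one n hn]
      exact ⟨1, map_one τ, by ring⟩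
    by_cases c1 : i.val = 1
    · rw [c1, show (1 + 1 : ℕ) = 2 from rfl]
      obtain ⟨u, hu⟩ := hrel_two_odd n hn hodd
      have h0 := phi_hrel_two n hn
      rw [hu, map_add, map_add] at h0
      have hz : phi n (evar n 1 ^ (u + 1) * xvar n) = 0 := by
        have := phi_e1_x_mul n hn u 1
        rwa [mul_one] at this
      rw [hz, zero_add] at h0
      have e : phi n (evar n 2 ^ 2 ^ kprime n 2) = phi n (∑ t ∈ Finset.range (kprime n 2),
          evar n 1 ^ (2 ^ klog n 2 - 2 ^ (t + 1)) * evar n 2 ^ 2 ^ t) := by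
        have a1 := add_self' (phi n (evar n 2 ^ 2 ^ kprime n 2))
        linear_combination (-1 : P n) * h0 + a1
      rw [e, map_sum]
      apply inS_sum
      intro t ht
      apply inS_phi_e1_mul n hn τ hτ1 hτ
      have hn0 : n ≠ 0 := by omega
      have hk : klog n 2 = kprime n 2 + 1 := klog_two_eq' hn0 (odd_ne_two_pow hodd hn)
      have ht' : t + 1 ≤ kprime n 2 := Finset.mem_range.mp ht
      have h1 : 2 ^ (t + 1) ≤ 2 ^ kprime n 2 := Nat.pow_le_pow_right (by norm_num) ht'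
      have h2 : 1 ≤ 2 ^ kprime n 2 := Nat.one_le_two_pow
      rw [hk, pow_succ]
      omega
    · have hj3 : 3 ≤ i.val + 1 := by omega
      have hjs : i.val + 1 ≤ numVars n := i.isLt
      obtain ⟨u, hu⟩ := hrel_j_odd n hn hodd (i.val + 1) hj3 hjs
      have h0 := phi_hrel_ge_three n hn (i.val + 1) hj3 hjs
      rw [hu, map_add, map_add] at h0
      have hz : phi n (evar n 1 ^ (u + 1) * xvar n) = 0 := by
        have := phi_e1_x_mul n hn u 1
        rwa [mul_one] at this
      rw [hz, add_zero] at h0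
      have e : phi n (evar n (i.val + 1) ^ 2 ^ kprime n (i.val + 1)) =
          phi n (evar n 1 ^ ((2 * (i.val + 1) - 4) * 2 ^ klog n (i.val + 1)) *
            sPoly n (i.val + 1)) := by
        have a1 := add_self' (phi n (evar n 1 ^ ((2 * (i.val + 1) - 4) *
          2 ^ klog n (i.val + 1)) * sPoly n (i.val + 1)))
        linear_combination h0 - a1
      rw [e]
      apply inS_phi_e1_mul n hn τ hτ1 hτ
      have h2 : 1 ≤ 2 ^ klog n (i.val + 1) := Nat.one_le_two_pow
      calc 1 ≤ 2 ^ klog n (i.val + 1) := h2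
        _ = 1 * 2 ^ klog n (i.val + 1) := (one_mul _).symm
        _ ≤ (2 * (i.val + 1) - 4) * 2 ^ klog n (i.val + 1) :=
          Nat.mul_le_mul_right _ (by omega)

include hn hodd in
theorem presIdeal_le_oddIdeal : presIdeal n ≤ oddIdeal n := by
  unfold presIdeal
  rw [Ideal.span_le]
  rintro g (hg | ⟨i, rfl⟩)
  · rcases hg with rfl | rfl | rfl
    · exact odd_pow0 n (by omega)
    · exact Ideal.mul_mem_right _ _ (odd_e1 n)
    · exact odd_x2 n
  · change hrel n (i.val + 1) ∈ oddIdeal n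
    by_cases c0 : i.val = 0
    · rw [c0, hrel_one]; exact Ideal.zero_mem _
    by_cases c1 : i.val = 1
    · rw [c1, show (1 + 1 : ℕ) = 2 from rfl]
      obtain ⟨u, hu⟩ := hrel_two_odd n hn hodd
      rw [hu]
      have hn0 : n ≠ 0 := by omega
      have hk : klog n 2 = kprime n 2 + 1 := klog_two_eq' hn0 (odd_ne_two_pow hodd hn)
      refine Ideal.add_mem _ ?_ (Ideal.add_mem _ (Ideal.sum_mem _ fun t ht => ?_) ?_)
      · exact Ideal.mul_mem_right _ _ (odd_pow0 n (by omega))
      · apply Ideal.mul_mem_right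
        apply odd_pow0
        have ht' : t + 1 ≤ kprime n 2 := Finset.mem_range.mp ht
        have h1 : 2 ^ (t + 1) ≤ 2 ^ kprime n 2 := Nat.pow_le_pow_right (by norm_num) ht'
        have h2 : 1 ≤ 2 ^ kprime n 2 := Nat.one_le_two_pow
        rw [hk, pow_succ]
        omega
      · exact odd_gen n (i1 n hn)
    · have hj3 : 3 ≤ i.val + 1 := by omega
      have hjs : i.val + 1 ≤ numVars n := i.isLt
      obtain ⟨u, hu⟩ := hrel_j_odd n hn hodd (i.val + 1) hj3 hjs
      rw [hu]
      refine Ideal.add_mem _ (Ideal.add_mem _ (odd_gen n i) ?_) ?_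
      · exact Ideal.mul_mem_right _ _ (odd_pow0 n (by omega))
      · apply Ideal.mul_mem_right
        apply odd_pow0
        have h2 : 1 ≤ 2 ^ klog n (i.val + 1) := Nat.one_le_two_pow
        calc 1 ≤ 2 ^ klog n (i.val + 1) := h2
          _ = 1 * 2 ^ klog n (i.val + 1) := (one_mul _).symm
          _ ≤ (2 * (i.val + 1) - 4) * 2 ^ klog n (i.val + 1) :=
            Nat.mul_le_mul_right _ (by omega)

include hn hτ1 hτ hodd in
/-- S17747. -/
theorem odd_main (q : FreeE n) :
    (∃ w : P n, τ w = w ∧ phi n q = eps n 1 * w) ↔ q ∈ oddIdeal n := by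
  constructor
  · rintro ⟨w, hw, hq⟩
    obtain ⟨w', rfl⟩ := exists_phi_of_fixed n hn τ hτ1 hτ w hw
    have hker : q + evar n 1 * w' ∈ RingHom.ker (phi n) := by
      change phi n _ = 0
      rw [map_add, hq, map_mul, phi_evar_one n hn]
      exact add_self' _
    rw [ker_phi_eq n hn] at hker
    have h1 := presIdeal_le_oddIdeal n hn hodd hker
    have h2 : evar n 1 * w' ∈ oddIdeal n := Ideal.mul_mem_right _ _ (odd_e1 n)
    have e : q = (q + evar n 1 * w') + evar n 1 * w' := by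
      have a1 := add_self' (evar n 1 * w')
      linear_combination (-1 : FreeE n) * a1
    rw [e]
    exact Ideal.add_mem _ h1 h2
  · intro hq
    obtain ⟨w, hw, h⟩ := oddIdeal_le_IqE n hn τ hτ1 hτ hodd hq
    exact ⟨w, hw, by rw [h, pow_one]⟩

end odd

end Groth.Agent.Lib.Helper64.QsKer
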