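import Mathlib
import Groth.Prelude.Def_W4c4chowquasisplitPn2
import Groth.Agent.Lib.Helper27.QsChow2
import Groth.Agent.Lib.Helper64.QsKer3
import Groth.Agent.Lib.Helper64.QsNT
import Groth.Agent.Lib.Helper64.QsNT2
import Groth.Agent.Lib.Helper64.QsEven

/-!
# The presentation of the fixed subalgebra for `n` a power of two (helper64)
-/

set_option autoImplicit false
set_option linter.unusedSectionVars false

open MvPolynomial QsChow
open Groth.Agent.Lib.Helper27.QsChowLib
open Groth.Agent.Lib.Helper64.QsNT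

namespace Groth.Agent.Lib.Helper64.QsKer

variable (n : ℕ)

/-- The retraction sending `x` to `g`. -/
noncomputable def rhoG (g : FreeP n) : FreeE n →ₐ[ZMod 2] FreeP n :=
  aeval (fun v => Option.elim v g X)

theorem rhoG_X_some (g : FreeP n) (i' : Fin (numVars n)) : rhoG n g (X (some i')) = X i' := by
  unfold rhoG; rw [aeval_X]; rfl

theorem rhoG_X_none (g : FreeP n) : rhoG n g (X none) = g := by
  unfold rhoG; rw [aeval_X]; rfl

theorem rhoG_iot (g : FreeP n) (q : FreeP n) : rhoG n g (iot n q) = q := by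
  unfold rhoG iot
  rw [aeval_rename]
  have : ((fun v : Option (Fin (numVars n)) => Option.elim v g X) ∘ some) =
      (X : Fin (numVars n) → FreeP n) := rfl
  rw [this, aeval_X_left]
  rfl

theorem rhoG_evar_succ (g : FreeP n) (i' : Fin (numVars n)) :
    rhoG n g (evar n (i'.val + 1)) = X i' := by
  rw [evar_succ, rhoG_X_some]

theorem rhoG_xvar (g : FreeP n) : rhoG n g (xvar n) = g := rhoG_X_none n g

theorem rhoG_evar_one (hn : 2 ≤ n) (g : FreeP n) : rhoG n g (evar n 1) = X (i0 n hn) := by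
  rw [evar_one n hn, rhoG_X_some]

theorem rhoG_evar_two (hn : 2 ≤ n) (g : FreeP n) : rhoG n g (evar n 2) = X (i1 n hn) := by
  rw [evar_two n hn, rhoG_X_some]

/-- The polynomial `S` in `F_2[e_1, …, e_s]`. -/
noncomputable def sP (hn : 2 ≤ n) (k : ℕ) : FreeP n :=
  ∑ t ∈ Finset.range k, X (i0 n hn) ^ (2 ^ k - 2 ^ (t + 1)) * X (i1 n hn) ^ 2 ^ t

theorem iot_sP (hn : 2 ≤ n) (j : ℕ) : iot n (sP n hn (klog n j)) = sPoly n j := by
  unfold sP sPoly
  rw [map_sum]
  refine Finset.sum_congr rfl fun t _ => ?_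
  rw [map_mul, map_pow, map_pow, iot_X, iot_X, ← evar_one n hn, ← evar_two n hn]

theorem rhoG_sPoly (hn : 2 ≤ n) (g : FreeP n) (j : ℕ) :
    rhoG n g (sPoly n j) = sP n hn (klog n j) := by
  rw [← iot_sP n hn j, rhoG_iot]

section pow2

variable (hn : 2 ≤ n)
  (τ : P n →ₐ[ZMod 2] P n) (hτ1 : τ (eps n 1) = eps n 1)
  (hτ : ∀ j : ℕ, 2 ≤ j → j ≤ numVars n → τ (eps n j) = eps n j + eps n 1 ^ (2 * j - 3))
  (b : ℕ) (hb : 1 ≤ b) (hnb : n = 2 ^ b)

include hnb in
theorem klog_two_b : klog n 2 = b := by rw [hnb]; exact klog_two_pow2 b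

include hnb in
theorem kprime_two_b : kprime n 2 = b := by rw [hnb]; exact kprime_two_pow2 b

include hnb in
theorem kprime_one_b : kprime n 1 = b := by rw [kprime_one, hnb]; exact twoExp_pow b

include hnb in
theorem hrel_two_b : hrel n 2 = xvar n + sPoly n 2 := by
  unfold hrel
  rw [if_pos rfl, klog_two_b n b hnb]
  have : 2 ^ b - n = 0 := by rw [hnb]; simp
  rw [this, pow_zero, one_mul]

include hn hnb in
theorem phi_x_b : phi n (xvar n) = phi n (sPoly n 2) := by
  have h := phi_hrel_two n hn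
  rw [hrel_two_b n b hnb, map_add] at h
  have a1 := add_self' (phi n (sPoly n 2))
  linear_combination h - a1

include hn hnb in
theorem phi_eq_psi_rhoG (f : FreeE n) : phi n f = psi n (rhoG n (sP n hn b) f) := by
  have h : phi n = (psi n).comp (rhoG n (sP n hn b)) := by
    apply MvPolynomial.algHom_ext
    intro v
    rw [AlgHom.comp_apply]
    cases v with
    | some i => rw [rhoG_X_some, psi_X]
    | none =>
      rw [rhoG_X_none, ← phi_iot, ← klog_two_b n b hnb, iot_sP, ← phi_x_b n hn b hnb]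
      rfl
  rw [h, AlgHom.comp_apply]

include hn hτ1 hτ hnb in
theorem range_psi_b : (psi n).range = AlgHom.equalizer τ (AlgHom.id (ZMod 2) (P n)) := by
  ext z
  rw [AlgHom.mem_range, AlgHom.mem_equalizer]
  constructor
  · rintro ⟨q, rfl⟩
    exact psi_fixed n hn τ hτ1 hτ q
  · intro hz
    obtain ⟨f, rfl⟩ := exists_phi_of_fixed n hn τ hτ1 hτ z hz
    exact ⟨rhoG n (sP n hn b) f, (phi_eq_psi_rhoG n hn b hnb f).symm⟩

theorem pow_gen (i : Fin (numVars n)) : X i ^ 2 ^ kprime n (i.val + 1) ∈ powIdeal n := by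
  apply Ideal.subset_span
  refine Set.mem_union_right _ ⟨i, ?_⟩
  change evarE n (i.val + 1) ^ 2 ^ kprime n (i.val + 1) = _
  rw [evarE_succ]

include hnb in
theorem pow_g1 : X (i0 n hn) * sP n hn b ∈ powIdeal n := by
  apply Ideal.subset_span
  refine Set.mem_union_left _ ?_
  rw [Set.mem_singleton_iff, kprime_two_b n b hnb]
  have e1 : evarE n 1 = X (i0 n hn) := evarE_succ n (i0 n hn)
  have e2 : evarE n 2 = X (i1 n hn) := evarE_succ n (i1 n hn)
  rw [e1, e2]
  rfl

include hnb in
theorem pow_pow0 {E : ℕ} (h : n ≤ E) : X (i0 n hn) ^ E ∈ powIdeal n := by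
  obtain ⟨c, rfl⟩ := Nat.exists_eq_add_of_le h
  rw [pow_add]
  apply Ideal.mul_mem_right
  have := pow_gen n (i0 n hn)
  have hk : kprime n ((i0 n hn).val + 1) = b := kprime_one_b n b hnb
  rw [hk, ← hnb] at this
  exact this

include hn hnb in
theorem psi_X_i (i : Fin (numVars n)) (h0 : i.val ≠ 0) (h1 : i.val ≠ 1) :
    psi n (X i) = eps n (i.val + 1) + eps n 1 ^ (2 * (i.val + 1) - 4) * eps n 2 := by
  rw [psi_X, phi_X, genImage_some, if_neg h0, if_neg h1]

include hn hb hnb in
theorem powIdeal_le_ker : powIdeal n ≤ RingHom.ker (psi n) := by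
  unfold powIdeal
  rw [Ideal.span_le]
  rintro q (hq | ⟨i, rfl⟩)
  · rw [Set.mem_singleton_iff] at hq
    subst hq
    change psi n _ = 0
    rw [kprime_two_b n b hnb]
    have e1 : evarE n 1 = X (i0 n hn) := evarE_succ n (i0 n hn)
    have e2 : evarE n 2 = X (i1 n hn) := evarE_succ n (i1 n hn)
    rw [e1, e2]
    change psi n (X (i0 n hn) * sP n hn b) = 0
    rw [← phi_iot, map_mul, iot_X, ← klog_two_b n b hnb, iot_sP, map_mul, ← phi_x_b n hn b hnb,
      ← map_mul, ← evar_one n hn]
    exact presIdeal_le_ker n hn (gen2_mem n)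
  · change psi n (evarE n (i.val + 1) ^ 2 ^ kprime n (i.val + 1)) = 0
    rw [evarE_succ, map_pow]
    by_cases c0 : i.val = 0
    · have hi : i = i0 n hn := Fin.ext c0
      rw [c0, kprime_one_b n b hnb, hi, psi_X, ← evar_one n hn, phi_evar_one n hn, ← hnb,
        eps_one_pow n hn]
    by_cases c1 : i.val = 1
    · have hi : i = i1 n hn := Fin.ext c1
      rw [c1, kprime_two_b n b hnb, hi, psi_X, ← evar_two n hn, phi_evar_two n hn,
        add_pow_two_pow, ← pow_mul, mul_pow]
      have h0 := eps_pow_bound n 2 le_rfl (numVars_ge n hn)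
      rw [klog_two_b n b hnb] at h0
      rw [mul_comm 2 (2 ^ b), pow_mul, h0]
      simp
    · have hj3 : 3 ≤ i.val + 1 := by omega
      have hjs : i.val + 1 ≤ numVars n := i.isLt
      set j := i.val + 1 with hj
      have hnam : n = 2 ^ b * 1 := by rw [mul_one]; exact hnb
      have hjn : 2 * j - 3 ≤ n := by unfold numVars at hjs; omega
      rw [kprime_eq_klog' hnam (by norm_num) j hj3 (by omega) hjn,
        psi_X_i n hn b hnb i c0 c1, add_pow_two_pow, mul_pow, ← pow_mul]
      have h0 := eps_pow_bound n j (by omega) hjs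
      have hK := klog_spec n hn j (by omega) hjs
      have hle : n ≤ (2 * j - 4) * 2 ^ klog n j := by
        have := pow2_le_mul b j (klog n j) hj3 (by rw [← hnb]; exact hK)
        rwa [← hnb] at this
      rw [← hj, h0, eps_one_pow_of_le n hn hle]
      simp

include hn hb hnb in
theorem map_rhoG_le : Ideal.map (rhoG n (sP n hn b)) (presIdeal n) ≤ powIdeal n := by
  unfold presIdeal
  rw [Ideal.map_span, Ideal.span_le]
  rintro _ ⟨g, hg, rfl⟩
  rcases hg with (hg | ⟨i, rfl⟩)
  · rcases hg with rfl | rfl | rfl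
    · change rhoG n (sP n hn b) (evar n 1 ^ n) ∈ powIdeal n
      rw [map_pow, rhoG_evar_one n hn]
      exact pow_pow0 n hn b hnb le_rfl
    · change rhoG n (sP n hn b) (evar n 1 * xvar n) ∈ powIdeal n
      rw [map_mul, rhoG_evar_one n hn, rhoG_xvar]
      exact pow_g1 n hn b hnb
    · change rhoG n (sP n hn b) (xvar n ^ 2) ∈ powIdeal n
      rw [map_pow, rhoG_xvar]
      unfold sP
      rw [sum_sq']
      obtain ⟨b', hb'⟩ : ∃ b', b = b' + 1 := ⟨b - 1, by omega⟩
      rw [hb', Finset.sum_range_succ]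
      refine Ideal.add_mem _ (Ideal.sum_mem _ fun t ht => ?_) ?_
      · rw [mul_pow, ← pow_mul]
        apply Ideal.mul_mem_right
        apply pow_pow0 n hn b hnb
        have ht' : t + 1 ≤ b' := Finset.mem_range.mp ht
        have h1 : 2 ^ (t + 1) ≤ 2 ^ b' := Nat.pow_le_pow_right (by norm_num) ht'
        rw [hnb, hb', pow_succ]
        omega
      · rw [mul_pow, ← pow_mul, ← pow_mul]
        have h0 : (2 ^ (b' + 1) - 2 ^ (b' + 1)) * 2 = 0 := by simp
        rw [h0, pow_zero, one_mul, ← pow_succ, ← hb']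
        have := pow_gen n (i1 n hn)
        have hk : kprime n ((i1 n hn).val + 1) = b := kprime_two_b n b hnb
        rwa [hk] at this
  · change rhoG n (sP n hn b) (hrel n (i.val + 1)) ∈ powIdeal n
    by_cases c0 : i.val = 0
    · rw [c0, hrel_one, map_zero]; exact Ideal.zero_mem _
    by_cases c1 : i.val = 1
    · rw [c1, show (1 + 1 : ℕ) = 2 from rfl, hrel_two_b n b hnb, map_add, rhoG_xvar,
        rhoG_sPoly n hn, klog_two_b n b hnb, add_self']
      exact Ideal.zero_mem _
    · have hj3 : 3 ≤ i.val + 1 := by omega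
      have hjs : i.val + 1 ≤ numVars n := i.isLt
      have hrelj : hrel n (i.val + 1) = evar n (i.val + 1) ^ 2 ^ klog n (i.val + 1) +
          evar n 1 ^ ((2 * (i.val + 1) - 3) * 2 ^ klog n (i.val + 1) - n) * xvar n +
          evar n 1 ^ ((2 * (i.val + 1) - 4) * 2 ^ klog n (i.val + 1)) * sPoly n (i.val + 1) := by
        unfold hrel
        rw [if_neg (by omega), if_pos ⟨hj3, hjs⟩]
      rw [hrelj, map_add, map_add, map_mul, map_mul, map_pow, map_pow, map_pow,
        rhoG_evar_one n hn, rhoG_xvar, rhoG_evar_succ]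
      set j := i.val + 1 with hj
      have hnam : n = 2 ^ b * 1 := by rw [mul_one]; exact hnb
      have hjn : 2 * j - 3 ≤ n := by unfold numVars at hjs; omega
      have hK := klog_spec n hn j (by omega) hjs
      have hne := mul_pow_ne' hnam (by norm_num) j hj3 (by omega) (klog n j)
      have hle : n ≤ (2 * j - 4) * 2 ^ klog n j := by
        have := pow2_le_mul b j (klog n j) hj3 (by rw [← hnb]; exact hK)
        rwa [← hnb] at this
      obtain ⟨u, hu⟩ : ∃ u, (2 * j - 3) * 2 ^ klog n j - n = u + 1 :=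
        ⟨(2 * j - 3) * 2 ^ klog n j - n - 1, by omega⟩
      refine Ideal.add_mem _ (Ideal.add_mem _ ?_ ?_) ?_
      · have := pow_gen n i
        rwa [← hj, kprime_eq_klog' hnam (by norm_num) j hj3 (by omega) hjn] at this
      · rw [hu, pow_succ, mul_assoc]
        exact Ideal.mul_mem_left _ _ (pow_g1 n hn b hnb)
      · apply Ideal.mul_mem_right
        exact pow_pow0 n hn b hnb hle

include hn hb hnb in
theorem ker_psi_b : RingHom.ker (psi n) = powIdeal n := by
  apply le_antisymm
  · intro q hq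
    have hq' : psi n q = 0 := hq
    have hker : iot n q ∈ RingHom.ker (phi n) := by
      change phi n _ = 0
      rw [phi_iot, hq']
    rw [ker_phi_eq n hn] at hker
    have hmap := map_rhoG_le n hn b hb hnb (Ideal.mem_map_of_mem (rhoG n (sP n hn b)) hker)
    rwa [rhoG_iot] at hmap
  · exact powIdeal_le_ker n hn b hb hnb

include hn hτ1 hτ hb hnb in
/-- S17749. -/
theorem pow_main : (psi n).range = AlgHom.equalizer τ (AlgHom.id (ZMod 2) (P n)) ∧
    RingHom.ker (psi n) = powIdeal n :=
  ⟨range_psi_b n hn τ hτ1 hτ b hnb, ker_psi_b n hn b hb hnb⟩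

end pow2

end Groth.Agent.Lib.Helper64.QsKer
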