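import Mathlib

/-! Counting pairs of binary forms with nonvanishing resultant over a finite field (helper64). -/

set_option autoImplicit false
open Finset Polynomial

namespace Groth.Agent.Lib.Helper64.ResCount

/-- fibres of a surjective additive hom have the same cardinality: counting preimages -/
theorem card_preimage_mul_card {V W : Type*} [AddCommGroup V] [AddCommGroup W] [Fintype V]
    [Fintype W] [DecidableEq W] (φ : V →+ W) (hφ : Function.Surjective φ) (A : W → Prop)
    [DecidablePred A] :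
    (univ.filter fun v => A (φ v)).card * Fintype.card W =
      (univ.filter A).card * Fintype.card V := by
  classical
  set k := (univ.filter fun v : V => φ v = 0).card with hk
  have hfib : ∀ w : W, (univ.filter fun v : V => φ v = w).card = k := fun w =>
    AddMonoidHom.card_fiber_eq_of_mem_range φ (hφ w) (hφ 0)
  have h1 : (univ.filter fun v => A (φ v)).card = (univ.filter A).card * k := by
    rw [Finset.card_eq_sum_card_fiberwise (f := φ) (t := univ.filter A)
      (fun x hx => by simpa using hx)]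
    rw [Finset.sum_congr rfl (g := fun _ => k)]
    · simp
    · intro w hw
      rw [← hfib w]
      congr 1
      ext v
      simp only [mem_filter, mem_univ, true_and]
      constructor
      · rintro ⟨_, h⟩; exact h
      · intro h; exact ⟨by rw [h]; simpa using hw, h⟩
  have h2 : Fintype.card V = Fintype.card W * k := by
    rw [← Finset.card_univ (α := V), Finset.card_eq_sum_card_fiberwise (f := φ) (t := univ)
      (fun x _ => mem_univ _)]
    simp [hfib]
  rw [h1, h2]; ring

theorem card_preimage_eq {V W : Type*} [AddCommGroup V] [AddCommGroup W] [Fintype V] [Fintype W]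
    [DecidableEq W] (φ : V →+ W) (hφ : Function.Surjective φ) (A : W → Prop) [DecidablePred A]
    (q a b : ℕ) (hq : 0 < q) (hV : Fintype.card V = q ^ a) (hW : Fintype.card W = q ^ b)
    (hab : b ≤ a) :
    (univ.filter fun v => A (φ v)).card = (univ.filter A).card * q ^ (a - b) := by
  have h := card_preimage_mul_card φ hφ A
  rw [hV, hW] at h
  have e : q ^ a = q ^ (a - b) * q ^ b := by rw [← pow_add]; congr 1; omega
  rw [e, ← mul_assoc] at h
  exact Nat.eq_of_mul_eq_mul_right (pow_pos hq b) h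

section counts

variable {F : Type*} [Field F] [Fintype F] [DecidableEq F]

theorem card_filter_ne_zero : (univ.filter fun x : F => x ≠ 0).card = Fintype.card F - 1 := by
  rw [Finset.filter_ne', Finset.card_erase_of_mem (mem_univ _), Finset.card_univ]

theorem card_filter_ne_zero_pair :
    (univ.filter fun w : F × F => w.1 ≠ 0 ∧ w.2 ≠ 0).card = (Fintype.card F - 1) ^ 2 := by
  have : (univ.filter fun w : F × F => w.1 ≠ 0 ∧ w.2 ≠ 0) =
      (univ.filter fun x : F => x ≠ 0) ×ˢ (univ.filter fun x : F => x ≠ 0) := by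
    ext w; simp
  rw [this, Finset.card_product, card_filter_ne_zero, sq]

theorem sum_ite_ne_zero (A B : ℕ) :
    ∑ x : F, (if x ≠ 0 then A else B) = (Fintype.card F - 1) * A + B := by
  rw [Finset.sum_ite, Finset.sum_const, Finset.sum_const, card_filter_ne_zero]
  have : (univ.filter fun x : F => ¬ x ≠ 0) = {0} := by
    ext x; simp
  rw [this]; simp

end counts


section poly

variable {F : Type*} [Field F]

/-- polynomial with given coefficient vector -/
noncomputable def P {k : ℕ} (b : Fin k → F) : F[X] := ∑ i : Fin k, C (b i) * X ^ (i : ℕ)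

theorem P_coeff {k : ℕ} (b : Fin k → F) (j : ℕ) :
    (P b).coeff j = if h : j < k then b ⟨j, h⟩ else 0 := by
  unfold P
  rw [Polynomial.finsetSum_coeff]
  simp only [coeff_C_mul, coeff_X_pow]
  split_ifs with h
  · rw [Finset.sum_eq_single ⟨j, h⟩]
    · simp
    · intro i _ hi
      have : j ≠ (i : ℕ) := fun e => hi (Fin.ext e.symm)
      simp [this]
    · simp
  · apply Finset.sum_eq_zero
    intro i _
    have : j ≠ (i : ℕ) := fun e => h (e ▸ i.2)
    simp [this]

theorem P_natDegree_le {k : ℕ} (b : Fin (k + 1) → F) : (P b).natDegree ≤ k := by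
  rw [Polynomial.natDegree_le_iff_coeff_eq_zero]
  intro j hj
  rw [P_coeff, dif_neg (by omega)]

theorem P_degree_lt {k : ℕ} (b : Fin k → F) : (P b).degree < k := by
  rw [Polynomial.degree_lt_iff_coeff_zero]
  intro j hj
  rw [P_coeff, dif_neg (by omega)]

theorem P_add {k : ℕ} (b b' : Fin k → F) : P (b + b') = P b + P b' := by
  unfold P
  rw [← Finset.sum_add_distrib]
  refine Finset.sum_congr rfl fun i _ => ?_
  simp [add_mul]

/-- coefficient vector of a polynomial -/
def toVec (k : ℕ) (p : F[X]) : Fin k → F := fun i => p.coeff i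

theorem P_toVec {k : ℕ} (p : F[X]) (hp : p.degree < k) : P (toVec k p) = p := by
  ext j
  rw [P_coeff]
  split_ifs with h
  · rfl
  · exact (Polynomial.coeff_eq_zero_of_degree_lt (lt_of_lt_of_le hp (by exact_mod_cast not_lt.mp h))).symm

theorem toVec_P {k : ℕ} (b : Fin k → F) : toVec k (P b) = b := by
  ext i
  simp [toVec, P_coeff]

theorem toVec_add {k : ℕ} (p p' : F[X]) : toVec k (p + p') = toVec k p + toVec k p' := by
  ext i; simp [toVec]

/-- the quadratic polynomial with given coefficients -/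
noncomputable def quad (a₀ a₁ a₂ : F) : F[X] := C a₀ + C a₁ * X + C a₂ * X ^ 2

theorem P_three (a : Fin 3 → F) : P a = quad (a 0) (a 1) (a 2) := by
  unfold P quad
  rw [Fin.sum_univ_three]
  simp

theorem quad_coeff_two (a₀ a₁ a₂ : F) : (quad a₀ a₁ a₂).coeff 2 = a₂ := by
  simp [quad]

theorem quad_coeff_one (a₀ a₁ a₂ : F) : (quad a₀ a₁ a₂).coeff 1 = a₁ := by
  simp [quad, coeff_C, coeff_X_pow]

theorem quad_coeff_zero (a₀ a₁ a₂ : F) : (quad a₀ a₁ a₂).coeff 0 = a₀ := by
  simp [quad, coeff_X, coeff_C, coeff_X_pow]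

theorem quad_natDegree_le (a₀ a₁ a₂ : F) : (quad a₀ a₁ a₂).natDegree ≤ 2 := by
  unfold quad
  compute_degree

theorem quad_degree_eq (a₀ a₁ a₂ : F) (h : a₂ ≠ 0) : (quad a₀ a₁ a₂).degree = 2 := by
  unfold quad
  compute_degree!

theorem quad_zero_natDegree_le (a₀ a₁ : F) : (quad a₀ a₁ 0).natDegree ≤ 1 := by
  unfold quad
  simp only [map_zero, zero_mul, add_zero]
  compute_degree

/-- explicit `Res_{2,1}` -/
theorem resultant_two_one (f r : F[X]) :
    resultant f r 2 1 = f.coeff 2 * r.coeff 0 ^ 2 - f.coeff 1 * r.coeff 0 * r.coeff 1 +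
      f.coeff 0 * r.coeff 1 ^ 2 := by
  rw [resultant, Matrix.det_fin_three]
  simp [sylvester, Fin.addCases, Set.mem_Icc]
  ring


/-- reduction of the second argument modulo a genuinely quadratic first argument -/
theorem resultant_quad_mod (a₀ a₁ a₂ : F) (h : a₂ ≠ 0) (n : ℕ) (hn : 2 ≤ n) (g : F[X])
    (hg : g.natDegree ≤ n) :
    resultant (quad a₀ a₁ a₂) g 2 n =
      a₂ ^ (n - 1) * resultant (quad a₀ a₁ a₂) (g % quad a₀ a₁ a₂) 2 1 := by
  set f := quad a₀ a₁ a₂ with hf
  have hfdeg : f.degree = 2 := quad_degree_eq a₀ a₁ a₂ h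
  have hf0 : f ≠ 0 := by
    intro h0; rw [h0, degree_zero] at hfdeg; exact absurd hfdeg (by decide)
  have hfnat : f.natDegree ≤ 2 := quad_natDegree_le a₀ a₁ a₂
  have hfnat' : f.natDegree = 2 := natDegree_eq_of_degree_eq_some hfdeg
  have hdiv : (g / f).natDegree + 2 ≤ n := by
    by_cases hlt : g.degree < f.degree
    · rw [(Polynomial.div_eq_zero_iff hf0).mpr hlt]; simpa using hn
    · have h1 := degree_add_div hf0 (not_lt.mp hlt)
      have hg0 : g ≠ 0 := by
        intro h0; rw [h0, degree_zero] at hlt; exact hlt (bot_lt_iff_ne_bot.mpr (by rw [hfdeg]; decide))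
      have hq0 : g / f ≠ 0 := by
        intro h0; exact hlt ((Polynomial.div_eq_zero_iff hf0).mp h0)
      rw [degree_eq_natDegree hf0, degree_eq_natDegree hq0, degree_eq_natDegree hg0,
        ← Nat.cast_add, Nat.cast_inj] at h1
      omega
  have hmod : (g % f).natDegree ≤ 1 := by
    have h1 := degree_mod_lt g hf0
    rw [hfdeg] at h1
    by_cases h0 : g % f = 0
    · rw [h0]; simp
    · rw [degree_eq_natDegree h0] at h1
      have : (g % f).natDegree < 2 := by exact_mod_cast h1
      omega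
  have e1 : g = g % f + f * (g / f) := by
    rw [add_comm]; exact (EuclideanDomain.div_add_mod g f).symm
  conv_lhs => rw [e1]
  rw [resultant_add_mul_right f (g % f) (g / f) 2 n hdiv hfnat]
  have e2 : n = 1 + (n - 1) := by omega
  conv_lhs => rw [e2]
  rw [resultant_add_right_deg f (g % f) 2 1 (n - 1) hmod, hf, quad_coeff_two]

/-- the case of vanishing top coefficient, `a₁ ≠ 0` -/
theorem resultant_quad_zero_ne (a₀ a₁ : F) (h : a₁ ≠ 0) (n : ℕ) (g : F[X])
    (hg : g.natDegree ≤ n) :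
    resultant (quad a₀ a₁ 0) g 2 n = (-1) ^ n * g.coeff n * (a₁ ^ n * g.eval (-(a₀ / a₁))) := by
  have hfnat : (quad a₀ a₁ 0).natDegree ≤ 1 := quad_zero_natDegree_le a₀ a₁
  rw [resultant_succ_left_deg _ g 1 n hfnat]
  congr 1
  have e : quad a₀ a₁ 0 = C a₁ * (X + C (a₀ / a₁)) := by
    unfold quad
    rw [mul_add, ← C_mul, mul_div_cancel₀ _ h]
    simp [add_comm]
  rw [e, resultant_C_mul_left, resultant_X_add_C_left g n _ hg]

/-- the case of vanishing top coefficients, `a₁ = 0` -/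
theorem resultant_quad_zero_zero (a₀ : F) (n : ℕ) (g : F[X]) :
    resultant (quad a₀ 0 0) g 2 n = (-1) ^ n * g.coeff n * ((-1) ^ n * g.coeff n * a₀ ^ n) := by
  have hfnat : (quad a₀ 0 0).natDegree ≤ 1 := quad_zero_natDegree_le a₀ 0
  rw [resultant_succ_left_deg _ g 1 n hfnat]
  congr 1
  have e : quad a₀ 0 0 = C a₀ := by unfold quad; simp
  rw [e, resultant_C_left]
  simp


end poly

section main

variable {F : Type*} [Field F] [Fintype F] [DecidableEq F]

/-- the linear polynomial with given coefficients -/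
noncomputable def lin (c₀ c₁ : F) : F[X] := C c₀ + C c₁ * X

omit [Fintype F] [DecidableEq F] in
theorem lin_coeff_zero (c₀ c₁ : F) : (lin c₀ c₁).coeff 0 = c₀ := by simp [lin]

omit [Fintype F] [DecidableEq F] in
theorem lin_coeff_one (c₀ c₁ : F) : (lin c₀ c₁).coeff 1 = c₁ := by simp [lin, coeff_C]

omit [Fintype F] [DecidableEq F] in
theorem lin_degree_lt (c₀ c₁ : F) : (lin c₀ c₁).degree < 2 := by
  have h : (lin c₀ c₁).natDegree ≤ 1 := by unfold lin; compute_degree
  exact lt_of_le_of_lt (degree_le_of_natDegree_le h) (by norm_num)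

omit [Fintype F] [DecidableEq F] in
theorem lin_of_degree_lt (r : F[X]) (hr : r.degree < 2) : lin (r.coeff 0) (r.coeff 1) = r := by
  ext j
  by_cases h0 : j = 0
  · subst h0; rw [lin_coeff_zero]
  by_cases h1 : j = 1
  · subst h1; rw [lin_coeff_one]
  have h2 : 2 ≤ j := by omega
  have e1 : r.coeff j = 0 :=
    coeff_eq_zero_of_degree_lt (lt_of_lt_of_le hr (by exact_mod_cast h2))
  have e2 : (lin (r.coeff 0) (r.coeff 1)).coeff j = 0 :=
    coeff_eq_zero_of_degree_lt (lt_of_lt_of_le (lin_degree_lt _ _) (by exact_mod_cast h2))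
  rw [e1, e2]

omit [Fintype F] [DecidableEq F] in
theorem P_zero {k : ℕ} : P (0 : Fin k → F) = 0 := by
  unfold P; simp

local notation "q" => Fintype.card F

omit [DecidableEq F] in
theorem q_pos : 0 < q := Fintype.card_pos

omit [DecidableEq F] [Field F] in
theorem card_vec (k : ℕ) : Fintype.card (Fin k → F) = q ^ k := by simp

omit [DecidableEq F] [Field F] in
theorem card_pair : Fintype.card (F × F) = q ^ 2 := by rw [Fintype.card_prod, sq]

omit [DecidableEq F] [Field F] in
theorem card_triple : Fintype.card (F × F × F) = q ^ 3 := by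
  rw [Fintype.card_prod, Fintype.card_prod]; ring

/-- (C1) -/
theorem count_quad (a₀ a₁ a₂ : F) (h : a₂ ≠ 0) (n : ℕ) (hn : 2 ≤ n) :
    (univ.filter fun b : Fin (n + 1) → F => resultant (quad a₀ a₁ a₂) (P b) 2 n ≠ 0).card =
      (univ.filter fun c : F × F => resultant (quad a₀ a₁ a₂) (lin c.1 c.2) 2 1 ≠ 0).card *
        q ^ (n - 1) := by
  set f := quad a₀ a₁ a₂ with hf
  have hfdeg : f.degree = 2 := quad_degree_eq a₀ a₁ a₂ h
  have hf0 : f ≠ 0 := by
    intro h0; rw [h0, degree_zero] at hfdeg; exact absurd hfdeg (by decide)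
  let φ : (Fin (n + 1) → F) →+ F × F :=
    { toFun := fun b => ((P b % f).coeff 0, (P b % f).coeff 1)
      map_zero' := by simp [P_zero]
      map_add' := fun b b' => by simp [P_add, Polynomial.add_mod] }
  have hφ : Function.Surjective φ := by
    intro c
    refine ⟨toVec (n + 1) (lin c.1 c.2), ?_⟩
    have h1 : P (toVec (n + 1) (lin c.1 c.2)) = lin c.1 c.2 :=
      P_toVec _ (lt_of_lt_of_le (lin_degree_lt _ _) (by exact_mod_cast (by omega : 2 ≤ n + 1)))
    have h2 : lin c.1 c.2 % f = lin c.1 c.2 :=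
      (Polynomial.mod_eq_self_iff hf0).mpr (by rw [hfdeg]; exact lin_degree_lt _ _)
    show ((P (toVec (n + 1) (lin c.1 c.2)) % f).coeff 0,
      (P (toVec (n + 1) (lin c.1 c.2)) % f).coeff 1) = c
    rw [h1, h2, lin_coeff_zero, lin_coeff_one]
  have key := card_preimage_eq φ hφ
    (fun c : F × F => resultant f (lin c.1 c.2) 2 1 ≠ 0) q (n + 1) 2 q_pos (card_vec _) card_pair
    (by omega)
  have e : n + 1 - 2 = n - 1 := by omega
  rw [e] at key
  rw [← key]
  congr 1
  apply Finset.filter_congr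
  intro b _
  have h3 : lin ((P b % f).coeff 0) ((P b % f).coeff 1) = P b % f :=
    lin_of_degree_lt _ (by rw [← hfdeg]; exact degree_mod_lt _ hf0)
  show resultant f (P b) 2 n ≠ 0 ↔
    resultant f (lin ((P b % f).coeff 0) ((P b % f).coeff 1)) 2 1 ≠ 0
  rw [h3, hf, resultant_quad_mod a₀ a₁ a₂ h n hn (P b) (P_natDegree_le b), ← hf]
  simp [pow_ne_zero _ h]

omit [Fintype F] [DecidableEq F] in
theorem resultant_quad_lin (a₀ a₁ a₂ c₀ c₁ : F) :
    resultant (quad a₀ a₁ a₂) (lin c₀ c₁) 2 1 = a₂ * c₀ ^ 2 - a₁ * c₀ * c₁ + a₀ * c₁ ^ 2 := by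
  rw [resultant_two_one, quad_coeff_two, quad_coeff_one, quad_coeff_zero, lin_coeff_zero,
    lin_coeff_one]

/-- (C2), `c₁ ≠ 0` -/
theorem count_K_ne (c₀ c₁ : F) (h : c₁ ≠ 0) :
    (univ.filter fun a : F × F × F => a.2.2 ≠ 0 ∧
      resultant (quad a.1 a.2.1 a.2.2) (lin c₀ c₁) 2 1 ≠ 0).card = (q - 1) ^ 2 * q := by
  let φ : (F × F × F) →+ F × F :=
    { toFun := fun a => (a.2.2, a.2.2 * c₀ ^ 2 - a.2.1 * c₀ * c₁ + a.1 * c₁ ^ 2)
      map_zero' := by simp
      map_add' := fun a a' => by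
        ext
        · simp
        · simp only [Prod.fst_add, Prod.snd_add]; ring }
  have hφ : Function.Surjective φ := by
    rintro ⟨u, v⟩
    refine ⟨((v - u * c₀ ^ 2) / c₁ ^ 2, 0, u), ?_⟩
    show (u, u * c₀ ^ 2 - 0 * c₀ * c₁ + (v - u * c₀ ^ 2) / c₁ ^ 2 * c₁ ^ 2) = (u, v)
    congr 1
    field_simp
    ring
  have key := card_preimage_eq φ hφ (fun w : F × F => w.1 ≠ 0 ∧ w.2 ≠ 0) q 3 2 q_pos
    card_triple card_pair (by omega)
  rw [card_filter_ne_zero_pair] at key
  rw [show (q - 1) ^ 2 * q = (q - 1) ^ 2 * q ^ (3 - 2) by simp, ← key]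
  congr 1
  apply Finset.filter_congr
  intro a _
  rw [resultant_quad_lin]
  exact Iff.rfl

/-- (C2), `c₁ = 0`, `c₀ ≠ 0` -/
theorem count_K_zero_ne (c₀ : F) (h : c₀ ≠ 0) :
    (univ.filter fun a : F × F × F => a.2.2 ≠ 0 ∧
      resultant (quad a.1 a.2.1 a.2.2) (lin c₀ 0) 2 1 ≠ 0).card = (q - 1) * q ^ 2 := by
  let φ : (F × F × F) →+ F :=
    { toFun := fun a => a.2.2
      map_zero' := by simp
      map_add' := fun a a' => by simp }
  have hφ : Function.Surjective φ := fun u => ⟨(0, 0, u), rfl⟩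
  have key := card_preimage_eq φ hφ (fun w : F => w ≠ 0) q 3 1 q_pos
    card_triple (by simp) (by omega)
  rw [card_filter_ne_zero] at key
  rw [show (q - 1) * q ^ 2 = (q - 1) * q ^ (3 - 1) by simp, ← key]
  congr 1
  apply Finset.filter_congr
  intro a _
  rw [resultant_quad_lin]
  show _ ↔ a.2.2 ≠ 0
  simp [h]

/-- (C2), `c = 0` -/
theorem count_K_zero_zero :
    (univ.filter fun a : F × F × F => a.2.2 ≠ 0 ∧
      resultant (quad a.1 a.2.1 a.2.2) (lin (0 : F) 0) 2 1 ≠ 0).card = 0 := by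
  rw [Finset.card_eq_zero, Finset.filter_eq_empty_iff]
  intro a _
  rw [resultant_quad_lin]
  simp

/-- (C3) -/
theorem count_lin_ne (a₀ a₁ : F) (h : a₁ ≠ 0) (n : ℕ) (hn : 1 ≤ n) :
    (univ.filter fun b : Fin (n + 1) → F => resultant (quad a₀ a₁ 0) (P b) 2 n ≠ 0).card =
      (q - 1) ^ 2 * q ^ (n - 1) := by
  set ρ : F := -(a₀ / a₁) with hρ
  let φ : (Fin (n + 1) → F) →+ F × F :=
    { toFun := fun b => ((P b).coeff n, (P b).eval ρ)
      map_zero' := by simp [P_zero]
      map_add' := fun b b' => by simp [P_add] }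
  have hφ : Function.Surjective φ := by
    rintro ⟨u, v⟩
    set g : F[X] := C u * X ^ n + C (v - u * ρ ^ n) with hg
    have hgdeg : g.degree < ((n + 1 : ℕ) : WithBot ℕ) := by
      have h1 : g.natDegree ≤ n := by rw [hg]; compute_degree
      exact lt_of_le_of_lt (degree_le_of_natDegree_le h1) (by exact_mod_cast Nat.lt_succ_self n)
    refine ⟨toVec (n + 1) g, ?_⟩
    show ((P (toVec (n + 1) g)).coeff n, (P (toVec (n + 1) g)).eval ρ) = (u, v)
    rw [P_toVec g hgdeg]
    have hn0 : n ≠ 0 := by omega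
    congr 1
    · rw [hg, coeff_add, coeff_C_mul, coeff_X_pow_self, coeff_C, if_neg hn0, mul_one, add_zero]
    · simp [hg]
  have key := card_preimage_eq φ hφ (fun w : F × F => w.1 ≠ 0 ∧ w.2 ≠ 0) q (n + 1) 2 q_pos
    (card_vec _) card_pair (by omega)
  rw [card_filter_ne_zero_pair] at key
  have e : n + 1 - 2 = n - 1 := by omega
  rw [e] at key
  rw [← key]
  congr 1
  apply Finset.filter_congr
  intro b _
  rw [resultant_quad_zero_ne a₀ a₁ h n (P b) (P_natDegree_le b)]
  show _ ↔ (P b).coeff n ≠ 0 ∧ (P b).eval ρ ≠ 0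
  simp [pow_ne_zero _ h, hρ]

/-- (C4) -/
theorem count_const_ne (a₀ : F) (h : a₀ ≠ 0) (n : ℕ) :
    (univ.filter fun b : Fin (n + 1) → F => resultant (quad a₀ 0 0) (P b) 2 n ≠ 0).card =
      (q - 1) * q ^ n := by
  let φ : (Fin (n + 1) → F) →+ F :=
    { toFun := fun b => b (Fin.last n)
      map_zero' := by simp
      map_add' := fun b b' => by simp }
  have hφ : Function.Surjective φ := fun u => ⟨fun _ => u, rfl⟩
  have key := card_preimage_eq φ hφ (fun w : F => w ≠ 0) q (n + 1) 1 q_pos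
    (card_vec _) (by simp) (by omega)
  rw [card_filter_ne_zero] at key
  have e : n + 1 - 1 = n := by omega
  rw [e] at key
  rw [← key]
  congr 1
  apply Finset.filter_congr
  intro b _
  rw [resultant_quad_zero_zero a₀ n (P b)]
  have hc : (P b).coeff n = b (Fin.last n) := by
    rw [P_coeff, dif_pos (Nat.lt_succ_self n)]; rfl
  show _ ↔ b (Fin.last n) ≠ 0
  simp [pow_ne_zero _ h, hc]

/-- (C5) -/
theorem count_zero (n : ℕ) (hn : 1 ≤ n) :
    (univ.filter fun b : Fin (n + 1) → F => resultant (quad (0 : F) 0 0) (P b) 2 n ≠ 0).card =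
      0 := by
  rw [Finset.card_eq_zero, Finset.filter_eq_empty_iff]
  intro b _
  rw [resultant_quad_zero_zero]
  have hn0 : n ≠ 0 := by omega
  simp [hn0]

end main

section total

variable {F : Type*} [Field F] [Fintype F] [DecidableEq F]

local notation "q" => Fintype.card F

/-- triples as functions on `Fin 3` -/
def tripleEquiv : (F × F × F) ≃ (Fin 3 → F) where
  toFun t := ![t.1, t.2.1, t.2.2]
  invFun a := (a 0, a 1, a 2)
  left_inv := fun ⟨x, y, z⟩ => rfl
  right_inv := fun a => by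
    ext i; fin_cases i <;> rfl

/-- the number of `b` with nonvanishing resultant, in closed form -/
theorem count_b (t : F × F × F) (n : ℕ) (hn : 2 ≤ n) :
    (univ.filter fun b : Fin (n + 1) → F =>
      resultant (quad t.1 t.2.1 t.2.2) (P b) 2 n ≠ 0).card =
    (if t.2.2 ≠ 0 then
      (univ.filter fun c : F × F =>
        resultant (quad t.1 t.2.1 t.2.2) (lin c.1 c.2) 2 1 ≠ 0).card * q ^ (n - 1) else 0) +
    (if t.2.2 ≠ 0 then 0 else
      (if t.2.1 ≠ 0 then (q - 1) ^ 2 * q ^ (n - 1) else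
        if t.1 ≠ 0 then (q - 1) * q ^ n else 0)) := by
  obtain ⟨a₀, a₁, a₂⟩ := t
  dsimp only
  by_cases h2 : a₂ ≠ 0
  · rw [if_pos h2, if_pos h2, add_zero]
    exact count_quad a₀ a₁ a₂ h2 n hn
  · rw [if_neg h2, if_neg h2, zero_add]
    have h2' : a₂ = 0 := not_not.mp h2
    subst h2'
    by_cases h1 : a₁ ≠ 0
    · rw [if_pos h1]
      exact count_lin_ne a₀ a₁ h1 n (by omega)
    · rw [if_neg h1]
      have h1' : a₁ = 0 := not_not.mp h1
      subst h1'
      by_cases h0 : a₀ ≠ 0
      · rw [if_pos h0]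
        exact count_const_ne a₀ h0 n
      · rw [if_neg h0]
        have h0' : a₀ = 0 := not_not.mp h0
        subst h0'
        exact count_zero n (by omega)

/-- the number of `t` with `t.2.2 ≠ 0` and nonvanishing resultant against `lin c`, closed form -/
theorem count_K (c : F × F) :
    (univ.filter fun t : F × F × F => t.2.2 ≠ 0 ∧
      resultant (quad t.1 t.2.1 t.2.2) (lin c.1 c.2) 2 1 ≠ 0).card =
    if c.2 ≠ 0 then (q - 1) ^ 2 * q else if c.1 ≠ 0 then (q - 1) * q ^ 2 else 0 := by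
  obtain ⟨c₀, c₁⟩ := c
  dsimp only
  by_cases h1 : c₁ ≠ 0
  · rw [if_pos h1]; exact count_K_ne c₀ c₁ h1
  · rw [if_neg h1]
    have h1' : c₁ = 0 := not_not.mp h1
    subst h1'
    by_cases h0 : c₀ ≠ 0
    · rw [if_pos h0]; exact count_K_zero_ne c₀ h0
    · rw [if_neg h0]
      have h0' : c₀ = 0 := not_not.mp h0
      subst h0'
      exact count_K_zero_zero

theorem sum_K :
    ∑ c : F × F, (if c.2 ≠ 0 then (q - 1) ^ 2 * q else
      if c.1 ≠ 0 then (q - 1) * q ^ 2 else 0) =
    q * ((q - 1) * ((q - 1) ^ 2 * q)) + (q - 1) * ((q - 1) * q ^ 2) := by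
  rw [Fintype.sum_prod_type]
  have h : ∀ x : F, (∑ y : F, if y ≠ 0 then (q - 1) ^ 2 * q else
      if x ≠ 0 then (q - 1) * q ^ 2 else 0) =
      (q - 1) * ((q - 1) ^ 2 * q) + (if x ≠ 0 then (q - 1) * q ^ 2 else 0) :=
    fun x => sum_ite_ne_zero _ _
  simp only [h]
  rw [Finset.sum_add_distrib, sum_ite_ne_zero]
  simp

/-- double counting -/
theorem sum_M :
    ∑ t : F × F × F, (if t.2.2 ≠ 0 then
      (univ.filter fun c : F × F =>
        resultant (quad t.1 t.2.1 t.2.2) (lin c.1 c.2) 2 1 ≠ 0).card else 0) =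
    q * ((q - 1) * ((q - 1) ^ 2 * q)) + (q - 1) * ((q - 1) * q ^ 2) := by
  rw [← sum_K]
  simp only [← count_K, Finset.card_filter]
  rw [Finset.sum_comm]
  refine Finset.sum_congr rfl fun t _ => ?_
  by_cases h : t.2.2 ≠ 0
  · simp [h]
  · simp [h]

theorem sum_rest (X Y : ℕ) :
    ∑ t : F × F × F, (if t.2.2 ≠ 0 then 0 else
      (if t.2.1 ≠ 0 then X else if t.1 ≠ 0 then Y else 0)) =
    q * ((q - 1) * X) + (q - 1) * Y := by
  rw [Fintype.sum_prod_type]
  simp only [Fintype.sum_prod_type]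
  have h1 : ∀ x y : F, (∑ z : F, if z ≠ 0 then 0 else
      (if y ≠ 0 then X else if x ≠ 0 then Y else 0)) =
      (q - 1) * 0 + (if y ≠ 0 then X else if x ≠ 0 then Y else 0) :=
    fun x y => sum_ite_ne_zero _ _
  simp only [h1, mul_zero, zero_add]
  have h2 : ∀ x : F, (∑ y : F, if y ≠ 0 then X else if x ≠ 0 then Y else 0) =
      (q - 1) * X + (if x ≠ 0 then Y else 0) :=
    fun x => sum_ite_ne_zero _ _
  simp only [h2]
  rw [Finset.sum_add_distrib, sum_ite_ne_zero]
  simp

theorem total_count (n : ℕ) (hn : 2 ≤ n) :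
    (univ.filter fun p : (Fin 3 → F) × (Fin (n + 1) → F) =>
      resultant (P p.1) (P p.2) 2 n ≠ 0).card = (q - 1) ^ 2 * (q + 1) * q ^ (n + 1) := by
  have h1 : (univ.filter fun p : (Fin 3 → F) × (Fin (n + 1) → F) =>
      resultant (P p.1) (P p.2) 2 n ≠ 0).card =
      ∑ a : Fin 3 → F, (univ.filter fun b : Fin (n + 1) → F =>
        resultant (P a) (P b) 2 n ≠ 0).card := by
    simp only [Finset.card_filter]
    rw [Fintype.sum_prod_type]
  rw [h1, ← Fintype.sum_equiv tripleEquiv (fun t : F × F × F =>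
      (univ.filter fun b : Fin (n + 1) → F =>
        resultant (quad t.1 t.2.1 t.2.2) (P b) 2 n ≠ 0).card) _
      (fun t => by rw [P_three]; rfl)]
  simp only [count_b _ n hn]
  rw [Finset.sum_add_distrib, sum_rest]
  have h2 : ∑ t : F × F × F, (if t.2.2 ≠ 0 then
      (univ.filter fun c : F × F =>
        resultant (quad t.1 t.2.1 t.2.2) (lin c.1 c.2) 2 1 ≠ 0).card * q ^ (n - 1) else 0) =
      (∑ t : F × F × F, (if t.2.2 ≠ 0 then
      (univ.filter fun c : F × F =>
        resultant (quad t.1 t.2.1 t.2.2) (lin c.1 c.2) 2 1 ≠ 0).card else 0)) * q ^ (n - 1) := by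
    rw [Finset.sum_mul]
    refine Finset.sum_congr rfl fun t _ => ?_
    split_ifs <;> simp
  rw [h2, sum_M]
  obtain ⟨m, rfl⟩ : ∃ m, n = m + 1 := ⟨n - 1, by omega⟩
  simp only [Nat.add_sub_cancel]
  obtain ⟨k, hk⟩ : ∃ k, q = k + 1 := ⟨q - 1, by have := q_pos (F := F); omega⟩
  rw [hk]
  simp only [Nat.add_sub_cancel]
  ring

end total

theorem arith_aux (Q A : ℕ) (hQ : 2 ≤ Q) (n : ℕ) (hA : A = Q ^ (n + 1)) :
    (Q - 1) ^ 2 * (Q + 1) * A = Q ^ (n + 4) - Q ^ (n + 3) - Q ^ (n + 2) + Q ^ (n + 1) := by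
  obtain ⟨k, rfl⟩ : ∃ k, Q = k + 2 := ⟨Q - 2, by omega⟩
  have e1 : (k + 2 - 1) = k + 1 := by omega
  rw [e1]
  have h1 : (k + 1) ^ 2 * (k + 2 + 1) * A + (k + 2) ^ (n + 3) + (k + 2) ^ (n + 2) =
      (k + 2) ^ (n + 4) + (k + 2) ^ (n + 1) := by
    rw [hA]; ring
  have h2 : (k + 2) ^ (n + 3) + (k + 2) ^ (n + 2) ≤ (k + 2) ^ (n + 4) := by
    have : (k + 2) ^ (n + 4) = (k + 2) ^ (n + 3) + (k + 2) ^ (n + 2) +
        (k ^ 2 + 3 * k + 1) * (k + 2) ^ (n + 2) := by ring
    omega
  omega

/-- the count in the form of the statement S18925 -/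
theorem card_resultant_ne_zero (F : Type*) [Field F] [Fintype F] (n : ℕ) (h2 : 2 ≤ n) :
    Nat.card {p : (Fin 3 → F) × (Fin (n + 1) → F) //
      Polynomial.resultant (∑ i : Fin 3, Polynomial.C (p.1 i) * Polynomial.X ^ (i : ℕ))
        (∑ j : Fin (n + 1), Polynomial.C (p.2 j) * Polynomial.X ^ (j : ℕ)) 2 n ≠ 0} =
      Fintype.card F ^ (n + 4) - Fintype.card F ^ (n + 3) - Fintype.card F ^ (n + 2) +
        Fintype.card F ^ (n + 1) := by
  classical
  rw [Nat.card_eq_fintype_card, Fintype.card_subtype]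
  have h := total_count (F := F) n h2
  unfold P at h
  rw [h]
  exact arith_aux _ _ Fintype.one_lt_card n rfl

section unitResultant

variable {F : Type*} [Field F] [Fintype F] [DecidableEq F]

local notation "q" => Fintype.card F

omit [Fintype F] [DecidableEq F] in
theorem P_smul {k : ℕ} (c : F) (b : Fin k → F) : P (c • b) = C c * P b := by
  unfold P
  rw [Finset.mul_sum]
  refine Finset.sum_congr rfl fun i _ => ?_
  simp [mul_assoc]

omit [Fintype F] [DecidableEq F] in
theorem resultant_scale {n : ℕ} (a : Fin 3 → F) (b : Fin (n + 1) → F) (c d : F) :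
    resultant (P (c • a)) (P (d • b)) 2 n = c ^ n * d ^ 2 * resultant (P a) (P b) 2 n := by
  rw [P_smul, P_smul, resultant_C_mul_left, resultant_C_mul_right]
  ring

/-- scaling by a nonzero scalar as an equivalence -/
def scaleEquiv {k : ℕ} (u : F) (hu : u ≠ 0) : (Fin k → F) ≃ (Fin k → F) where
  toFun b := u • b
  invFun b := u⁻¹ • b
  left_inv b := by simp [smul_smul, inv_mul_cancel₀ hu]
  right_inv b := by simp [smul_smul, mul_inv_cancel₀ hu]

theorem card_fibre_eq {n k : ℕ} (hn : n = 2 * k + 1) (c : F) (hc : c ≠ 0) :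
    (univ.filter fun p : (Fin 3 → F) × (Fin (n + 1) → F) =>
      resultant (P p.1) (P p.2) 2 n = 1).card =
    (univ.filter fun p : (Fin 3 → F) × (Fin (n + 1) → F) =>
      resultant (P p.1) (P p.2) 2 n = c).card := by
  have hck : (c⁻¹) ^ k ≠ 0 := pow_ne_zero _ (inv_ne_zero hc)
  refine Finset.card_equiv (Equiv.prodCongr (scaleEquiv c hc) (scaleEquiv ((c⁻¹) ^ k) hck)) ?_
  intro p
  simp only [mem_filter, mem_univ, true_and]
  show _ ↔ resultant (P (c • p.1)) (P ((c⁻¹) ^ k • p.2)) 2 n = c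
  rw [resultant_scale]
  have e : c ^ n * ((c⁻¹) ^ k) ^ 2 = c := by
    rw [hn, pow_succ, ← pow_mul, inv_pow, mul_comm k 2]
    field_simp
  rw [e]
  constructor
  · intro h; rw [h, mul_one]
  · intro h
    have h' : c * resultant (P p.1) (P p.2) 2 n = c * 1 := by rw [h, mul_one]
    exact mul_left_cancel₀ hc h'

theorem card_ne_zero_eq_mul {n k : ℕ} (hn : n = 2 * k + 1) :
    (univ.filter fun p : (Fin 3 → F) × (Fin (n + 1) → F) =>
      resultant (P p.1) (P p.2) 2 n ≠ 0).card =
    (q - 1) * (univ.filter fun p : (Fin 3 → F) × (Fin (n + 1) → F) =>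
      resultant (P p.1) (P p.2) 2 n = 1).card := by
  rw [Finset.card_eq_sum_card_fiberwise (f := fun p : (Fin 3 → F) × (Fin (n + 1) → F) =>
      resultant (P p.1) (P p.2) 2 n) (t := univ.filter fun c : F => c ≠ 0)
      (fun p hp => by simpa using hp)]
  rw [Finset.sum_congr rfl (g := fun _ => (univ.filter fun p : (Fin 3 → F) × (Fin (n + 1) → F) =>
      resultant (P p.1) (P p.2) 2 n = 1).card)]
  · rw [Finset.sum_const, card_filter_ne_zero, smul_eq_mul]
  · intro c hc
    have hc' : c ≠ 0 := by simpa using hc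
    rw [card_fibre_eq hn c hc']
    congr 1
    ext p
    simp only [mem_filter, mem_univ, true_and]
    constructor
    · rintro ⟨_, h⟩; exact h
    · intro h; exact ⟨by rw [h]; exact hc', h⟩

theorem arith_aux' (Q A : ℕ) (hQ : 2 ≤ Q) (n : ℕ) (hA : A = Q ^ (n + 1)) (x : ℕ)
    (hx : (Q - 1) * x = (Q - 1) ^ 2 * (Q + 1) * A) : x = Q ^ (n + 3) - Q ^ (n + 1) := by
  obtain ⟨k, rfl⟩ : ∃ k, Q = k + 2 := ⟨Q - 2, by omega⟩
  have e1 : (k + 2 - 1) = k + 1 := by omega
  rw [e1] at hx
  have hx' : x = (k + 1) * (k + 2 + 1) * A := by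
    have : (k + 1) * x = (k + 1) * ((k + 1) * (k + 2 + 1) * A) := by rw [hx]; ring
    exact Nat.eq_of_mul_eq_mul_left (by omega) this
  have h1 : x + (k + 2) ^ (n + 1) = (k + 2) ^ (n + 3) := by
    rw [hx', hA]; ring
  omega

/-- the count in the form of the statement S18924 -/
theorem card_resultant_eq_one (F : Type*) [Field F] [Fintype F] (n : ℕ) (hn : Odd n)
    (h3 : 3 ≤ n) :
    Nat.card {p : (Fin 3 → F) × (Fin (n + 1) → F) //
      Polynomial.resultant (∑ i : Fin 3, Polynomial.C (p.1 i) * Polynomial.X ^ (i : ℕ))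
        (∑ j : Fin (n + 1), Polynomial.C (p.2 j) * Polynomial.X ^ (j : ℕ)) 2 n = 1} =
      Fintype.card F ^ (n + 3) - Fintype.card F ^ (n + 1) := by
  classical
  obtain ⟨k, hk⟩ := hn
  rw [Nat.card_eq_fintype_card, Fintype.card_subtype]
  have h := total_count (F := F) n (by omega)
  rw [card_ne_zero_eq_mul hk] at h
  unfold P at h
  exact arith_aux' _ _ Fintype.one_lt_card n rfl _ h

end unitResultant

end Groth.Agent.Lib.Helper64.ResCount
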