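import Groth.Agent.S12239
import Groth.Agent.Lib.Helper55.ZeroLocusDim
import Groth.Agent.Lib.Helper55.LocalDimTop
import Mathlib

set_option autoImplicit false
universe u
open scoped TensorProduct
open PrimeSpectrum

namespace Groth.Agent.Lib.Helper64.Shrink

/-- If `a` and `b` divide powers of each other, localizing away from `a` is localizing away from
`b`. -/
lemma away_of_dvd {C C' : Type*} [CommRing C] [CommRing C'] [Algebra C C'] (a b : C) (k l : ℕ)
    (hab : a ∣ b ^ k) (hba : b ∣ a ^ l) [IsLocalization.Away a C'] : IsLocalization.Away b C' := by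
  have hunit : IsUnit (algebraMap C C' b) := by
    have h1 : IsUnit (algebraMap C C' (a ^ l)) := by
      rw [map_pow]; exact (IsLocalization.Away.algebraMap_isUnit a).pow l
    exact isUnit_of_dvd_unit (map_dvd (algebraMap C C') hba) h1
  refine ⟨?_, ?_, ?_⟩
  · rintro ⟨_, n, rfl⟩
    rw [map_pow]; exact hunit.pow n
  · intro x
    obtain ⟨⟨c, ⟨_, i, rfl⟩⟩, hc⟩ := IsLocalization.surj (Submonoid.powers a) x
    obtain ⟨t, ht⟩ := pow_dvd_pow_of_dvd hab i
    refine ⟨⟨c * t, ⟨b ^ (k * i), k * i, rfl⟩⟩, ?_⟩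
    simp only at hc ⊢
    rw [pow_mul, ht, map_mul, map_mul, ← mul_assoc, hc]
  · intro x y hxy
    obtain ⟨⟨_, i, rfl⟩, hc⟩ := IsLocalization.exists_of_eq (M := Submonoid.powers a) hxy
    obtain ⟨t, ht⟩ := pow_dvd_pow_of_dvd hab i
    refine ⟨⟨b ^ (k * i), k * i, rfl⟩, ?_⟩
    simp only at hc ⊢
    rw [pow_mul, ht, mul_comm (a ^ i) t, mul_assoc, hc, ← mul_assoc]

section LocSupp

variable {F F' : Type u} [CommRing F] [CommRing F'] [Algebra F F'] (I : Ideal F)

/-- the comparison map of zero loci under localization away from `t`. -/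
noncomputable def zlMap :
    ↥(zeroLocus ((I.map (algebraMap F F') : Ideal F') : Set F')) → ↥(zeroLocus (I : Set F)) :=
  fun Q => ⟨comap (algebraMap F F') Q.1, by
    have := Q.2
    rw [← Set.mem_preimage, preimage_comap_zeroLocus]
    simpa [Ideal.map, zeroLocus_span] using this⟩

lemma zlMap_isOpenEmbedding (t : F) [IsLocalization.Away t F'] :
    Topology.IsOpenEmbedding (zlMap (F' := F') I) := by
  have h1 := localization_away_isOpenEmbedding F' t
  have h2 := Set.restrictPreimage_isOpenEmbedding (zeroLocus (I : Set F)) h1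
  have heq : (comap (algebraMap F F')) ⁻¹' (zeroLocus (I : Set F)) =
      zeroLocus ((I.map (algebraMap F F') : Ideal F') : Set F') := by
    rw [preimage_comap_zeroLocus, Ideal.map, zeroLocus_span]
  have h3 := (Homeomorph.setCongr heq.symm).isOpenEmbedding
  exact h2.comp h3

lemma zlMap_strictMono (t : F) [IsLocalization.Away t F'] :
    StrictMono (zlMap (F' := F') I) := by
  intro Q₁ Q₂ h
  have h1 : Q₁.1 < Q₂.1 := h
  have := (IsLocalization.orderEmbedding (Submonoid.powers t) F').strictMono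
    (show Q₁.1.asIdeal < Q₂.1.asIdeal from h1)
  exact this

theorem locSupp (t : F) [IsLocalization.Away t F'] (ξ : PrimeSpectrum F)
    (hξ : ξ ∈ zeroLocus (I : Set F)) (ht : t ∉ ξ.asIdeal) :
    ∃ (ξ' : PrimeSpectrum F')
      (hξ' : ξ' ∈ zeroLocus ((I.map (algebraMap F F') : Ideal F') : Set F')),
      ξ'.asIdeal = ξ.asIdeal.map (algebraMap F F') ∧
      FlatMor.localDim ↥(zeroLocus ((I.map (algebraMap F F') : Ideal F') : Set F')) ⟨ξ', hξ'⟩ =
        FlatMor.localDim ↥(zeroLocus (I : Set F)) ⟨ξ, hξ⟩ ∧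
      Order.krullDim ↥(zeroLocus ((I.map (algebraMap F F') : Ideal F') : Set F')) ≤
        Order.krullDim ↥(zeroLocus (I : Set F)) ∧
      FlatMor.localDim ↥(zeroLocus (I : Set F)) ⟨ξ, hξ⟩ ≤
        Order.krullDim ↥(zeroLocus ((I.map (algebraMap F F') : Ideal F') : Set F')) := by
  have hdisj : Disjoint (Submonoid.powers t : Set F) (ξ.asIdeal : Set F) := by
    rw [Set.disjoint_left]
    rintro _ ⟨n, rfl⟩ hn
    exact ht (ξ.2.mem_of_pow_mem n hn)
  have hprime : (ξ.asIdeal.map (algebraMap F F')).IsPrime :=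
    IsLocalization.isPrime_of_isPrime_disjoint (Submonoid.powers t) F' _ ξ.2 hdisj
  have hcomap : (ξ.asIdeal.map (algebraMap F F')).comap (algebraMap F F') = ξ.asIdeal :=
    IsLocalization.under_map_of_isPrime_disjoint (Submonoid.powers t) F' ξ.2 hdisj
  let ξ' : PrimeSpectrum F' := ⟨ξ.asIdeal.map (algebraMap F F'), hprime⟩
  have hξ' : ξ' ∈ zeroLocus ((I.map (algebraMap F F') : Ideal F') : Set F') := by
    rw [mem_zeroLocus, SetLike.coe_subset_coe]
    exact Ideal.map_mono ((mem_zeroLocus _ _).mp hξ)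
  have hzl : zlMap (F' := F') I ⟨ξ', hξ'⟩ = ⟨ξ, hξ⟩ :=
    Subtype.ext (PrimeSpectrum.ext hcomap)
  have hloc : FlatMor.localDim ↥(zeroLocus ((I.map (algebraMap F F') : Ideal F') : Set F'))
      ⟨ξ', hξ'⟩ = FlatMor.localDim ↥(zeroLocus (I : Set F)) ⟨ξ, hξ⟩ := by
    rw [Groth.Agent.Lib.Helper55.localDim_eq_of_isOpenEmbedding (zlMap (F' := F') I)
      (zlMap_isOpenEmbedding I t) ⟨ξ', hξ'⟩, hzl]
  refine ⟨ξ', hξ', rfl, hloc, Order.krullDim_le_of_strictMono _ (zlMap_strictMono I t), ?_⟩
  rw [← hloc]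
  have h1 : FlatMor.localDim ↥(zeroLocus ((I.map (algebraMap F F') : Ideal F') : Set F'))
      ⟨ξ', hξ'⟩ ≤ topologicalKrullDim ↥((⊤ : TopologicalSpace.Opens
        ↥(zeroLocus ((I.map (algebraMap F F') : Ideal F') : Set F'))) :
          Set ↥(zeroLocus ((I.map (algebraMap F F') : Ideal F') : Set F'))) := by
    unfold FlatMor.localDim
    exact iInf_le (fun U : {U : TopologicalSpace.Opens
        ↥(zeroLocus ((I.map (algebraMap F F') : Ideal F') : Set F')) // (⟨ξ', hξ'⟩ : ↥(zeroLocus
          ((I.map (algebraMap F F') : Ideal F') : Set F'))) ∈ U} =>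
      topologicalKrullDim ↥(U.1 : Set ↥(zeroLocus ((I.map (algebraMap F F') : Ideal F') : Set F'))))
      ⟨⊤, trivial⟩
  refine h1.trans (le_of_eq ?_)
  rw [← ringKrullDim_quotient,
    ← Groth.Agent.Lib.Helper55.topologicalKrullDim_zeroLocus_eq_ringKrullDim_quotient]
  exact IsHomeomorph.topologicalKrullDim_eq _ (Homeomorph.Set.univ _).isHomeomorph

end LocSupp

section fibre

open Groth.Agent.S12239

variable {R S S' : Type u} [CommRing R] (p : Ideal R) [p.IsPrime]
  [CommRing S] [CommRing S'] [Algebra R S] [Algebra R S'] [Algebra S S'] [IsScalarTower R S S']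
  (hX : S) [IsLocalization.Away hX S']
  (N N' : Type u) [AddCommGroup N] [Module S N] [Module R N] [IsScalarTower R S N]
  [Module.Finite S N] [AddCommGroup N'] [Module S' N'] [Module R N'] [IsScalarTower R S' N']
  [Module S N'] [IsScalarTower S S' N']

/-- the map of fibre rings induced by `S → S'`. -/
noncomputable def fibMap : p.Fiber S →ₐ[p.ResidueField] p.Fiber S' :=
  Algebra.TensorProduct.map (AlgHom.id p.ResidueField p.ResidueField) (IsScalarTower.toAlgHom R S S')

omit [IsLocalization.Away hX S'] in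
lemma fibMap_one_tmul (s : S) : fibMap (S' := S') p ((1 : p.ResidueField) ⊗ₜ[R] s) =
    (1 : p.ResidueField) ⊗ₜ[R] (algebraMap S S' s) := by
  simp [fibMap]

attribute [local instance] Algebra.TensorProduct.rightAlgebra in
lemma fibMap_isLocalization :
    letI : Algebra (p.Fiber S) (p.Fiber S') := (fibMap (S' := S') p).toRingHom.toAlgebra
    IsLocalization.Away ((1 : p.ResidueField) ⊗ₜ[R] hX : p.Fiber S) (p.Fiber S') := by
  let _ : Algebra (p.Fiber S) (p.Fiber S') := (fibMap (S' := S') p).toRingHom.toAlgebra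
  have : IsScalarTower p.ResidueField (p.ResidueField ⊗[R] S) (p.ResidueField ⊗[R] S') :=
    .of_algebraMap_eq <| by intro; simp [RingHom.algebraMap_toAlgebra, fibMap]
  have := IsLocalization.tensorProduct_tensorProduct_right R p.ResidueField (Submonoid.powers hX) S'
    (by ext; simp [RingHom.algebraMap_toAlgebra, fibMap])
  rw [Submonoid.map_powers] at this
  exact this

lemma localDim_congr {X : Type*} [TopologicalSpace X] {A B : Set X} (h : A = B) (x : X)
    (hx : x ∈ A) : FlatMor.localDim ↥A ⟨x, hx⟩ = FlatMor.localDim ↥B ⟨x, h ▸ hx⟩ := by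
  subst h; rfl

end fibre

section fibreGen

open Groth.Agent.S12239

variable {R R' S S' : Type u} [CommRing R] [CommRing R'] (p : Ideal R) [p.IsPrime]
  (p' : Ideal R') [p'.IsPrime]
  [CommRing S] [CommRing S'] [Algebra R S] [Algebra R' S'] [Algebra S S']
  (hX : S) [IsLocalization.Away hX S']
  (N N' : Type u) [AddCommGroup N] [Module S N]
  [Module.Finite S N] [AddCommGroup N'] [Module S' N']
  [Module S N'] [IsScalarTower S S' N']

attribute [local instance] Algebra.TensorProduct.rightAlgebra in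
theorem fibre_shrink_gen (φ : p.Fiber S →+* p'.Fiber S')
    (hloc : letI : Algebra (p.Fiber S) (p'.Fiber S') := φ.toAlgebra
      IsLocalization.Away ((1 : p.ResidueField) ⊗ₜ[R] hX : p.Fiber S) (p'.Fiber S'))
    (hmap : ∀ s : S, φ ((1 : p.ResidueField) ⊗ₜ[R] s) =
      (1 : p'.ResidueField) ⊗ₜ[R'] (algebraMap S S' s))
    (fN : N →ₗ[S] N') [IsLocalizedModule (Submonoid.powers hX) fN]
    (q : Ideal S) [q.IsPrime] [hq : q.LiesOver p] (q' : Ideal S') [q'.IsPrime]
    [hqq : q'.LiesOver q] (hXq : hX ∉ q) (n : ℕ)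
    (h1 : ∃ (ξ : PrimeSpectrum (p.Fiber S))
      (hξ : ξ ∈ Module.support (p.Fiber S) (FlatCA.fiberMod p S N)),
      ξ.asIdeal = FlatCA.fiberIdeal p q ∧
      FlatMor.localDim (Module.support (p.Fiber S) (FlatCA.fiberMod p S N)) ⟨ξ, hξ⟩ = n)
    (hdim : Module.supportDim (p.Fiber S) (FlatCA.fiberMod p S N) = n) :
    Module.supportDim (p'.Fiber S') (FlatCA.fiberMod p' S' N') = n ∧
    ∃ (ξ' : PrimeSpectrum (p'.Fiber S'))
      (hξ' : ξ' ∈ Module.support (p'.Fiber S') (FlatCA.fiberMod p' S' N')),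
      ξ'.asIdeal = FlatCA.fiberIdeal p' q' ∧
      FlatMor.localDim (Module.support (p'.Fiber S') (FlatCA.fiberMod p' S' N')) ⟨ξ', hξ'⟩ = n := by
  let _ : Algebra (p.Fiber S) (p'.Fiber S') := φ.toAlgebra
  have hf : IsBaseChange S' fN := IsLocalizedModule.isBaseChange (Submonoid.powers hX) S' fN
  have hfinN' : Module.Finite S' N' := Groth.Agent.S12231.finite_of_isBaseChange fN hf
  have hmap' : ∀ s : S, algebraMap (p.Fiber S) (p'.Fiber S') ((1 : p.ResidueField) ⊗ₜ[R] s) =
      (1 : p'.ResidueField) ⊗ₜ[R'] (algebraMap S S' s) := hmap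
  -- compatibility of contractions
  have hcomp : ∀ x : PrimeSpectrum (p'.Fiber S'),
      PrimeSpectrum.comap (Algebra.TensorProduct.includeRight (R := R) (A := p.ResidueField)
        (B := S)).toRingHom (PrimeSpectrum.comap (algebraMap (p.Fiber S) (p'.Fiber S')) x) =
      PrimeSpectrum.comap (algebraMap S S')
        (PrimeSpectrum.comap (Algebra.TensorProduct.includeRight (R := R') (A := p'.ResidueField)
          (B := S')).toRingHom x) := by
    intro x
    rw [← PrimeSpectrum.comap_comp_apply, ← PrimeSpectrum.comap_comp_apply]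
    congr 1
    refine RingHom.ext fun s => ?_
    exact hmap' s
  have hsupp : ∀ x : PrimeSpectrum (p'.Fiber S'),
      x ∈ Module.support (p'.Fiber S') (FlatCA.fiberMod p' S' N') ↔
        PrimeSpectrum.comap (algebraMap (p.Fiber S) (p'.Fiber S')) x ∈
          Module.support (p.Fiber S) (FlatCA.fiberMod p S N) := by
    intro x
    rw [mem_support_fiberMod_iff, mem_support_fiberMod_iff, hcomp, ← hf.equiv.support_eq,
      Groth.Agent.S6284.result]
    rfl
  have hfinF : Module.Finite (p.Fiber S) (FlatCA.fiberMod p S N) :=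
    inferInstanceAs (Module.Finite (p.Fiber S) ((p.Fiber S) ⊗[S] N))
  have hSupp : Module.support (p.Fiber S) (FlatCA.fiberMod p S N) =
      zeroLocus (Module.annihilator (p.Fiber S) (FlatCA.fiberMod p S N) : Set (p.Fiber S)) :=
    Module.support_eq_zeroLocus
  generalize Module.annihilator (p.Fiber S) (FlatCA.fiberMod p S N) = I at hSupp
  have hSupp' : Module.support (p'.Fiber S') (FlatCA.fiberMod p' S' N') =
      zeroLocus ((I.map (algebraMap (p.Fiber S) (p'.Fiber S')) : Ideal (p'.Fiber S')) :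
        Set (p'.Fiber S')) := by
    ext x
    rw [hsupp x, hSupp, ← Set.mem_preimage, preimage_comap_zeroLocus, Ideal.map, zeroLocus_span]
  obtain ⟨ξ, hξ, hξq, hlocdim⟩ := h1
  obtain ⟨Q, hQ, hQq⟩ := exists_prime_fiberIdeal p q
  have ht : ((1 : p.ResidueField) ⊗ₜ[R] hX : p.Fiber S) ∉ ξ.asIdeal := by
    intro hmem
    apply hXq
    rw [hξq, ← hQ] at hmem
    rw [← hQq]
    exact hmem
  obtain ⟨ξ', hξ', hξ'eq, hlocEq, hle, hge⟩ := locSupp (F' := p'.Fiber S') I
    ((1 : p.ResidueField) ⊗ₜ[R] hX) ξ (hSupp ▸ hξ) ht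
  have hdim' : Order.krullDim ↥(zeroLocus (I : Set (p.Fiber S))) = n := by
    rw [← hdim, Module.supportDim, hSupp]
  have hlocdim' : FlatMor.localDim ↥(zeroLocus (I : Set (p.Fiber S))) ⟨ξ, hSupp ▸ hξ⟩ = n := by
    rw [← hlocdim]
    exact (localDim_congr hSupp ξ hξ).symm
  refine ⟨?_, ξ', hSupp' ▸ hξ', ?_, ?_⟩
  · rw [Module.supportDim, hSupp']
    apply le_antisymm
    · exact hle.trans (le_of_eq hdim')
    · rw [← hlocdim']; exact hge
  · rw [hξ'eq, hξq]
    unfold FlatCA.fiberIdeal
    rw [Ideal.map_map]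
    have hq' : q' = q.map (algebraMap S S') := by
      rw [hqq.over]
      exact (IsLocalization.map_under (Submonoid.powers hX) S' q').symm
    rw [hq', Ideal.map_map]
    congr 1
    refine RingHom.ext fun s => ?_
    exact hmap' s
  · rw [← hlocdim', ← hlocEq]
    exact localDim_congr hSupp' ξ' (hSupp' ▸ hξ')

end fibreGen

section fibreLoc

open Groth.Agent.S12239

variable {R R' S S' : Type u} [CommRing R] [CommRing R'] [Algebra R R'] (p : Ideal R) [p.IsPrime]
  (p' : Ideal R') [p'.IsPrime] [hp' : p'.LiesOver p]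
  [CommRing S] [CommRing S'] [Algebra R S] [Algebra R' S'] [Algebra R S'] [Algebra S S']
  [IsScalarTower R R' S'] [IsScalarTower R S S']
  (hX : S) [IsLocalization.Away hX S']
  (N N' : Type u) [AddCommGroup N] [Module S N]
  [Module.Finite S N] [AddCommGroup N'] [Module S' N']
  [Module S N'] [IsScalarTower S S' N']

attribute [local instance] Algebra.TensorProduct.rightAlgebra in
theorem fibre_shrink_loc
    (hκ : Function.Bijective (Ideal.ResidueField.mapₐ p p' (Algebra.ofId R R') hp'.over))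
    [Algebra.IsPushout R R' S' S']
    (fN : N →ₗ[S] N') [IsLocalizedModule (Submonoid.powers hX) fN]
    (q : Ideal S) [q.IsPrime] [hq : q.LiesOver p] (q' : Ideal S') [q'.IsPrime]
    [hqq : q'.LiesOver q] (hXq : hX ∉ q) (n : ℕ)
    (h1 : ∃ (ξ : PrimeSpectrum (p.Fiber S))
      (hξ : ξ ∈ Module.support (p.Fiber S) (FlatCA.fiberMod p S N)),
      ξ.asIdeal = FlatCA.fiberIdeal p q ∧
      FlatMor.localDim (Module.support (p.Fiber S) (FlatCA.fiberMod p S N)) ⟨ξ, hξ⟩ = n)
    (hdim : Module.supportDim (p.Fiber S) (FlatCA.fiberMod p S N) = n) :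
    Module.supportDim (p'.Fiber S') (FlatCA.fiberMod p' S' N') = n ∧
    ∃ (ξ' : PrimeSpectrum (p'.Fiber S'))
      (hξ' : ξ' ∈ Module.support (p'.Fiber S') (FlatCA.fiberMod p' S' N')),
      ξ'.asIdeal = FlatCA.fiberIdeal p' q' ∧
      FlatMor.localDim (Module.support (p'.Fiber S') (FlatCA.fiberMod p' S' N')) ⟨ξ', hξ'⟩ = n := by
  let Φ : p.Fiber S' ≃+* p'.Fiber S' := fibreIso (S := S') (S' := S') p p' hκ
  let φ : p.Fiber S →+* p'.Fiber S' := Φ.toRingHom.comp (fibMap (S' := S') p).toRingHom
  refine fibre_shrink_gen p p' hX N N' φ ?_ ?_ fN q q' hXq n h1 hdim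
  · let _ : Algebra (p.Fiber S) (p.Fiber S') := (fibMap (S' := S') p).toRingHom.toAlgebra
    let _ : Algebra (p.Fiber S) (p'.Fiber S') := φ.toAlgebra
    have hloc : IsLocalization.Away ((1 : p.ResidueField) ⊗ₜ[R] hX : p.Fiber S) (p.Fiber S') :=
      fibMap_isLocalization p hX
    let e : p.Fiber S' ≃ₐ[p.Fiber S] p'.Fiber S' := AlgEquiv.ofRingEquiv (f := Φ) (fun x => rfl)
    exact IsLocalization.isLocalization_of_algEquiv _ e
  · intro s
    change Φ (fibMap (S' := S') p ((1 : p.ResidueField) ⊗ₜ[R] s)) = _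
    rw [fibMap_one_tmul]
    exact fibreIso_one_tmul p p' hκ (algebraMap S S' s)

end fibreLoc




section resfield

variable {R R' : Type*} [CommRing R] [CommRing R'] [Algebra R R'] (M : Submonoid R)
  [IsLocalization M R'] (p : Ideal R) [p.IsPrime] (p' : Ideal R') [p'.IsPrime]
  [hp' : p'.LiesOver p]

include M in
/-- residue fields do not change under localization. -/
lemma residueField_map_bijective_of_isLocalization :
    Function.Bijective (Ideal.ResidueField.mapₐ p p' (Algebra.ofId R R') hp'.over) := by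
  set ψ := Ideal.ResidueField.mapₐ p p' (Algebra.ofId R R') hp'.over with hψ
  refine ⟨ψ.toRingHom.injective, ?_⟩
  have key : ∀ u : R', algebraMap R' p'.ResidueField u ∈ ψ.toRingHom.fieldRange := by
    intro u
    obtain ⟨⟨a, m⟩, h⟩ := IsLocalization.surj M u
    simp only at h
    have hR : ∀ r : R, algebraMap R' p'.ResidueField (algebraMap R R' r) ∈
        ψ.toRingHom.fieldRange := by
      intro r
      refine ⟨algebraMap R p.ResidueField r, ?_⟩
      change ψ (algebraMap R p.ResidueField r) = _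
      rw [ψ.commutes, IsScalarTower.algebraMap_apply R R' p'.ResidueField]
    have hm : algebraMap R' p'.ResidueField (algebraMap R R' m) ≠ 0 := by
      rw [Ne, Ideal.algebraMap_residueField_eq_zero]
      intro hm
      exact ‹p'.IsPrime›.ne_top (Ideal.eq_top_of_isUnit_mem _ hm (IsLocalization.map_units R' m))
    have h0 := congrArg (algebraMap R' p'.ResidueField) h
    rw [map_mul] at h0
    have : algebraMap R' p'.ResidueField u =
        algebraMap R' p'.ResidueField (algebraMap R R' a) *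
          (algebraMap R' p'.ResidueField (algebraMap R R' m))⁻¹ := by
      rw [← h0, mul_assoc, mul_inv_cancel₀ hm, mul_one]
    rw [this]
    exact mul_mem (hR a) (inv_mem (hR m))
  intro x
  obtain ⟨a, c, hc, rfl⟩ := IsFractionRing.div_surjective (A := R' ⧸ p') x
  obtain ⟨a, rfl⟩ := Ideal.Quotient.mk_surjective a
  obtain ⟨c, rfl⟩ := Ideal.Quotient.mk_surjective c
  have : algebraMap (R' ⧸ p') p'.ResidueField (Ideal.Quotient.mk p' a) /
      algebraMap (R' ⧸ p') p'.ResidueField (Ideal.Quotient.mk p' c) ∈ ψ.toRingHom.fieldRange :=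
    div_mem (key a) (key c)
  exact this

end resfield

section purelyTrans

open Groth.Agent.S12239

variable {R R' D D' : Type u} [CommRing R] [CommRing R'] [Algebra R R'] (p : Ideal R) [p.IsPrime]
  (p' : Ideal R') [p'.IsPrime] [hp' : p'.LiesOver p]
  [CommRing D] [CommRing D'] [Algebra R D] [Algebra R' D'] [Algebra R D']
  [Algebra D D'] [IsScalarTower R R' D'] [IsScalarTower R D D']

lemma purelyTranscendental_of_surjective
    (hκ : Function.Bijective (Ideal.ResidueField.mapₐ p p' (Algebra.ofId R R') hp'.over))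
    (y : Ideal D) [y.IsPrime] [hy : y.LiesOver p] (y' : Ideal D') [y'.IsPrime]
    [hyy : y'.LiesOver y] [hy' : y'.LiesOver p']
    (hψsurj : Function.Surjective (Ideal.ResidueField.mapₐ y y' (Algebra.ofId D D') hyy.over))
    (h4 : FlatCA.PurelyTranscendental p y) : FlatCA.PurelyTranscendental p' y' := by
  unfold FlatCA.PurelyTranscendental at h4 ⊢
  set φ₁ := Ideal.ResidueField.mapₐ p y (Algebra.ofId R D) hy.over with hφ₁
  set φ₂ := Ideal.ResidueField.mapₐ p' y' (Algebra.ofId R' D') hy'.over with hφ₂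
  set σ := Ideal.ResidueField.mapₐ p p' (Algebra.ofId R R') hp'.over with hσ
  set ψ := Ideal.ResidueField.mapₐ y y' (Algebra.ofId D D') hyy.over with hψ
  have hcomm : ψ.toRingHom.comp φ₁.toRingHom = φ₂.toRingHom.comp σ.toRingHom := by
    apply Ideal.ResidueField.ringHom_ext
    refine RingHom.ext fun r => ?_
    simp only [RingHom.comp_apply, AlgHom.toRingHom_eq_coe, RingHom.coe_coe, AlgHom.commutes]
    rw [IsScalarTower.algebraMap_apply R D y.ResidueField, ψ.commutes,
      IsScalarTower.algebraMap_apply D D' y'.ResidueField,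
      IsScalarTower.algebraMap_apply R R' p'.ResidueField, φ₂.commutes,
      IsScalarTower.algebraMap_apply R' D' y'.ResidueField,
      ← IsScalarTower.algebraMap_apply R D D', ← IsScalarTower.algebraMap_apply R R' D']
  let A1 : Algebra p.ResidueField y.ResidueField := φ₁.toRingHom.toAlgebra
  let A2 : Algebra p'.ResidueField y'.ResidueField := φ₂.toRingHom.toAlgebra
  let A3 : Algebra p.ResidueField p'.ResidueField := σ.toRingHom.toAlgebra
  let A4 : Algebra p.ResidueField y'.ResidueField := (φ₂.toRingHom.comp σ.toRingHom).toAlgebra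
  have tw : IsScalarTower p.ResidueField p'.ResidueField y'.ResidueField :=
    IsScalarTower.of_algebraMap_eq fun _ => rfl
  let ψ' : y.ResidueField ≃ₐ[p.ResidueField] y'.ResidueField :=
    AlgEquiv.ofBijective
      { ψ.toRingHom with
        commutes' := fun r => congrArg (fun f : p.ResidueField →+* y'.ResidueField => f r) hcomm }
      ⟨ψ.toRingHom.injective, hψsurj⟩
  obtain ⟨ι, x, hx, hadj⟩ := h4
  refine ⟨ι, ψ' ∘ x, ?_, ?_⟩
  · have h1 : IsTranscendenceBasis p.ResidueField (ψ' ∘ x) := ψ'.isTranscendenceBasis hx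
    have : Algebra.IsIntegral p.ResidueField p'.ResidueField :=
      Algebra.isIntegral_of_surjective hκ.2
    exact (Algebra.IsIntegral.isTranscendenceBasis_iff p.ResidueField p'.ResidueField).mp h1
  · have h2 : IntermediateField.adjoin p.ResidueField (Set.range (ψ' ∘ x)) = ⊤ := by
      rw [Set.range_comp, ← AlgEquiv.coe_toAlgHom, ← IntermediateField.adjoin_map, hadj,
        ← AlgHom.fieldRange_eq_map, AlgHom.fieldRange_eq_top]
      exact ψ'.surjective
    rw [eq_top_iff]
    intro z _
    have hz : z ∈ IntermediateField.adjoin p.ResidueField (Set.range (ψ' ∘ x)) := by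
      rw [h2]; trivial
    have hle : IntermediateField.adjoin p.ResidueField (Set.range (ψ' ∘ x)) ≤
        (IntermediateField.adjoin p'.ResidueField (Set.range (ψ' ∘ x))).restrictScalars
          p.ResidueField := by
      rw [IntermediateField.adjoin_le_iff]
      exact IntermediateField.subset_adjoin _ _
    exact hle hz

end purelyTrans



section geom

open AlgebraicGeometry CategoryTheory Limits

variable {R R' D D' : Type u} [CommRing R] [CommRing R'] [CommRing D] [CommRing D']
  [Algebra R R'] [Algebra R D] [Algebra R' D'] [Algebra R D'] [Algebra D D']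
  [IsScalarTower R R' D'] [IsScalarTower R D D']
  (g : R) [IsLocalization.Away g R'] (hY : D) [IsLocalization.Away hY D']

include g hY in
theorem smooth_geomIrred_shrink (n : ℕ) (hsm : FlatCA.SmoothRelDim n R D)
    (hgi : FlatCA.GeomIrredFibres R D)
    (hsurj : Function.Surjective (PrimeSpectrum.comap (algebraMap R' D'))) :
    FlatCA.SmoothRelDim n R' D' ∧ FlatCA.GeomIrredFibres R' D' := by
  let f : Spec (.of D) ⟶ Spec (.of R) := Spec.map (CommRingCat.ofHom (algebraMap R D))
  let j : Spec (.of R') ⟶ Spec (.of R) := Spec.map (CommRingCat.ofHom (algebraMap R R'))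
  let i : Spec (.of D') ⟶ Spec (.of D) := Spec.map (CommRingCat.ofHom (algebraMap D D'))
  let φ : Spec (.of D') ⟶ Spec (.of R') := Spec.map (CommRingCat.ofHom (algebraMap R' D'))
  have hj : IsOpenImmersion j := IsOpenImmersion.of_isLocalization g
  have hi : IsOpenImmersion i := IsOpenImmersion.of_isLocalization hY
  have hcomm : i ≫ f = φ ≫ j := by
    simp only [i, f, φ, j, ← Spec.map_comp, ← CommRingCat.ofHom_comp]
    rw [← IsScalarTower.algebraMap_eq R D D', ← IsScalarTower.algebraMap_eq R R' D']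
  let l : Spec (.of D') ⟶ pullback f j := pullback.lift i φ hcomm
  have hl1 : l ≫ pullback.fst f j = i := pullback.lift_fst _ _ _
  have hl2 : l ≫ pullback.snd f j = φ := pullback.lift_snd _ _ _
  have hl : IsOpenImmersion l := by
    have : IsOpenImmersion (l ≫ pullback.fst f j) := by rw [hl1]; exact hi
    exact IsOpenImmersion.of_comp l (pullback.fst f j)
  have hsm' : SmoothOfRelativeDimension n (pullback.snd f j) := by
    have := smoothOfRelativeDimension_isStableUnderBaseChange (n := n)
    exact MorphismProperty.pullback_snd (P := @SmoothOfRelativeDimension n) f j hsm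
  have hgi' : GeometricallyIrreducible f := hgi
  have hφsurj : Surjective (l ≫ pullback.snd f j) := by
    rw [hl2]
    refine ⟨?_⟩
    exact hsurj
  refine ⟨?_, ?_⟩
  · change SmoothOfRelativeDimension n φ
    rw [← hl2, ← zero_add n]
    infer_instance
  · change GeometricallyIrreducible φ
    rw [← hl2]
    infer_instance

end geom



section choice

open AlgebraicGeometry CategoryTheory Limits

theorem exists_g {R D : Type u} [CommRing R] [CommRing D] [Algebra R D] (n : ℕ)
    (hsm : FlatCA.SmoothRelDim n R D) (p : Ideal R) [p.IsPrime] (y : Ideal D) [y.IsPrime]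
    [hy : y.LiesOver p] (w : D) (hw : w ∉ y) :
    ∃ g : R, g ∉ p ∧ ∀ P : PrimeSpectrum R, g ∉ P.asIdeal →
      ∃ Q : PrimeSpectrum D, w ∉ Q.asIdeal ∧ Q.asIdeal.comap (algebraMap R D) = P.asIdeal := by
  let f : Spec (.of D) ⟶ Spec (.of R) := Spec.map (CommRingCat.ofHom (algebraMap R D))
  have hsm' : SmoothOfRelativeDimension n f := hsm
  have : Smooth f := SmoothOfRelativeDimension.smooth n f
  have hopen : IsOpenMap (PrimeSpectrum.comap (algebraMap R D)) := f.isOpenMap
  have h1 : IsOpen (PrimeSpectrum.comap (algebraMap R D) '' (PrimeSpectrum.basicOpen w : Set _)) :=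
    hopen _ (PrimeSpectrum.basicOpen w).isOpen
  have h2 : (⟨p, inferInstance⟩ : PrimeSpectrum R) ∈
      PrimeSpectrum.comap (algebraMap R D) '' (PrimeSpectrum.basicOpen w : Set _) := by
    refine ⟨⟨y, inferInstance⟩, hw, ?_⟩
    exact PrimeSpectrum.ext hy.over.symm
  obtain ⟨v, ⟨g, rfl⟩, hpv, hv⟩ :=
    PrimeSpectrum.isTopologicalBasis_basic_opens.exists_subset_of_mem_open h2 h1
  refine ⟨g, hpv, fun P hP => ?_⟩
  obtain ⟨Q, hQ, rfl⟩ := hv hP
  exact ⟨Q, hQ, rfl⟩

theorem exists_hY₀ {S C D : Type u} [CommRing S] [CommRing C] [CommRing D] [Algebra S C]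
    [Algebra D C] [Module.Finite D C] (q : Ideal S) (z : Ideal C) [z.IsPrime] (y : Ideal D)
    [y.IsPrime] [hzq : z.LiesOver q]
    (h3 : ∀ (z₁ : Ideal C) [z₁.IsPrime], z₁.LiesOver y → z₁ = z) (u : S) (hu : u ∉ q) :
    ∃ (hY₀ : D) (c : C), hY₀ ∉ y ∧ algebraMap D C hY₀ = algebraMap S C u * c := by
  by_contra hcon
  push Not at hcon
  have hle : (Ideal.span {algebraMap S C u}).comap (algebraMap D C) ≤ y := by
    intro d hd
    by_contra hdy
    rw [Ideal.mem_comap, Ideal.mem_span_singleton'] at hd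
    obtain ⟨c, hc⟩ := hd
    exact hcon d c hdy (by rw [← hc, mul_comm])
  obtain ⟨Q, hQ, hQp, hQy⟩ := Ideal.exists_ideal_over_prime_of_isIntegral y
    (Ideal.span {algebraMap S C u}) hle
  have hQz : Q = z := h3 Q ⟨hQy.symm⟩
  apply hu
  rw [hzq.over, Ideal.mem_comap, ← hQz]
  exact hQ (Ideal.subset_span rfl)

end choice

end Groth.Agent.Lib.Helper64.Shrink
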