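import Groth.Agent.Lib.Helper64.Shrink
import Mathlib

/-!
# Local dimension of the fibre support under shrinking, without a global dimension hypothesis
(helper64)
-/

set_option autoImplicit false
universe u
open scoped TensorProduct
open PrimeSpectrum

namespace Groth.Agent.Lib.Helper64.Shrink

section fibreGen'

open Groth.Agent.S12239

variable {R R' S S' : Type u} [CommRing R] [CommRing R'] (p : Ideal R) [p.IsPrime]
  (p' : Ideal R') [p'.IsPrime]
  [CommRing S] [CommRing S'] [Algebra R S] [Algebra R' S'] [Algebra S S']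
  (hX : S) [IsLocalization.Away hX S']
  (N N' : Type u) [AddCommGroup N] [Module S N]
  [Module.Finite S N] [AddCommGroup N'] [Module S' N']
  [Module S N'] [IsScalarTower S S' N']

attribute [local instance] Algebra.TensorProduct.rightAlgebra in
theorem fibre_shrink_gen' (φ : p.Fiber S →+* p'.Fiber S')
    (hloc : letI : Algebra (p.Fiber S) (p'.Fiber S') := φ.toAlgebra
      IsLocalization.Away ((1 : p.ResidueField) ⊗ₜ[R] hX : p.Fiber S) (p'.Fiber S'))
    (hmap : ∀ s : S, φ ((1 : p.ResidueField) ⊗ₜ[R] s) =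
      (1 : p'.ResidueField) ⊗ₜ[R'] (algebraMap S S' s))
    (fN : N →ₗ[S] N') [IsLocalizedModule (Submonoid.powers hX) fN]
    (q : Ideal S) [q.IsPrime] [hq : q.LiesOver p] (q' : Ideal S') [q'.IsPrime]
    [hqq : q'.LiesOver q] (hXq : hX ∉ q) (n : ℕ)
    (h1 : ∃ (ξ : PrimeSpectrum (p.Fiber S))
      (hξ : ξ ∈ Module.support (p.Fiber S) (FlatCA.fiberMod p S N)),
      ξ.asIdeal = FlatCA.fiberIdeal p q ∧
      FlatMor.localDim (Module.support (p.Fiber S) (FlatCA.fiberMod p S N)) ⟨ξ, hξ⟩ = n) :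
    ∃ (ξ' : PrimeSpectrum (p'.Fiber S'))
      (hξ' : ξ' ∈ Module.support (p'.Fiber S') (FlatCA.fiberMod p' S' N')),
      ξ'.asIdeal = FlatCA.fiberIdeal p' q' ∧
      FlatMor.localDim (Module.support (p'.Fiber S') (FlatCA.fiberMod p' S' N')) ⟨ξ', hξ'⟩ = n := by
  let _ : Algebra (p.Fiber S) (p'.Fiber S') := φ.toAlgebra
  have hf : IsBaseChange S' fN := IsLocalizedModule.isBaseChange (Submonoid.powers hX) S' fN
  have hfinN' : Module.Finite S' N' := Groth.Agent.S12231.finite_of_isBaseChange fN hf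
  have hmap' : ∀ s : S, algebraMap (p.Fiber S) (p'.Fiber S') ((1 : p.ResidueField) ⊗ₜ[R] s) =
      (1 : p'.ResidueField) ⊗ₜ[R'] (algebraMap S S' s) := hmap
  -- compatibility of contractions
  have hcomp : ∀ x : PrimeSpectrum (p'.Fiber S'),
      PrimeSpectrum.comap (Algebra.TensorProduct.includeRight (R := R) (A := p.ResidueField)
        (B := S)).toRingHom (PrimeSpectrum.comap (algebraMap (p.Fiber S) (p'.Fiber S')) x) =
      PrimeSpectrum.comap (algebraMap S S')
        (PrimeSpectrum.comap (Algebra.TensorProduct.includeRight (R := R') (A := p'.ResidueField)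
          (B := S')).toRingHom x) := by
    intro x
    rw [← PrimeSpectrum.comap_comp_apply, ← PrimeSpectrum.comap_comp_apply]
    congr 1
    refine RingHom.ext fun s => ?_
    exact hmap' s
  have hsupp : ∀ x : PrimeSpectrum (p'.Fiber S'),
      x ∈ Module.support (p'.Fiber S') (FlatCA.fiberMod p' S' N') ↔
        PrimeSpectrum.comap (algebraMap (p.Fiber S) (p'.Fiber S')) x ∈
          Module.support (p.Fiber S) (FlatCA.fiberMod p S N) := by
    intro x
    rw [mem_support_fiberMod_iff, mem_support_fiberMod_iff, hcomp, ← hf.equiv.support_eq,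
      Groth.Agent.S6284.result]
    rfl
  have hfinF : Module.Finite (p.Fiber S) (FlatCA.fiberMod p S N) :=
    inferInstanceAs (Module.Finite (p.Fiber S) ((p.Fiber S) ⊗[S] N))
  have hSupp : Module.support (p.Fiber S) (FlatCA.fiberMod p S N) =
      zeroLocus (Module.annihilator (p.Fiber S) (FlatCA.fiberMod p S N) : Set (p.Fiber S)) :=
    Module.support_eq_zeroLocus
  generalize Module.annihilator (p.Fiber S) (FlatCA.fiberMod p S N) = I at hSupp
  have hSupp' : Module.support (p'.Fiber S') (FlatCA.fiberMod p' S' N') =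
      zeroLocus ((I.map (algebraMap (p.Fiber S) (p'.Fiber S')) : Ideal (p'.Fiber S')) :
        Set (p'.Fiber S')) := by
    ext x
    rw [hsupp x, hSupp, ← Set.mem_preimage, preimage_comap_zeroLocus, Ideal.map, zeroLocus_span]
  obtain ⟨ξ, hξ, hξq, hlocdim⟩ := h1
  obtain ⟨Q, hQ, hQq⟩ := exists_prime_fiberIdeal p q
  have ht : ((1 : p.ResidueField) ⊗ₜ[R] hX : p.Fiber S) ∉ ξ.asIdeal := by
    intro hmem
    apply hXq
    rw [hξq, ← hQ] at hmem
    rw [← hQq]
    exact hmem
  obtain ⟨ξ', hξ', hξ'eq, hlocEq, -, -⟩ := locSupp (F' := p'.Fiber S') I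
    ((1 : p.ResidueField) ⊗ₜ[R] hX) ξ (hSupp ▸ hξ) ht
  have hlocdim' : FlatMor.localDim ↥(zeroLocus (I : Set (p.Fiber S))) ⟨ξ, hSupp ▸ hξ⟩ = n := by
    rw [← hlocdim]
    exact (localDim_congr hSupp ξ hξ).symm
  refine ⟨ξ', hSupp' ▸ hξ', ?_, ?_⟩
  · rw [hξ'eq, hξq]
    unfold FlatCA.fiberIdeal
    rw [Ideal.map_map]
    have hq' : q' = q.map (algebraMap S S') := by
      rw [hqq.over]
      exact (IsLocalization.map_under (Submonoid.powers hX) S' q').symm
    rw [hq', Ideal.map_map]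
    congr 1
    refine RingHom.ext fun s => ?_
    exact hmap' s
  · rw [← hlocdim', ← hlocEq]
    exact localDim_congr hSupp' ξ' (hSupp' ▸ hξ')

end fibreGen'

section fibreLoc'

open Groth.Agent.S12239

variable {R R' S S' : Type u} [CommRing R] [CommRing R'] [Algebra R R'] (p : Ideal R) [p.IsPrime]
  (p' : Ideal R') [p'.IsPrime] [hp' : p'.LiesOver p]
  [CommRing S] [CommRing S'] [Algebra R S] [Algebra R' S'] [Algebra R S'] [Algebra S S']
  [IsScalarTower R R' S'] [IsScalarTower R S S']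
  (hX : S) [IsLocalization.Away hX S']
  (N N' : Type u) [AddCommGroup N] [Module S N]
  [Module.Finite S N] [AddCommGroup N'] [Module S' N']
  [Module S N'] [IsScalarTower S S' N']

attribute [local instance] Algebra.TensorProduct.rightAlgebra in
theorem fibre_shrink_loc'
    (hκ : Function.Bijective (Ideal.ResidueField.mapₐ p p' (Algebra.ofId R R') hp'.over))
    [Algebra.IsPushout R R' S' S']
    (fN : N →ₗ[S] N') [IsLocalizedModule (Submonoid.powers hX) fN]
    (q : Ideal S) [q.IsPrime] [hq : q.LiesOver p] (q' : Ideal S') [q'.IsPrime]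
    [hqq : q'.LiesOver q] (hXq : hX ∉ q) (n : ℕ)
    (h1 : ∃ (ξ : PrimeSpectrum (p.Fiber S))
      (hξ : ξ ∈ Module.support (p.Fiber S) (FlatCA.fiberMod p S N)),
      ξ.asIdeal = FlatCA.fiberIdeal p q ∧
      FlatMor.localDim (Module.support (p.Fiber S) (FlatCA.fiberMod p S N)) ⟨ξ, hξ⟩ = n) :
    ∃ (ξ' : PrimeSpectrum (p'.Fiber S'))
      (hξ' : ξ' ∈ Module.support (p'.Fiber S') (FlatCA.fiberMod p' S' N')),
      ξ'.asIdeal = FlatCA.fiberIdeal p' q' ∧
      FlatMor.localDim (Module.support (p'.Fiber S') (FlatCA.fiberMod p' S' N')) ⟨ξ', hξ'⟩ = n := by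
  let Φ : p.Fiber S' ≃+* p'.Fiber S' := fibreIso (S := S') (S' := S') p p' hκ
  let φ : p.Fiber S →+* p'.Fiber S' := Φ.toRingHom.comp (fibMap (S' := S') p).toRingHom
  refine fibre_shrink_gen' p p' hX N N' φ ?_ ?_ fN q q' hXq n h1
  · let _ : Algebra (p.Fiber S) (p.Fiber S') := (fibMap (S' := S') p).toRingHom.toAlgebra
    let _ : Algebra (p.Fiber S) (p'.Fiber S') := φ.toAlgebra
    have hloc : IsLocalization.Away ((1 : p.ResidueField) ⊗ₜ[R] hX : p.Fiber S) (p.Fiber S') :=
      fibMap_isLocalization p hX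
    let e : p.Fiber S' ≃ₐ[p.Fiber S] p'.Fiber S' := AlgEquiv.ofRingEquiv (f := Φ) (fun x => rfl)
    exact IsLocalization.isLocalization_of_algEquiv _ e
  · intro s
    change Φ (fibMap (S' := S') p ((1 : p.ResidueField) ⊗ₜ[R] s)) = _
    rw [fibMap_one_tmul]
    exact fibreIso_one_tmul p p' hκ (algebraMap S S' s)

end fibreLoc'

end Groth.Agent.Lib.Helper64.Shrink
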