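import Mathlib
import Groth.Prelude.Def_FlatCA
import Groth.Agent.Lib.Helper64.AwayGen
import Groth.Agent.Lib.Helper64.BCGen
import Groth.Agent.Lib.Helper64.ShrinkCore
import Groth.Agent.Lib.Helper64.ShrinkLoc
import Groth.Agent.S12231

/-!
# Standard shrinking of a complete dévissage: the uniform localized families (helper64)
-/

set_option autoImplicit false
universe u
open TensorProduct

namespace Groth.Agent.Lib.Helper64.ShrinkCD

open Groth.Agent.Lib.Helper64.AwayGen Groth.Agent.Lib.Helper64.Shrink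

attribute [local instance] FlatCA.CompleteDevissageAt.hqB FlatCA.CompleteDevissageAt.hqA
  FlatCA.CompleteDevissageAt.overB FlatCA.CompleteDevissageAt.overA

section defs

variable {R S : Type u} [CommRing R] [CommRing S] [Algebra R S]
  {N : Type u} [AddCommGroup N] [Module S N] {p : Ideal R} [p.IsPrime]
  (𝒟 : FlatCA.CompleteDevissage R S N p) (g : R) (χ : S) (β : ∀ i, 𝒟.B i)

/-- the element of `S` -/
def hXel : S := χ * algebraMap R S g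

/-- the elements of the smooth algebras -/
def bEl (i : ℕ) : 𝒟.B i := β i * algebraMap R (𝒟.B i) g

/-- the elements of the rings carrying the modules -/
def aEl : ∀ i : ℕ, 𝒟.A i
  | 0 => algebraMap S (𝒟.A 0) (hXel g χ) * algebraMap (𝒟.B 0) (𝒟.A 0) (bEl 𝒟 g β 0)
  | j + 1 => algebraMap (𝒟.B j) (𝒟.A (j + 1)) (bEl 𝒟 g β j) *
      algebraMap (𝒟.B (j + 1)) (𝒟.A (j + 1)) (bEl 𝒟 g β (j + 1))

instance dvd1 : AwayDvd g (hXel g χ) := .of_dvd (Dvd.intro_left _ rfl)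

instance dvd2 (i : ℕ) : AwayDvd g (bEl 𝒟 g β i) := .of_dvd (Dvd.intro_left _ rfl)

instance dvd3 : ∀ i : ℕ, AwayDvd g (aEl 𝒟 g χ β i)
  | 0 => .of_dvd (by
      refine Dvd.dvd.mul_right ?_ _
      rw [hXel, map_mul, ← IsScalarTower.algebraMap_apply R S (𝒟.A 0)]
      exact Dvd.intro_left _ rfl)
  | j + 1 => .of_dvd (by
      refine Dvd.dvd.mul_right ?_ _
      rw [bEl, map_mul, ← IsScalarTower.algebraMap_apply R (𝒟.B j) (𝒟.A (j + 1))]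
      exact Dvd.intro_left _ rfl)

instance dvd4 : ∀ i : ℕ, AwayDvd (bEl 𝒟 g β i) (aEl 𝒟 g χ β i)
  | 0 => .of_dvd (Dvd.intro_left _ rfl)
  | _ + 1 => .of_dvd (Dvd.intro_left _ rfl)

instance dvd5 (i : ℕ) : AwayDvd (bEl 𝒟 g β i) (aEl 𝒟 g χ β (i + 1)) :=
  .of_dvd (Dvd.intro _ rfl)

instance dvd6 : AwayDvd (hXel g χ) (aEl 𝒟 g χ β 0) := .of_dvd (Dvd.intro _ rfl)

/-- the localized base -/
abbrev Rg : Type u := Localization.Away g
/-- the localized algebra -/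
abbrev Sh : Type u := Localization.Away (hXel g χ)
/-- the localized smooth algebras -/
abbrev GB (i : ℕ) : Type u := Localization.Away (bEl 𝒟 g β i)
/-- the localized rings carrying the modules -/
abbrev GA (i : ℕ) : Type u := Localization.Away (aEl 𝒟 g χ β i)
/-- the localized modules -/
abbrev GM (i : ℕ) : Type u := LocalizedModule (Submonoid.powers (aEl 𝒟 g χ β i)) (𝒟.M i)
/-- the localized module -/
abbrev Nh : Type u := LocalizedModule (Submonoid.powers (hXel g χ)) N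

variable (i : ℕ)

/-- the localization map of modules -/
noncomputable abbrev gM : 𝒟.M i →ₗ[𝒟.A i] GM 𝒟 g χ β i :=
  LocalizedModule.mkLinearMap (Submonoid.powers (aEl 𝒟 g χ β i)) (𝒟.M i)

/-- the localization of `α i` -/
noncomputable def α₁ : (Fin (𝒟.r i) → GB 𝒟 g β i) →ₗ[GB 𝒟 g β i] GM 𝒟 g χ β i :=
  Fintype.linearCombination (GB 𝒟 g β i) (fun j => gM 𝒟 g χ β i (𝒟.α i (Pi.single j 1)))

/-- the localization map of free modules -/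
noncomputable abbrev gX : (Fin (𝒟.r i) → 𝒟.B i) →ₗ[𝒟.B i] (Fin (𝒟.r i) → GB 𝒟 g β i) :=
  (Algebra.linearMap (𝒟.B i) (GB 𝒟 g β i)).compLeft (Fin (𝒟.r i))

theorem hgX : IsBaseChange (GB 𝒟 g β i) (gX 𝒟 g β i) :=
  IsBaseChange.finitePow (Fin (𝒟.r i)) (IsBaseChange.linearMap (𝒟.B i) (GB 𝒟 g β i))

theorem α₁_comm (x : Fin (𝒟.r i) → 𝒟.B i) :
    α₁ 𝒟 g χ β i (gX 𝒟 g β i x) = gM 𝒟 g χ β i (𝒟.α i x) := by
  rw [α₁, Fintype.linearCombination_apply]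
  have hx : x = ∑ j, x j • (Pi.single j 1 : Fin (𝒟.r i) → 𝒟.B i) := by
    ext k
    simp [Finset.sum_apply, Pi.single_apply]
  conv_rhs => rw [hx, map_sum, map_sum]
  refine Finset.sum_congr rfl (fun j _ => ?_)
  rw [map_smul]
  show algebraMap (𝒟.B i) (GB 𝒟 g β i) (x j) • _ =
    ((gM 𝒟 g χ β i).restrictScalars (𝒟.B i)) (x j • _)
  rw [map_smul, algebraMap_smul]
  rfl

theorem range_α₁ : LinearMap.range (α₁ 𝒟 g χ β i) =
    Submodule.span (GB 𝒟 g β i)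
      ((gM 𝒟 g χ β i) '' (LinearMap.range (𝒟.α i) : Set (𝒟.M i))) := by
  apply le_antisymm
  · rw [α₁, Fintype.range_linearCombination]
    apply Submodule.span_mono
    rintro _ ⟨j, rfl⟩
    exact ⟨_, ⟨_, rfl⟩, rfl⟩
  · rw [Submodule.span_le]
    rintro _ ⟨_, ⟨x, rfl⟩, rfl⟩
    exact ⟨gX 𝒟 g β i x, α₁_comm 𝒟 g χ β i x⟩


end defs


section lemmas

variable {R S : Type u} [CommRing R] [CommRing S] [Algebra R S]
  {N : Type u} [AddCommGroup N] [Module S N] {p : Ideal R} [p.IsPrime] {q : Ideal S} [q.IsPrime]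
  {𝒟 : FlatCA.CompleteDevissage R S N p} (𝒜 : FlatCA.CompleteDevissageAt R S N p q 𝒟)
  (g : R) (χ : S) (β : ∀ i, 𝒟.B i)

/-- the hypotheses on the chosen elements -/
structure Hyp : Prop where
  hg : g ∉ p
  hβ : ∀ i, β i ∉ 𝒜.qB i
  h0 : algebraMap S (𝒟.A 0) χ = algebraMap (𝒟.B 0) (𝒟.A 0) (β 0)
  hs : ∀ i, i + 1 < 𝒟.n →
    algebraMap (𝒟.B i) (𝒟.A (i + 1)) (β i) = algebraMap (𝒟.B (i + 1)) (𝒟.A (i + 1)) (β (i + 1))
  hsurj : ∀ i, i < 𝒟.n → ∀ P : PrimeSpectrum R, g ∉ P.asIdeal →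
    ∃ Q : PrimeSpectrum (𝒟.B i), β i ∉ Q.asIdeal ∧
      Q.asIdeal.comap (algebraMap R (𝒟.B i)) = P.asIdeal

variable {𝒜 g χ β} (H : Hyp 𝒜 g χ β)

include H

theorem img0 : algebraMap S (𝒟.A 0) (hXel g χ) = algebraMap (𝒟.B 0) (𝒟.A 0) (bEl 𝒟 g β 0) := by
  rw [hXel, bEl, map_mul, map_mul, H.h0, ← IsScalarTower.algebraMap_apply R S (𝒟.A 0),
    ← IsScalarTower.algebraMap_apply R (𝒟.B 0) (𝒟.A 0)]

theorem imgS (i : ℕ) (hi : i + 1 < 𝒟.n) :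
    algebraMap (𝒟.B i) (𝒟.A (i + 1)) (bEl 𝒟 g β i) =
      algebraMap (𝒟.B (i + 1)) (𝒟.A (i + 1)) (bEl 𝒟 g β (i + 1)) := by
  rw [bEl, bEl, map_mul, map_mul, H.hs i hi,
    ← IsScalarTower.algebraMap_apply R (𝒟.B i) (𝒟.A (i + 1)),
    ← IsScalarTower.algebraMap_apply R (𝒟.B (i + 1)) (𝒟.A (i + 1))]

theorem aEl_zero_sq : aEl 𝒟 g χ β 0 =
    algebraMap S (𝒟.A 0) (hXel g χ) * algebraMap S (𝒟.A 0) (hXel g χ) := by
  show _ * _ = _
  rw [img0 H]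

theorem aEl_succ_sq (i : ℕ) (hi : i + 1 < 𝒟.n) : aEl 𝒟 g χ β (i + 1) =
    algebraMap (𝒟.B i) (𝒟.A (i + 1)) (bEl 𝒟 g β i) *
      algebraMap (𝒟.B i) (𝒟.A (i + 1)) (bEl 𝒟 g β i) := by
  show _ * _ = _
  rw [imgS H i hi]

theorem aEl_sq : ∀ (i : ℕ) (_ : i < 𝒟.n), aEl 𝒟 g χ β i =
    algebraMap (𝒟.B i) (𝒟.A i) (bEl 𝒟 g β i) * algebraMap (𝒟.B i) (𝒟.A i) (bEl 𝒟 g β i)
  | 0, _ => by
    show _ * _ = _
    rw [img0 H]
  | j + 1, hj => by
    show _ * _ = _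
    rw [imgS H j hj]

theorem g_not_mem_qB (i : ℕ) : algebraMap R (𝒟.B i) g ∉ 𝒜.qB i := by
  intro hmem
  apply H.hg
  rw [(𝒜.overB i).over]
  exact hmem

theorem bEl_not_mem (i : ℕ) : bEl 𝒟 g β i ∉ 𝒜.qB i := by
  intro hmem
  rcases (𝒜.hqB i).mem_or_mem hmem with h | h
  · exact H.hβ i h
  · exact g_not_mem_qB H i h

theorem aEl_not_mem (i : ℕ) (hi : i < 𝒟.n) : aEl 𝒟 g χ β i ∉ 𝒜.qA i := by
  rw [aEl_sq H i hi]
  intro hmem
  have h1 : algebraMap (𝒟.B i) (𝒟.A i) (bEl 𝒟 g β i) ∈ 𝒜.qA i := by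
    rcases (𝒜.hqA i).mem_or_mem hmem with h | h <;> exact h
  apply bEl_not_mem H i
  rw [(𝒜.overA i).over]
  exact h1

theorem hXel_not_mem : hXel g χ ∉ q := by
  intro hmem
  apply aEl_not_mem H 0 𝒟.pos
  rw [aEl_zero_sq H]
  apply Ideal.mul_mem_left
  rw [← 𝒜.q0] at hmem
  exact hmem

theorem bEl_not_mem_map (i : ℕ) : bEl 𝒟 g β i ∉ p.map (algebraMap R (𝒟.B i)) := by
  intro hmem
  apply bEl_not_mem H i
  have hle : p.map (algebraMap R (𝒟.B i)) ≤ 𝒜.qB i := by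
    rw [Ideal.map_le_iff_le_comap]
    exact le_of_eq (𝒜.overB i).over
  exact hle hmem

/-! ### localization facts -/

theorem locA (i : ℕ) (hi : i < 𝒟.n) :
    IsLocalization.Away (algebraMap (𝒟.B i) (𝒟.A i) (bEl 𝒟 g β i)) (GA 𝒟 g χ β i) :=
  away_sq _ _ (aEl_sq H i hi)

theorem locA1 (i : ℕ) (hi : i + 1 < 𝒟.n) :
    IsLocalization.Away (algebraMap (𝒟.B i) (𝒟.A (i + 1)) (bEl 𝒟 g β i)) (GA 𝒟 g χ β (i + 1)) :=
  away_sq _ _ (aEl_succ_sq H i hi)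

theorem locA0 : IsLocalization.Away (algebraMap S (𝒟.A 0) (hXel g χ)) (GA 𝒟 g χ β 0) :=
  away_sq _ _ (aEl_zero_sq H)

theorem locM (i : ℕ) (hi : i < 𝒟.n) :
    IsLocalizedModule (Submonoid.powers (bEl 𝒟 g β i))
      ((gM 𝒟 g χ β i).restrictScalars (𝒟.B i)) :=
  IsLocalizedModule.restrictScalars_powers (bEl 𝒟 g β i) (gM 𝒟 g χ β i)
    (h := locMod_sq _ _ (aEl_sq H i hi) (𝒟.M i))

theorem locM1 (i : ℕ) (hi : i + 1 < 𝒟.n) :
    IsLocalizedModule (Submonoid.powers (bEl 𝒟 g β i))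
      ((gM 𝒟 g χ β (i + 1)).restrictScalars (𝒟.B i)) :=
  IsLocalizedModule.restrictScalars_powers (bEl 𝒟 g β i) (gM 𝒟 g χ β (i + 1))
    (h := locMod_sq _ _ (aEl_succ_sq H i hi) (𝒟.M (i + 1)))

theorem locM0 :
    IsLocalizedModule (Submonoid.powers (hXel g χ)) ((gM 𝒟 g χ β 0).restrictScalars S) :=
  IsLocalizedModule.restrictScalars_powers (hXel g χ) (gM 𝒟 g χ β 0)
    (h := locMod_sq _ _ (aEl_zero_sq H) (𝒟.M 0))

theorem hgY (i : ℕ) (hi : i < 𝒟.n) :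
    IsBaseChange (GB 𝒟 g β i) ((gM 𝒟 g χ β i).restrictScalars (𝒟.B i)) :=
  have := locM H i hi
  IsLocalizedModule.isBaseChange (Submonoid.powers (bEl 𝒟 g β i)) (GB 𝒟 g β i) _

theorem hgZ (i : ℕ) (hi : i + 1 < 𝒟.n) :
    IsBaseChange (GB 𝒟 g β i) ((gM 𝒟 g χ β (i + 1)).restrictScalars (𝒟.B i)) :=
  have := locM1 H i hi
  IsLocalizedModule.isBaseChange (Submonoid.powers (bEl 𝒟 g β i)) (GB 𝒟 g β i) _

theorem poA (i : ℕ) (hi : i < 𝒟.n) :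
    Algebra.IsPushout (𝒟.B i) (GB 𝒟 g β i) (𝒟.A i) (GA 𝒟 g χ β i) := by
  have := locA H i hi
  have hloc : IsLocalization (Algebra.algebraMapSubmonoid (𝒟.A i)
      (Submonoid.powers (bEl 𝒟 g β i))) (GA 𝒟 g χ β i) := by
    rw [Algebra.algebraMapSubmonoid_powers]; infer_instance
  exact (Algebra.isPushout_of_isLocalization (Submonoid.powers (bEl 𝒟 g β i)) (GB 𝒟 g β i)
    (𝒟.A i) (GA 𝒟 g χ β i)).symm

theorem poA1 (i : ℕ) (hi : i + 1 < 𝒟.n) :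
    Algebra.IsPushout (𝒟.B i) (GB 𝒟 g β i) (𝒟.A (i + 1)) (GA 𝒟 g χ β (i + 1)) := by
  have := locA1 H i hi
  have hloc : IsLocalization (Algebra.algebraMapSubmonoid (𝒟.A (i + 1))
      (Submonoid.powers (bEl 𝒟 g β i))) (GA 𝒟 g χ β (i + 1)) := by
    rw [Algebra.algebraMapSubmonoid_powers]; infer_instance
  exact (Algebra.isPushout_of_isLocalization (Submonoid.powers (bEl 𝒟 g β i)) (GB 𝒟 g β i)
    (𝒟.A (i + 1)) (GA 𝒟 g χ β (i + 1))).symm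

theorem poS : Algebra.IsPushout S (Sh g χ) (𝒟.A 0) (GA 𝒟 g χ β 0) := by
  have := locA0 H
  have hloc : IsLocalization (Algebra.algebraMapSubmonoid (𝒟.A 0)
      (Submonoid.powers (hXel g χ))) (GA 𝒟 g χ β 0) := by
    rw [Algebra.algebraMapSubmonoid_powers]; infer_instance
  exact (Algebra.isPushout_of_isLocalization (Submonoid.powers (hXel g χ)) (Sh g χ)
    (𝒟.A 0) (GA 𝒟 g χ β 0)).symm

/-! ### the fields of the dévissage -/

theorem surjSA₁ : Function.Surjective (algebraMap (Sh g χ) (GA 𝒟 g χ β 0)) :=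
  have := poS H
  Groth.Agent.S12231.surjective_of_isPushout S (Sh g χ) (𝒟.A 0) (GA 𝒟 g χ β 0) 𝒟.surjSA

theorem fpSA₁ : Algebra.FinitePresentation (Sh g χ) (GA 𝒟 g χ β 0) := by
  have := 𝒟.fpSA
  have h1 := poS H
  have : Algebra.IsPushout S (𝒟.A 0) (Sh g χ) (GA 𝒟 g χ β 0) := h1.symm
  exact Algebra.FinitePresentation.equiv (Algebra.IsPushout.equiv S (Sh g χ) (𝒟.A 0)
    (GA 𝒟 g χ β 0))

theorem surjBA'₁ (i : ℕ) (hi : i + 1 < 𝒟.n) :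
    Function.Surjective (algebraMap (GB 𝒟 g β i) (GA 𝒟 g χ β (i + 1))) :=
  have := poA1 H i hi
  Groth.Agent.S12231.surjective_of_isPushout (𝒟.B i) (GB 𝒟 g β i) (𝒟.A (i + 1))
    (GA 𝒟 g χ β (i + 1)) (𝒟.surjBA' i hi)

theorem fpBA'₁ (i : ℕ) (hi : i + 1 < 𝒟.n) :
    Algebra.FinitePresentation (GB 𝒟 g β i) (GA 𝒟 g χ β (i + 1)) := by
  have := 𝒟.fpBA' i hi
  have h1 := poA1 H i hi
  have : Algebra.IsPushout (𝒟.B i) (𝒟.A (i + 1)) (GB 𝒟 g β i) (GA 𝒟 g χ β (i + 1)) := h1.symm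
  exact Algebra.FinitePresentation.equiv (Algebra.IsPushout.equiv (𝒟.B i) (GB 𝒟 g β i)
    (𝒟.A (i + 1)) (GA 𝒟 g χ β (i + 1)))

theorem finiteBA₁ (i : ℕ) (hi : i < 𝒟.n) : Module.Finite (GB 𝒟 g β i) (GA 𝒟 g χ β i) := by
  have := 𝒟.finiteBA i hi
  have := locA H i hi
  have hloc : IsLocalization (Algebra.algebraMapSubmonoid (𝒟.A i)
      (Submonoid.powers (bEl 𝒟 g β i))) (GA 𝒟 g χ β i) := by
    rw [Algebra.algebraMapSubmonoid_powers]; infer_instance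
  exact Module.Finite.of_isLocalization (𝒟.B i) (𝒟.A i) (Submonoid.powers (bEl 𝒟 g β i))

omit H in
theorem finiteM₁ (i : ℕ) (hi : i < 𝒟.n) : Module.Finite (GA 𝒟 g χ β i) (GM 𝒟 g χ β i) :=
  have := 𝒟.finiteM i hi
  Module.Finite.of_isLocalizedModule (Submonoid.powers (aEl 𝒟 g χ β i)) (gM 𝒟 g χ β i)

end lemmas


section fields2

variable {R S : Type u} [CommRing R] [CommRing S] [Algebra R S]
  {N : Type u} [AddCommGroup N] [Module S N] {p : Ideal R} [p.IsPrime] {q : Ideal S} [q.IsPrime]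
  {𝒟 : FlatCA.CompleteDevissage R S N p} {𝒜 : FlatCA.CompleteDevissageAt R S N p q 𝒟}
  {g : R} {χ : S} {β : ∀ i, 𝒟.B i} (H : Hyp 𝒜 g χ β)

include H

theorem hp'prime : (p.map (algebraMap R (Rg g))).IsPrime := away_prime g p H.hg

theorem hq'prime : (q.map (algebraMap S (Sh g χ))).IsPrime :=
  away_prime (hXel g χ) q (hXel_not_mem H)

theorem hsurj' (i : ℕ) (hi : i < 𝒟.n) :
    Function.Surjective (PrimeSpectrum.comap (algebraMap (Rg g) (GB 𝒟 g β i))) := by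
  intro P'
  have hgP : g ∉ (PrimeSpectrum.comap (algebraMap R (Rg g)) P').asIdeal := by
    intro hmem
    exact P'.2.ne_top (Ideal.eq_top_of_isUnit_mem _ hmem (IsLocalization.Away.algebraMap_isUnit g))
  obtain ⟨Q, hQ, hQP⟩ := H.hsurj i hi _ hgP
  have hQb : bEl 𝒟 g β i ∉ Q.asIdeal := by
    intro hmem
    rcases Q.2.mem_or_mem hmem with h | h
    · exact hQ h
    · apply hgP
      rw [← hQP]
      exact h
  have hQ' : (Ideal.map (algebraMap (𝒟.B i) (GB 𝒟 g β i)) Q.asIdeal).IsPrime :=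
    away_prime (bEl 𝒟 g β i) Q.asIdeal hQb
  refine ⟨⟨_, hQ'⟩, ?_⟩
  apply PrimeSpectrum.ext
  apply away_eq_of_comap_eq g
  change Ideal.comap (algebraMap R (Rg g)) (Ideal.comap (algebraMap (Rg g) (GB 𝒟 g β i))
    (Ideal.map (algebraMap (𝒟.B i) (GB 𝒟 g β i)) Q.asIdeal)) =
      Ideal.comap (algebraMap R (Rg g)) P'.asIdeal
  rw [Ideal.comap_comap, ← IsScalarTower.algebraMap_eq R (Rg g) (GB 𝒟 g β i),
    IsScalarTower.algebraMap_eq R (𝒟.B i) (GB 𝒟 g β i), ← Ideal.comap_comap,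
    away_comap_map (bEl 𝒟 g β i) Q.asIdeal hQb, hQP]
  rfl

theorem smoothGI (i : ℕ) (hi : i < 𝒟.n) :
    FlatCA.SmoothRelDim (𝒜.d i) (Rg g) (GB 𝒟 g β i) ∧
      FlatCA.GeomIrredFibres (Rg g) (GB 𝒟 g β i) :=
  smooth_geomIrred_shrink g (bEl 𝒟 g β i) (𝒜.d i) (𝒜.relDim i hi) (𝒟.geomIrred i hi)
    (hsurj' H i hi)

open AlgebraicGeometry in
theorem smooth₁ (i : ℕ) (hi : i < 𝒟.n) : Algebra.Smooth (Rg g) (GB 𝒟 g β i) := by
  have h : SmoothOfRelativeDimension (𝒜.d i)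
      (Spec.map (CommRingCat.ofHom (algebraMap (Rg g) (GB 𝒟 g β i)))) := (smoothGI H i hi).1
  have h2 : Smooth (Spec.map (CommRingCat.ofHom (algebraMap (Rg g) (GB 𝒟 g β i)))) :=
    SmoothOfRelativeDimension.smooth (𝒜.d i) _
  rw [HasRingHomProperty.Spec_iff (P := @Smooth)] at h2
  exact RingHom.smooth_algebraMap.mp h2

omit [q.IsPrime] H in
theorem map_map_eq (i : ℕ) :
    (p.map (algebraMap R (Rg g))).map (algebraMap (Rg g) (GB 𝒟 g β i)) =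
      (p.map (algebraMap R (𝒟.B i))).map (algebraMap (𝒟.B i) (GB 𝒟 g β i)) := by
  rw [Ideal.map_map, ← IsScalarTower.algebraMap_eq R (Rg g) (GB 𝒟 g β i),
    IsScalarTower.algebraMap_eq R (𝒟.B i) (GB 𝒟 g β i), ← Ideal.map_map]

theorem hp₁ (i : ℕ) :
    ((p.map (algebraMap R (Rg g))).map (algebraMap (Rg g) (GB 𝒟 g β i))).IsPrime := by
  rw [map_map_eq]
  exact away_prime (bEl 𝒟 g β i) _ (bEl_not_mem_map H i)

/-- the identification of the localized module with the first module -/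
noncomputable def isoN₁ : Nh (N := N) g χ ≃ₗ[Sh g χ] GM 𝒟 g χ β 0 :=
  have := locM0 H
  let fG' : N →ₗ[S] GM 𝒟 g χ β 0 :=
    ((gM 𝒟 g χ β 0).restrictScalars S) ∘ₗ 𝒟.isoN.toLinearMap
  have : IsLocalizedModule (Submonoid.powers (hXel g χ)) fG' :=
    IsLocalizedModule.of_linearEquiv_right _ _ 𝒟.isoN
  (IsLocalizedModule.linearEquiv (Submonoid.powers (hXel g χ))
    (LocalizedModule.mkLinearMap (Submonoid.powers (hXel g χ)) N)
    fG').extendScalarsOfIsLocalization (Submonoid.powers (hXel g χ)) (Sh g χ)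

theorem isoN₁_apply (x : N) :
    isoN₁ H (LocalizedModule.mkLinearMap (Submonoid.powers (hXel g χ)) N x) =
      gM 𝒟 g χ β 0 (𝒟.isoN x) := by
  have h1 := locM0 H
  have h2 : IsLocalizedModule (Submonoid.powers (hXel g χ))
      (((gM 𝒟 g χ β 0).restrictScalars S) ∘ₗ 𝒟.isoN.toLinearMap) :=
    IsLocalizedModule.of_linearEquiv_right _ _ 𝒟.isoN
  exact IsLocalizedModule.linearEquiv_apply (Submonoid.powers (hXel g χ))
    (LocalizedModule.mkLinearMap (Submonoid.powers (hXel g χ)) N)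
    (((gM 𝒟 g χ β 0).restrictScalars S) ∘ₗ 𝒟.isoN.toLinearMap) x

/-- the cokernel identification for the localization -/
noncomputable def isoCoker₁ (i : ℕ) (hi : i + 1 < 𝒟.n) :
    (GM 𝒟 g χ β i ⧸ LinearMap.range (α₁ 𝒟 g χ β i)) ≃ₗ[GB 𝒟 g β i] GM 𝒟 g χ β (i + 1) :=
  (BCGen.nonempty_cokerEquiv_of_isBaseChange (𝒟.α i) (α₁ 𝒟 g χ β i) (hgX 𝒟 g β i)
    (hgY H i (Nat.lt_of_succ_lt hi)) (α₁_comm 𝒟 g χ β i) (hgZ H i hi) (𝒟.isoCoker i hi)).some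

theorem fibreIso₁ (i : ℕ) (hi : i < 𝒟.n)
    [hP : ((p.map (algebraMap R (Rg g))).map (algebraMap (Rg g) (GB 𝒟 g β i))).IsPrime] :
    Function.Bijective ((α₁ 𝒟 g χ β i).baseChange
      ((p.map (algebraMap R (Rg g))).map (algebraMap (Rg g) (GB 𝒟 g β i))).ResidueField) := by
  have hPP : p.map (algebraMap R (𝒟.B i)) =
      ((p.map (algebraMap R (Rg g))).map (algebraMap (Rg g) (GB 𝒟 g β i))).comap
        (algebraMap (𝒟.B i) (GB 𝒟 g β i)) := by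
    rw [map_map_eq, away_comap_map (bEl 𝒟 g β i) _ (bEl_not_mem_map H i)]
  let φ := Ideal.ResidueField.map (p.map (algebraMap R (𝒟.B i)))
    ((p.map (algebraMap R (Rg g))).map (algebraMap (Rg g) (GB 𝒟 g β i)))
    (algebraMap (𝒟.B i) (GB 𝒟 g β i)) hPP
  let _ : Algebra (p.map (algebraMap R (𝒟.B i))).ResidueField
    ((p.map (algebraMap R (Rg g))).map (algebraMap (Rg g) (GB 𝒟 g β i))).ResidueField :=
    φ.toAlgebra
  have : IsScalarTower (𝒟.B i) (p.map (algebraMap R (𝒟.B i))).ResidueField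
      ((p.map (algebraMap R (Rg g))).map (algebraMap (Rg g) (GB 𝒟 g β i))).ResidueField :=
    .of_algebraMap_eq (fun b => by
      rw [IsScalarTower.algebraMap_apply (𝒟.B i) (GB 𝒟 g β i)
        ((p.map (algebraMap R (Rg g))).map (algebraMap (Rg g) (GB 𝒟 g β i))).ResidueField]
      exact (Ideal.ResidueField.map_algebraMap _ _ _ hPP b).symm)
  exact BCGen.bijective_baseChange_of_isBaseChange (𝒟.α i) (α₁ 𝒟 g χ β i) (hgX 𝒟 g β i)
    (hgY H i hi) (α₁_comm 𝒟 g χ β i) (p.map (algebraMap R (𝒟.B i))).ResidueField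
    ((p.map (algebraMap R (Rg g))).map (algebraMap (Rg g) (GB 𝒟 g β i))).ResidueField
    (𝒟.fibreIso i hi)

theorem cokerLast₁ (i : ℕ) (hi : i < 𝒟.n) (h : Function.Surjective (𝒟.α i)) :
    Function.Surjective (α₁ 𝒟 g χ β i) := by
  rw [← LinearMap.range_eq_top, range_α₁, LinearMap.range_eq_top.mpr h]
  have := BCGen.span_range_eq_top_of_isBaseChange (hgY H i hi)
  rw [← this]
  congr 1
  ext y
  simp

end fields2


section atfields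

variable {R S : Type u} [CommRing R] [CommRing S] [Algebra R S]
  {N : Type u} [AddCommGroup N] [Module S N] {p : Ideal R} [p.IsPrime] {q : Ideal S} [q.IsPrime]
  {𝒟 : FlatCA.CompleteDevissage R S N p} (𝒜 : FlatCA.CompleteDevissageAt R S N p q 𝒟)
  (g : R) (χ : S) (β : ∀ i, 𝒟.B i)

/-- the points of the localized smooth algebras -/
abbrev qB₁ (i : ℕ) : Ideal (GB 𝒟 g β i) := (𝒜.qB i).map (algebraMap (𝒟.B i) (GB 𝒟 g β i))

/-- the points of the localized rings carrying the modules -/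
abbrev qA₁ (i : ℕ) : Ideal (GA 𝒟 g χ β i) := (𝒜.qA i).map (algebraMap (𝒟.A i) (GA 𝒟 g χ β i))

variable {𝒜 g χ β} (H : Hyp 𝒜 g χ β)

include H

theorem qB₁_prime (i : ℕ) : (qB₁ 𝒜 g β i).IsPrime :=
  away_prime (bEl 𝒟 g β i) (𝒜.qB i) (bEl_not_mem H i)

theorem qA₁_prime (i : ℕ) (hi : i < 𝒟.n) : (qA₁ 𝒜 g χ β i).IsPrime :=
  away_prime (aEl 𝒟 g χ β i) (𝒜.qA i) (aEl_not_mem H i hi)

theorem qB₁_over (i : ℕ) : (qB₁ 𝒜 g β i).LiesOver (p.map (algebraMap R (Rg g))) :=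
  liesOver_map g (bEl 𝒟 g β i) p (𝒜.qB i) H.hg (bEl_not_mem H i)

theorem qA₁_over (i : ℕ) (hi : i < 𝒟.n) : (qA₁ 𝒜 g χ β i).LiesOver (qB₁ 𝒜 g β i) :=
  liesOver_map (bEl 𝒟 g β i) (aEl 𝒟 g χ β i) (𝒜.qB i) (𝒜.qA i) (bEl_not_mem H i)
    (aEl_not_mem H i hi)

theorem qB₁_comap (i : ℕ) :
    (qB₁ 𝒜 g β i).comap (algebraMap (𝒟.B i) (GB 𝒟 g β i)) = 𝒜.qB i :=
  away_comap_map (bEl 𝒟 g β i) (𝒜.qB i) (bEl_not_mem H i)

theorem qA₁_comap (i : ℕ) (hi : i < 𝒟.n) :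
    (qA₁ 𝒜 g χ β i).comap (algebraMap (𝒟.A i) (GA 𝒟 g χ β i)) = 𝒜.qA i :=
  away_comap_map (aEl 𝒟 g χ β i) (𝒜.qA i) (aEl_not_mem H i hi)

theorem q0₁ : (qA₁ 𝒜 g χ β 0).comap (algebraMap (Sh g χ) (GA 𝒟 g χ β 0)) =
    q.map (algebraMap S (Sh g χ)) := by
  have : (𝒜.qA 0).LiesOver q := ⟨𝒜.q0.symm⟩
  exact (liesOver_map (hXel g χ) (aEl 𝒟 g χ β 0) q (𝒜.qA 0) (hXel_not_mem H)
    (aEl_not_mem H 0 𝒟.pos)).over.symm

theorem qStep₁ (i : ℕ) (hi : i + 1 < 𝒟.n) :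
    (qA₁ 𝒜 g χ β (i + 1)).comap (algebraMap (GB 𝒟 g β i) (GA 𝒟 g χ β (i + 1))) =
      qB₁ 𝒜 g β i := by
  have : (𝒜.qA (i + 1)).LiesOver (𝒜.qB i) := ⟨(𝒜.qStep i hi).symm⟩
  exact (liesOver_map (bEl 𝒟 g β i) (aEl 𝒟 g χ β (i + 1)) (𝒜.qB i) (𝒜.qA (i + 1))
    (bEl_not_mem H i) (aEl_not_mem H (i + 1) hi)).over.symm

theorem uniq₁ (i : ℕ) (hi : i < 𝒟.n) (Q : Ideal (GA 𝒟 g χ β i)) [Q.IsPrime]
    (hQ : Q.LiesOver (qB₁ 𝒜 g β i)) : Q = qA₁ 𝒜 g χ β i := by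
  apply away_eq_of_comap_eq (aEl 𝒟 g χ β i)
  rw [qA₁_comap H i hi]
  have hprime : (Q.comap (algebraMap (𝒟.A i) (GA 𝒟 g χ β i))).IsPrime := Ideal.comap_isPrime _ _
  refine 𝒜.uniq i hi _ ⟨?_⟩
  change 𝒜.qB i = Ideal.comap (algebraMap (𝒟.B i) (𝒟.A i))
    (Ideal.comap (algebraMap (𝒟.A i) (GA 𝒟 g χ β i)) Q)
  rw [Ideal.comap_comap, ← IsScalarTower.algebraMap_eq (𝒟.B i) (𝒟.A i) (GA 𝒟 g χ β i),
    IsScalarTower.algebraMap_eq (𝒟.B i) (GB 𝒟 g β i) (GA 𝒟 g χ β i), ← Ideal.comap_comap]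
  have h1 : Q.comap (algebraMap (GB 𝒟 g β i) (GA 𝒟 g χ β i)) = qB₁ 𝒜 g β i := hQ.over.symm
  rw [h1, qB₁_comap H i]

omit [q.IsPrime] H in
theorem hκ [hp' : (p.map (algebraMap R (Rg g))).IsPrime]
    [hp'p : (p.map (algebraMap R (Rg g))).LiesOver p] :
    Function.Bijective (Ideal.ResidueField.mapₐ p (p.map (algebraMap R (Rg g)))
      (Algebra.ofId R (Rg g)) hp'p.over) :=
  residueField_map_bijective_of_isLocalization (Submonoid.powers g) p _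

theorem pureTrans₁ (i : ℕ) (hi : i < 𝒟.n) [hp' : (p.map (algebraMap R (Rg g))).IsPrime]
    [hq : (qB₁ 𝒜 g β i).IsPrime] [hov : (qB₁ 𝒜 g β i).LiesOver (p.map (algebraMap R (Rg g)))] :
    FlatCA.PurelyTranscendental (p.map (algebraMap R (Rg g))) (qB₁ 𝒜 g β i) := by
  have hp'p : (p.map (algebraMap R (Rg g))).LiesOver p := ⟨(away_comap_map g p H.hg).symm⟩
  have hy'y : (qB₁ 𝒜 g β i).LiesOver (𝒜.qB i) := ⟨(qB₁_comap H i).symm⟩
  have hψ : Function.Bijective (Ideal.ResidueField.mapₐ (𝒜.qB i) (qB₁ 𝒜 g β i)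
      (Algebra.ofId (𝒟.B i) (GB 𝒟 g β i)) hy'y.over) :=
    residueField_map_bijective_of_isLocalization (Submonoid.powers (bEl 𝒟 g β i)) (𝒜.qB i) _
  exact purelyTranscendental_of_surjective p _ hκ (𝒜.qB i) _ hψ.2 (𝒜.pureTrans i hi)

theorem locDim₁ (i : ℕ) (hi : i < 𝒟.n) [hp' : (p.map (algebraMap R (Rg g))).IsPrime]
    [hq : (qB₁ 𝒜 g β i).IsPrime] :
    ∃ (x : PrimeSpectrum ((p.map (algebraMap R (Rg g))).Fiber (GB 𝒟 g β i)))
      (hx : x ∈ Module.support ((p.map (algebraMap R (Rg g))).Fiber (GB 𝒟 g β i))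
        (FlatCA.fiberMod (p.map (algebraMap R (Rg g))) (GB 𝒟 g β i) (GM 𝒟 g χ β i))),
      x.asIdeal = FlatCA.fiberIdeal (p.map (algebraMap R (Rg g))) (qB₁ 𝒜 g β i) ∧
      FlatMor.localDim (Module.support ((p.map (algebraMap R (Rg g))).Fiber (GB 𝒟 g β i))
        (FlatCA.fiberMod (p.map (algebraMap R (Rg g))) (GB 𝒟 g β i) (GM 𝒟 g χ β i))) ⟨x, hx⟩ =
          𝒜.d i := by
  have hp'p : (p.map (algebraMap R (Rg g))).LiesOver p := ⟨(away_comap_map g p H.hg).symm⟩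
  have hy'y : (qB₁ 𝒜 g β i).LiesOver (𝒜.qB i) := ⟨(qB₁_comap H i).symm⟩
  have : Module.Finite (𝒟.B i) (𝒟.A i) := 𝒟.finiteBA i hi
  have : Module.Finite (𝒟.A i) (𝒟.M i) := 𝒟.finiteM i hi
  have : Module.Finite (𝒟.B i) (𝒟.M i) := Module.Finite.trans (𝒟.A i) (𝒟.M i)
  have hPush : Algebra.IsPushout R (Rg g) (GB 𝒟 g β i) (GB 𝒟 g β i) := by
    have : IsLocalization (Algebra.algebraMapSubmonoid (GB 𝒟 g β i) (Submonoid.powers g))
        (GB 𝒟 g β i) := by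
      apply IsLocalization.of_le_isUnit
      rintro _ ⟨_, ⟨k, rfl⟩, rfl⟩
      change IsUnit (algebraMap R (GB 𝒟 g β i) (g ^ k))
      rw [IsScalarTower.algebraMap_apply R (Rg g) (GB 𝒟 g β i), map_pow, map_pow]
      exact ((IsLocalization.Away.algebraMap_isUnit g).map _).pow k
    exact (Algebra.isPushout_of_isLocalization (Submonoid.powers g) (Rg g) (GB 𝒟 g β i)
      (GB 𝒟 g β i)).symm
  have := locM H i hi
  exact fibre_shrink_loc' p (p.map (algebraMap R (Rg g))) (bEl 𝒟 g β i) (𝒟.M i) (GM 𝒟 g χ β i)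
    hκ ((gM 𝒟 g χ β i).restrictScalars (𝒟.B i)) (𝒜.qB i) (qB₁ 𝒜 g β i) (bEl_not_mem H i)
    (𝒜.d i) (𝒜.locDim i hi)

end atfields

end Groth.Agent.Lib.Helper64.ShrinkCD
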