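import Mathlib
import Groth.Agent.Lib.Helper64.Two

/-!
# More structure on two-option type families (helper64)

Algebra structures between two `Two` families (same index, or two independent indices) and the
corresponding tower lemmas.
-/

set_option autoImplicit false
universe u v w

namespace Groth.Agent.Lib.Helper64

namespace Two

variable (P F P' F' : Type u) [CommRing P] [CommRing F] [CommRing P'] [CommRing F']

/-- algebra structure between two families at the same index -/
@[instance_reducible]
def algebraSame [Algebra P P'] [Algebra F F'] : ∀ b, Algebra (Two P F b) (Two P' F' b)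
  | true => inferInstanceAs (Algebra P P')
  | false => inferInstanceAs (Algebra F F')

/-- algebra structure between two families at independent indices -/
@[instance_reducible]
def algebraBoth [Algebra P P'] [Algebra P F'] [Algebra F P'] [Algebra F F'] :
    ∀ b b', Algebra (Two P F b) (Two P' F' b')
  | true, true => inferInstanceAs (Algebra P P')
  | true, false => inferInstanceAs (Algebra P F')
  | false, true => inferInstanceAs (Algebra F P')
  | false, false => inferInstanceAs (Algebra F F')

theorem tower_from_same (K : Type v) [CommRing K] [Algebra K P] [Algebra K F] [Algebra K P']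
    [Algebra K F'] [Algebra P P'] [Algebra F F'] [IsScalarTower K P P'] [IsScalarTower K F F'] :
    ∀ b, @IsScalarTower K (Two P F b) (Two P' F' b) (algebraFrom P F K b).toSMul
      (algebraSame P F P' F' b).toSMul (algebraFrom P' F' K b).toSMul
  | true => inferInstanceAs (IsScalarTower K P P')
  | false => inferInstanceAs (IsScalarTower K F F')

theorem tower_from_both (K : Type v) [CommRing K] [Algebra K P] [Algebra K F] [Algebra K P']
    [Algebra K F'] [Algebra P P'] [Algebra P F'] [Algebra F P'] [Algebra F F']
    [IsScalarTower K P P'] [IsScalarTower K P F'] [IsScalarTower K F P'] [IsScalarTower K F F'] :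
    ∀ b b', @IsScalarTower K (Two P F b) (Two P' F' b') (algebraFrom P F K b).toSMul
      (algebraBoth P F P' F' b b').toSMul (algebraFrom P' F' K b').toSMul
  | true, true => inferInstanceAs (IsScalarTower K P P')
  | true, false => inferInstanceAs (IsScalarTower K P F')
  | false, true => inferInstanceAs (IsScalarTower K F P')
  | false, false => inferInstanceAs (IsScalarTower K F F')

theorem tower_from_from (K : Type v) (L : Type w) [CommRing K] [CommRing L] [Algebra K L]
    [Algebra K P] [Algebra K F] [Algebra L P] [Algebra L F] [IsScalarTower K L P]
    [IsScalarTower K L F] :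
    ∀ b, @IsScalarTower K L (Two P F b) _ (algebraFrom P F L b).toSMul
      (algebraFrom P F K b).toSMul
  | true => inferInstanceAs (IsScalarTower K L P)
  | false => inferInstanceAs (IsScalarTower K L F)

theorem tower_same_module (M : Type v) [AddCommGroup M] [Module P M] [Module F M] [Module P' M]
    [Module F' M] [Algebra P P'] [Algebra F F'] [IsScalarTower P P' M] [IsScalarTower F F' M] :
    ∀ b, @IsScalarTower (Two P F b) (Two P' F' b) M (algebraSame P F P' F' b).toSMul
      (moduleTo P' F' M b).toSMul (moduleTo P F M b).toSMul
  | true => inferInstanceAs (IsScalarTower P P' M)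
  | false => inferInstanceAs (IsScalarTower F F' M)

theorem tower_both_module (M : Type v) [AddCommGroup M] [Module P M] [Module F M] [Module P' M]
    [Module F' M] [Algebra P P'] [Algebra P F'] [Algebra F P'] [Algebra F F']
    [IsScalarTower P P' M] [IsScalarTower P F' M] [IsScalarTower F P' M] [IsScalarTower F F' M] :
    ∀ b b', @IsScalarTower (Two P F b) (Two P' F' b') M (algebraBoth P F P' F' b b').toSMul
      (moduleTo P' F' M b').toSMul (moduleTo P F M b).toSMul
  | true, true => inferInstanceAs (IsScalarTower P P' M)
  | true, false => inferInstanceAs (IsScalarTower P F' M)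
  | false, true => inferInstanceAs (IsScalarTower F P' M)
  | false, false => inferInstanceAs (IsScalarTower F F' M)

end Two

end Groth.Agent.Lib.Helper64
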