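import Mathlib
import Groth.Agent.Lib.Helper64.ShrinkCD
import Groth.Agent.Lib.Helper64.Two2

/-!
# Standard shrinking of a complete dévissage: the piecewise families and the dévissage (helper64)
-/

set_option autoImplicit false
universe u
open TensorProduct

namespace Groth.Agent.Lib.Helper64.ShrinkCD

open Groth.Agent.Lib.Helper64.AwayGen Groth.Agent.Lib.Helper64.Shrink

attribute [local instance] FlatCA.CompleteDevissageAt.hqB FlatCA.CompleteDevissageAt.hqA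
  FlatCA.CompleteDevissageAt.overB FlatCA.CompleteDevissageAt.overA

section fallback

variable {R S : Type u} [CommRing R] [CommRing S] [Algebra R S]
  {N : Type u} [AddCommGroup N] [Module S N] {p : Ideal R} [p.IsPrime]
  (𝒟 : FlatCA.CompleteDevissage R S N p) (g : R) (χ : S) (β : ∀ i, 𝒟.B i)

/-- the fallback rings at and beyond the length -/
def FB : ℕ → Type u
  | 0 => GA 𝒟 g χ β 0
  | j + 1 => GB 𝒟 g β j

noncomputable instance FB.commRing : ∀ i, CommRing (FB 𝒟 g χ β i)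
  | 0 => inferInstanceAs (CommRing (GA 𝒟 g χ β 0))
  | j + 1 => inferInstanceAs (CommRing (GB 𝒟 g β j))

noncomputable instance FB.algRg : ∀ i, Algebra (Rg g) (FB 𝒟 g χ β i)
  | 0 => inferInstanceAs (Algebra (Rg g) (GA 𝒟 g χ β 0))
  | j + 1 => inferInstanceAs (Algebra (Rg g) (GB 𝒟 g β j))

noncomputable instance FB.modGM : ∀ i, Module (FB 𝒟 g χ β i) (GM 𝒟 g χ β i)
  | 0 => inferInstanceAs (Module (GA 𝒟 g χ β 0) (GM 𝒟 g χ β 0))
  | j + 1 => inferInstanceAs (Module (GB 𝒟 g β j) (GM 𝒟 g χ β (j + 1)))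

instance FB.towerRgGM : ∀ i, IsScalarTower (Rg g) (FB 𝒟 g χ β i) (GM 𝒟 g χ β i)
  | 0 => inferInstanceAs (IsScalarTower (Rg g) (GA 𝒟 g χ β 0) (GM 𝒟 g χ β 0))
  | j + 1 => inferInstanceAs (IsScalarTower (Rg g) (GB 𝒟 g β j) (GM 𝒟 g χ β (j + 1)))

noncomputable instance FB.algSh : Algebra (Sh g χ) (FB 𝒟 g χ β 0) :=
  inferInstanceAs (Algebra (Sh g χ) (GA 𝒟 g χ β 0))

instance FB.towerRgSh : IsScalarTower (Rg g) (Sh g χ) (FB 𝒟 g χ β 0) :=
  inferInstanceAs (IsScalarTower (Rg g) (Sh g χ) (GA 𝒟 g χ β 0))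

instance FB.towerShGM : IsScalarTower (Sh g χ) (FB 𝒟 g χ β 0) (GM 𝒟 g χ β 0) :=
  inferInstanceAs (IsScalarTower (Sh g χ) (GA 𝒟 g χ β 0) (GM 𝒟 g χ β 0))

noncomputable instance FB.algGB (i : ℕ) : Algebra (GB 𝒟 g β i) (FB 𝒟 g χ β (i + 1)) :=
  inferInstanceAs (Algebra (GB 𝒟 g β i) (GB 𝒟 g β i))

instance FB.towerRgGB (i : ℕ) : IsScalarTower (Rg g) (GB 𝒟 g β i) (FB 𝒟 g χ β (i + 1)) :=
  inferInstanceAs (IsScalarTower (Rg g) (GB 𝒟 g β i) (GB 𝒟 g β i))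

instance FB.towerGBGM (i : ℕ) :
    IsScalarTower (GB 𝒟 g β i) (FB 𝒟 g χ β (i + 1)) (GM 𝒟 g χ β (i + 1)) :=
  inferInstanceAs (IsScalarTower (GB 𝒟 g β i) (GB 𝒟 g β i) (GM 𝒟 g χ β (i + 1)))

/-- the piecewise family of rings carrying the modules -/
abbrev A' (i : ℕ) (b : Bool) : Type u := Two (GA 𝒟 g χ β i) (FB 𝒟 g χ β i) b

/-- the piecewise family of smooth algebras -/
abbrev B' (i : ℕ) (b : Bool) : Type u := Two (GB 𝒟 g β i) (Rg g) b

end fallback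


section build

variable {R S : Type u} [CommRing R] [CommRing S] [Algebra R S]
  {N : Type u} [AddCommGroup N] [Module S N] {p : Ideal R} [p.IsPrime] {q : Ideal S} [q.IsPrime]
  {𝒟 : FlatCA.CompleteDevissage R S N p} {𝒜 : FlatCA.CompleteDevissageAt R S N p q 𝒟}
  {g : R} {χ : S} {β : ∀ i, 𝒟.B i} (H : Hyp 𝒜 g χ β)
  [hp' : (p.map (algebraMap R (Rg g))).IsPrime]

attribute [local instance] Two.algebraTo Two.moduleTo

variable (𝒟 g χ β) in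
/-- the piecewise `α` -/
noncomputable def αTwo (i : ℕ) : ∀ b : Bool,
    @LinearMap (B' 𝒟 g β i b) (B' 𝒟 g β i b) _ _ (RingHom.id _)
      (Fin (𝒟.r i) → B' 𝒟 g β i b) (GM 𝒟 g χ β i) _ _ _
      (Two.moduleTo (GB 𝒟 g β i) (Rg g) (GM 𝒟 g χ β i) b)
  | true => α₁ 𝒟 g χ β i
  | false => 0

include H in
omit hp' in
theorem hpTwo (i : ℕ) : ∀ b : Bool,
    ((p.map (algebraMap R (Rg g))).map (algebraMap (Rg g) (B' 𝒟 g β i b))).IsPrime
  | true => hp₁ H i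
  | false => by
    show ((p.map (algebraMap R (Rg g))).map (algebraMap (Rg g) (Rg g))).IsPrime
    rw [Algebra.algebraMap_self, Ideal.map_id]
    exact hp'prime H

include H in
omit hp' in
theorem surjSATwo : ∀ b : Bool,
    Function.Surjective (algebraMap (Sh g χ) (A' 𝒟 g χ β 0 b))
  | true => surjSA₁ H
  | false => surjSA₁ H

include H in
omit hp' in
theorem fpSATwo : ∀ b : Bool, Algebra.FinitePresentation (Sh g χ) (A' 𝒟 g χ β 0 b)
  | true => fpSA₁ H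
  | false => fpSA₁ H

include H in
omit hp' in
theorem surjBATwo (i : ℕ) (hi : i + 1 < 𝒟.n) : ∀ b₁ b₂ : Bool, b₁ = true → b₂ = true →
    Function.Surjective (@algebraMap (B' 𝒟 g β i b₁) (A' 𝒟 g χ β (i + 1) b₂) _ _
      (Two.algebraBoth (GB 𝒟 g β i) (Rg g) (GA 𝒟 g χ β (i + 1)) (FB 𝒟 g χ β (i + 1)) b₁ b₂))
  | true, true, _, _ => surjBA'₁ H i hi

include H in
omit hp' in
theorem fpBATwo (i : ℕ) (hi : i + 1 < 𝒟.n) : ∀ b₁ b₂ : Bool, b₁ = true → b₂ = true →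
    @Algebra.FinitePresentation (B' 𝒟 g β i b₁) (A' 𝒟 g χ β (i + 1) b₂) _ _
      (Two.algebraBoth (GB 𝒟 g β i) (Rg g) (GA 𝒟 g χ β (i + 1)) (FB 𝒟 g χ β (i + 1)) b₁ b₂)
  | true, true, _, _ => fpBA'₁ H i hi

include H in
omit hp' in
theorem finiteBATwo (i : ℕ) (hi : i < 𝒟.n) : ∀ b : Bool, b = true →
    @Module.Finite (B' 𝒟 g β i b) (A' 𝒟 g χ β i b) _ _
      (Two.algebraSame (GB 𝒟 g β i) (Rg g) (GA 𝒟 g χ β i) (FB 𝒟 g χ β i) b).toModule
  | true, _ => finiteBA₁ H i hi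

include H in
omit hp' in
theorem smoothTwo (i : ℕ) (hi : i < 𝒟.n) : ∀ b : Bool, b = true →
    Algebra.Smooth (Rg g) (B' 𝒟 g β i b)
  | true, _ => smooth₁ H i hi

include H in
omit hp' in
theorem geomIrredTwo (i : ℕ) (hi : i < 𝒟.n) : ∀ b : Bool, b = true →
    FlatCA.GeomIrredFibres (Rg g) (B' 𝒟 g β i b)
  | true, _ => (smoothGI H i hi).2

omit [q.IsPrime] hp' in
variable (g χ β) in
theorem finiteMTwo (i : ℕ) (hi : i < 𝒟.n) : ∀ b : Bool, b = true →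
    @Module.Finite (A' 𝒟 g χ β i b) (GM 𝒟 g χ β i) _ _
      (Two.moduleTo (GA 𝒟 g χ β i) (FB 𝒟 g χ β i) (GM 𝒟 g χ β i) b)
  | true, _ => finiteM₁ i hi

/-- the cokernel identification, piecewise -/
noncomputable def isoCokerTwo (i : ℕ) (hi : i + 1 < 𝒟.n) : ∀ b : Bool, b = true →
    ((GM 𝒟 g χ β i ⧸ LinearMap.range (αTwo 𝒟 g χ β i b)) ≃ₗ[B' 𝒟 g β i b] GM 𝒟 g χ β (i + 1))
  | true, _ => isoCoker₁ H i hi

include H in
omit hp' in
theorem fibreIsoTwo (i : ℕ) (hi : i < 𝒟.n) (b : Bool) (hb : b = true)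
    (hP : ((p.map (algebraMap R (Rg g))).map (algebraMap (Rg g) (B' 𝒟 g β i b))).IsPrime) :
    Function.Bijective ((αTwo 𝒟 g χ β i b).baseChange
      ((p.map (algebraMap R (Rg g))).map (algebraMap (Rg g) (B' 𝒟 g β i b))).ResidueField) := by
  subst hb
  have hP' : ((p.map (algebraMap R (Rg g))).map (algebraMap (Rg g) (GB 𝒟 g β i))).IsPrime := hP
  exact fibreIso₁ H i hi

include H in
omit hp' in
theorem cokerLastTwo (i : ℕ) (hi : i < 𝒟.n) (h : Function.Surjective (𝒟.α i)) :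
    ∀ b : Bool, b = true → Function.Surjective (αTwo 𝒟 g χ β i b)
  | true, _ => cokerLast₁ H i hi h

/-- the shrunken complete dévissage -/
noncomputable def mkCD : FlatCA.CompleteDevissage (Rg g) (Sh g χ) (Nh (N := N) g χ)
    (p.map (algebraMap R (Rg g))) where
  n := 𝒟.n
  pos := 𝒟.pos
  A := fun i => A' 𝒟 g χ β i (decide (i < 𝒟.n))
  B := fun i => B' 𝒟 g β i (decide (i < 𝒟.n))
  M := GM 𝒟 g χ β
  r := 𝒟.r
  cA := fun _ => Two.commRing _ _ _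
  cB := fun _ => Two.commRing _ _ _
  aRA := fun _ => Two.algebraFrom _ _ (Rg g) _
  aRB := fun _ => Two.algebraFrom _ _ (Rg g) _
  aBA := fun i => Two.algebraSame (GB 𝒟 g β i) (Rg g) (GA 𝒟 g χ β i) (FB 𝒟 g χ β i) _
  tRBA := fun i => Two.tower_from_same (GB 𝒟 g β i) (Rg g) (GA 𝒟 g χ β i) (FB 𝒟 g χ β i) (Rg g) _
  aSA := Two.algebraFrom (GA 𝒟 g χ β 0) (FB 𝒟 g χ β 0) (Sh g χ) _
  tRSA := Two.tower_from_from (GA 𝒟 g χ β 0) (FB 𝒟 g χ β 0) (Rg g) (Sh g χ) _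
  aBA' := fun i => Two.algebraBoth (GB 𝒟 g β i) (Rg g) (GA 𝒟 g χ β (i + 1))
    (FB 𝒟 g χ β (i + 1)) _ _
  tRBA' := fun i => Two.tower_from_both (GB 𝒟 g β i) (Rg g) (GA 𝒟 g χ β (i + 1))
    (FB 𝒟 g χ β (i + 1)) (Rg g) _ _
  gM := fun _ => inferInstance
  mAM := fun i => Two.moduleTo (GA 𝒟 g χ β i) (FB 𝒟 g χ β i) (GM 𝒟 g χ β i) _
  mBM := fun i => Two.moduleTo (GB 𝒟 g β i) (Rg g) (GM 𝒟 g χ β i) _
  tBAM := fun i => Two.tower_same_module (GB 𝒟 g β i) (Rg g) (GA 𝒟 g χ β i) (FB 𝒟 g χ β i)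
    (GM 𝒟 g χ β i) _
  mRM := fun _ => inferInstance
  tRBM := fun i => Two.tower_from_module (GB 𝒟 g β i) (Rg g) (Rg g) (GM 𝒟 g χ β i) _
  mSM := inferInstance
  tSAM := Two.tower_from_module (GA 𝒟 g χ β 0) (FB 𝒟 g χ β 0) (Sh g χ) (GM 𝒟 g χ β 0) _
  mB'M := fun i => Two.moduleTo (GB 𝒟 g β i) (Rg g) (GM 𝒟 g χ β (i + 1)) _
  tB'AM := fun i => Two.tower_both_module (GB 𝒟 g β i) (Rg g) (GA 𝒟 g χ β (i + 1))
    (FB 𝒟 g χ β (i + 1)) (GM 𝒟 g χ β (i + 1)) _ _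
  hp := fun i => hpTwo H i _
  α := fun i => αTwo 𝒟 g χ β i _
  surjSA := surjSATwo H _
  fpSA := fpSATwo H _
  surjBA' := fun i hi => surjBATwo H i hi _ _ (decide_eq_true (Nat.lt_of_succ_lt hi))
    (decide_eq_true hi)
  fpBA' := fun i hi => fpBATwo H i hi _ _ (decide_eq_true (Nat.lt_of_succ_lt hi))
    (decide_eq_true hi)
  finiteBA := fun i hi => finiteBATwo H i hi _ (decide_eq_true hi)
  smooth := fun i hi => smoothTwo H i hi _ (decide_eq_true hi)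
  geomIrred := fun i hi => geomIrredTwo H i hi _ (decide_eq_true hi)
  finiteM := fun i hi => finiteMTwo g χ β i hi _ (decide_eq_true hi)
  isoN := isoN₁ H
  isoCoker := fun i hi => isoCokerTwo H i hi _ (decide_eq_true (Nat.lt_of_succ_lt hi))
  fibreIso := fun i hi => fibreIsoTwo H i hi _ (decide_eq_true hi) _
  cokerLast := cokerLastTwo H (𝒟.n - 1) (Nat.sub_one_lt_of_lt 𝒟.pos) 𝒟.cokerLast _
    (decide_eq_true (Nat.sub_one_lt_of_lt 𝒟.pos))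

end build

end Groth.Agent.Lib.Helper64.ShrinkCD
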