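import Mathlib
import Groth.Agent.Lib.Helper64.ShrinkCD2

/-!
# Standard shrinking of a complete dévissage: the datum at the point and the main theorem (helper64)
-/

set_option autoImplicit false
universe u
open TensorProduct

namespace Groth.Agent.Lib.Helper64.ShrinkCD

open Groth.Agent.Lib.Helper64.AwayGen Groth.Agent.Lib.Helper64.Shrink

attribute [local instance] FlatCA.CompleteDevissageAt.hqB FlatCA.CompleteDevissageAt.hqA
  FlatCA.CompleteDevissageAt.overB FlatCA.CompleteDevissageAt.overA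

section atPoint

variable {R S : Type u} [CommRing R] [CommRing S] [Algebra R S]
  {N : Type u} [AddCommGroup N] [Module S N] {p : Ideal R} [p.IsPrime] {q : Ideal S} [q.IsPrime]
  {𝒟 : FlatCA.CompleteDevissage R S N p} (𝒜 : FlatCA.CompleteDevissageAt R S N p q 𝒟)
  (g : R) (χ : S) (β : ∀ i, 𝒟.B i)

attribute [local instance] Two.algebraTo Two.moduleTo

/-- the fallback points -/
def qF : ∀ i, Ideal (FB 𝒟 g χ β i)
  | 0 => qA₁ 𝒜 g χ β 0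
  | j + 1 => qB₁ 𝒜 g β j

/-- the piecewise points of the smooth algebras -/
def qBTwo (i : ℕ) : ∀ b : Bool, Ideal (B' 𝒟 g β i b)
  | true => qB₁ 𝒜 g β i
  | false => p.map (algebraMap R (Rg g))

/-- the piecewise points of the rings carrying the modules -/
def qATwo (i : ℕ) : ∀ b : Bool, Ideal (A' 𝒟 g χ β i b)
  | true => qA₁ 𝒜 g χ β i
  | false => qF 𝒜 g χ β i

variable {𝒜 g χ β} (H : Hyp 𝒜 g χ β)

include H

theorem qF_prime : ∀ i, (qF 𝒜 g χ β i).IsPrime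
  | 0 => qA₁_prime H 0 𝒟.pos
  | j + 1 => qB₁_prime H j

theorem qF_over : ∀ i, (qF 𝒜 g χ β i).LiesOver (p.map (algebraMap R (Rg g)))
  | 0 => by
    have : (𝒜.qA 0).LiesOver p := Ideal.LiesOver.trans (𝒜.qA 0) (𝒜.qB 0) p
    exact (liesOver_map g (aEl 𝒟 g χ β 0) p (𝒜.qA 0) H.hg (aEl_not_mem H 0 𝒟.pos) :
      (qA₁ 𝒜 g χ β 0).LiesOver (p.map (algebraMap R (Rg g))))
  | j + 1 => qB₁_over H j

theorem hqBTwo (i : ℕ) : ∀ b : Bool, (qBTwo 𝒜 g β i b).IsPrime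
  | true => qB₁_prime H i
  | false => hp'prime H

theorem hqATwo (i : ℕ) : ∀ b : Bool, (b = true → i < 𝒟.n) → (qATwo 𝒜 g χ β i b).IsPrime
  | true, h => qA₁_prime H i (h rfl)
  | false, _ => qF_prime H i

theorem overBTwo (i : ℕ) : ∀ b : Bool,
    (qBTwo 𝒜 g β i b).LiesOver (p.map (algebraMap R (Rg g)))
  | true => qB₁_over H i
  | false => ⟨by
      show _ = Ideal.comap (algebraMap (Rg g) (Rg g)) _
      rw [Algebra.algebraMap_self, Ideal.comap_id]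
      rfl⟩

theorem overATwo (i : ℕ) : ∀ b : Bool, (b = true → i < 𝒟.n) →
    @Ideal.LiesOver (B' 𝒟 g β i b) _ (A' 𝒟 g χ β i b) _
      (Two.algebraSame (GB 𝒟 g β i) (Rg g) (GA 𝒟 g χ β i) (FB 𝒟 g χ β i) b)
      (qATwo 𝒜 g χ β i b) (qBTwo 𝒜 g β i b)
  | true, h => qA₁_over H i (h rfl)
  | false, _ => qF_over H i

theorem pureTransTwo (i : ℕ) (hi : i < 𝒟.n) [hp' : (p.map (algebraMap R (Rg g))).IsPrime] :
    ∀ b : Bool, b = true → ∀ (h1 : (qBTwo 𝒜 g β i b).IsPrime)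
      (h2 : (qBTwo 𝒜 g β i b).LiesOver (p.map (algebraMap R (Rg g)))),
      @FlatCA.PurelyTranscendental (Rg g) (B' 𝒟 g β i b) _ _ _ (p.map (algebraMap R (Rg g)))
        (qBTwo 𝒜 g β i b) _ h1 h2
  | true, _, h1, h2 => @pureTrans₁ _ _ _ _ _ _ _ _ _ _ _ _ _ _ _ _ _ H i hi _ h1 h2

theorem uniqTwo (i : ℕ) (hi : i < 𝒟.n) : ∀ b : Bool, b = true →
    ∀ (Q : Ideal (A' 𝒟 g χ β i b)) [Q.IsPrime],
      @Ideal.LiesOver (B' 𝒟 g β i b) _ (A' 𝒟 g χ β i b) _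
        (Two.algebraSame (GB 𝒟 g β i) (Rg g) (GA 𝒟 g χ β i) (FB 𝒟 g χ β i) b)
        Q (qBTwo 𝒜 g β i b) → Q = qATwo 𝒜 g χ β i b
  | true, _ => fun Q hQp hQ => @uniq₁ _ _ _ _ _ _ _ _ _ _ _ _ _ _ _ _ _ H i hi Q hQp hQ

theorem q0Two : ∀ b : Bool,
    (qATwo 𝒜 g χ β 0 b).comap (algebraMap (Sh g χ) (A' 𝒟 g χ β 0 b)) =
      q.map (algebraMap S (Sh g χ))
  | true => q0₁ H
  | false => q0₁ H

theorem qStepTwo (i : ℕ) (hi : i + 1 < 𝒟.n) : ∀ b₁ b₂ : Bool, b₁ = true → b₂ = true →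
    (qATwo 𝒜 g χ β (i + 1) b₂).comap
      (@algebraMap (B' 𝒟 g β i b₁) (A' 𝒟 g χ β (i + 1) b₂) _ _
        (Two.algebraBoth (GB 𝒟 g β i) (Rg g) (GA 𝒟 g χ β (i + 1)) (FB 𝒟 g χ β (i + 1)) b₁ b₂)) =
      qBTwo 𝒜 g β i b₁
  | true, true, _, _ => qStep₁ H i hi

theorem relDimTwo (i : ℕ) (hi : i < 𝒟.n) : ∀ b : Bool, b = true →
    FlatCA.SmoothRelDim (𝒜.d i) (Rg g) (B' 𝒟 g β i b)
  | true, _ => (smoothGI H i hi).1

theorem locDimTwo (i : ℕ) (hi : i < 𝒟.n) [hp' : (p.map (algebraMap R (Rg g))).IsPrime] :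
    ∀ b : Bool, b = true →
    ∃ (x : PrimeSpectrum ((p.map (algebraMap R (Rg g))).Fiber (B' 𝒟 g β i b)))
      (hx : x ∈ Module.support ((p.map (algebraMap R (Rg g))).Fiber (B' 𝒟 g β i b))
        (FlatCA.fiberMod (p.map (algebraMap R (Rg g))) (B' 𝒟 g β i b) (GM 𝒟 g χ β i))),
      x.asIdeal = FlatCA.fiberIdeal (p.map (algebraMap R (Rg g))) (qBTwo 𝒜 g β i b) ∧
      FlatMor.localDim (Module.support ((p.map (algebraMap R (Rg g))).Fiber (B' 𝒟 g β i b))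
        (FlatCA.fiberMod (p.map (algebraMap R (Rg g))) (B' 𝒟 g β i b) (GM 𝒟 g χ β i))) ⟨x, hx⟩ =
          𝒜.d i
  | true, _ => @locDim₁ _ _ _ _ _ _ _ _ _ _ _ _ _ _ _ _ _ H i hi _ (qB₁_prime H i)

/-- the shrunken datum at the point -/
noncomputable def mkAt [hp' : (p.map (algebraMap R (Rg g))).IsPrime]
    [hq' : (q.map (algebraMap S (Sh g χ))).IsPrime] :
    FlatCA.CompleteDevissageAt (Rg g) (Sh g χ) (Nh (N := N) g χ)
      (p.map (algebraMap R (Rg g))) (q.map (algebraMap S (Sh g χ))) (mkCD H) where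
  qB := fun i => qBTwo 𝒜 g β i _
  qA := fun i => qATwo 𝒜 g χ β i _
  hqB := fun i => hqBTwo H i _
  hqA := fun i => hqATwo H i _ (fun h => of_decide_eq_true h)
  overB := fun i => overBTwo H i _
  overA := fun i => overATwo H i _ (fun h => of_decide_eq_true h)
  pureTrans := fun i hi => pureTransTwo H i hi _ (decide_eq_true hi) _ _
  uniq := fun i hi => uniqTwo H i hi _ (decide_eq_true hi)
  q0 := q0Two H _
  qStep := fun i hi => qStepTwo H i hi _ _ (decide_eq_true (Nat.lt_of_succ_lt hi))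
    (decide_eq_true hi)
  d := 𝒜.d
  relDim := fun i hi => relDimTwo H i hi _ (decide_eq_true hi)
  locDim := fun i hi => locDimTwo H i hi _ (decide_eq_true hi)

end atPoint


section core

variable {R S : Type u} [CommRing R] [CommRing S] [Algebra R S]
  {N : Type u} [AddCommGroup N] [Module S N] {p : Ideal R} [p.IsPrime] {q : Ideal S} [q.IsPrime]
  {𝒟 : FlatCA.CompleteDevissage R S N p} {𝒜 : FlatCA.CompleteDevissageAt R S N p q 𝒟}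
  {g : R} {χ : S} {β : ∀ i, 𝒟.B i}

attribute [local instance] Two.algebraTo Two.moduleTo

variable (𝒟 g χ β)

noncomputable instance FB.algR : ∀ i, Algebra R (FB 𝒟 g χ β i)
  | 0 => inferInstanceAs (Algebra R (GA 𝒟 g χ β 0))
  | j + 1 => inferInstanceAs (Algebra R (GB 𝒟 g β j))

instance FB.towerRRg : ∀ i, IsScalarTower R (Rg g) (FB 𝒟 g χ β i)
  | 0 => inferInstanceAs (IsScalarTower R (Rg g) (GA 𝒟 g χ β 0))
  | j + 1 => inferInstanceAs (IsScalarTower R (Rg g) (GB 𝒟 g β j))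

noncomputable instance FB.algS : Algebra S (FB 𝒟 g χ β 0) :=
  inferInstanceAs (Algebra S (GA 𝒟 g χ β 0))

instance FB.towerSSh : IsScalarTower S (Sh g χ) (FB 𝒟 g χ β 0) :=
  inferInstanceAs (IsScalarTower S (Sh g χ) (GA 𝒟 g χ β 0))

noncomputable instance FB.algB (i : ℕ) : Algebra (𝒟.B i) (FB 𝒟 g χ β (i + 1)) :=
  inferInstanceAs (Algebra (𝒟.B i) (GB 𝒟 g β i))

/-- `A i → A' i` below the length -/
@[instance_reducible]
noncomputable def algATwo (i : ℕ) : ∀ b : Bool, b = true → Algebra (𝒟.A i) (A' 𝒟 g χ β i b)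
  | true, _ => inferInstanceAs (Algebra (𝒟.A i) (GA 𝒟 g χ β i))

/-- `B i → B' i` below the length -/
@[instance_reducible]
noncomputable def algBTwo (i : ℕ) : ∀ b : Bool, b = true → Algebra (𝒟.B i) (B' 𝒟 g β i b)
  | true, _ => inferInstanceAs (Algebra (𝒟.B i) (GB 𝒟 g β i))

/-- `B i → A' i` below the length -/
@[instance_reducible]
noncomputable def algBATwo (i : ℕ) : ∀ b : Bool, b = true → Algebra (𝒟.B i) (A' 𝒟 g χ β i b)
  | true, _ => inferInstanceAs (Algebra (𝒟.B i) (GA 𝒟 g χ β i))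

theorem towerRAATwo (i : ℕ) : ∀ (b : Bool) (h : b = true),
    @IsScalarTower R (𝒟.A i) (A' 𝒟 g χ β i b) _ (algATwo 𝒟 g χ β i b h).toSMul
      (Two.algebraFrom (GA 𝒟 g χ β i) (FB 𝒟 g χ β i) R b).toSMul
  | true, _ => inferInstanceAs (IsScalarTower R (𝒟.A i) (GA 𝒟 g χ β i))

theorem towerRBBTwo (i : ℕ) : ∀ (b : Bool) (h : b = true),
    @IsScalarTower R (𝒟.B i) (B' 𝒟 g β i b) _ (algBTwo 𝒟 g β i b h).toSMul
      (Two.algebraFrom (GB 𝒟 g β i) (Rg g) R b).toSMul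
  | true, _ => inferInstanceAs (IsScalarTower R (𝒟.B i) (GB 𝒟 g β i))

theorem towerBAATwo (i : ℕ) : ∀ (b : Bool) (h : b = true),
    @IsScalarTower (𝒟.B i) (𝒟.A i) (A' 𝒟 g χ β i b) _ (algATwo 𝒟 g χ β i b h).toSMul
      (algBATwo 𝒟 g χ β i b h).toSMul
  | true, _ => inferInstanceAs (IsScalarTower (𝒟.B i) (𝒟.A i) (GA 𝒟 g χ β i))

theorem towerBBATwo (i : ℕ) : ∀ (b : Bool) (h : b = true),
    @IsScalarTower (𝒟.B i) (B' 𝒟 g β i b) (A' 𝒟 g χ β i b) (algBTwo 𝒟 g β i b h).toSMul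
      (Two.algebraSame (GB 𝒟 g β i) (Rg g) (GA 𝒟 g χ β i) (FB 𝒟 g χ β i) b).toSMul
      (algBATwo 𝒟 g χ β i b h).toSMul
  | true, _ => inferInstanceAs (IsScalarTower (𝒟.B i) (GB 𝒟 g β i) (GA 𝒟 g χ β i))

theorem towerBBA1Two (i : ℕ) : ∀ (b₁ : Bool) (h : b₁ = true) (b₂ : Bool),
    @IsScalarTower (𝒟.B i) (B' 𝒟 g β i b₁) (A' 𝒟 g χ β (i + 1) b₂) (algBTwo 𝒟 g β i b₁ h).toSMul
      (Two.algebraBoth (GB 𝒟 g β i) (Rg g) (GA 𝒟 g χ β (i + 1)) (FB 𝒟 g χ β (i + 1)) b₁ b₂).toSMul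
      (Two.algebraFrom (GA 𝒟 g χ β (i + 1)) (FB 𝒟 g χ β (i + 1)) (𝒟.B i) b₂).toSMul
  | true, _, true => inferInstanceAs (IsScalarTower (𝒟.B i) (GB 𝒟 g β i) (GA 𝒟 g χ β (i + 1)))
  | true, _, false => inferInstanceAs (IsScalarTower (𝒟.B i) (GB 𝒟 g β i) (GB 𝒟 g β i))

theorem towerAAMTwo (i : ℕ) : ∀ (b : Bool) (h : b = true),
    @IsScalarTower (𝒟.A i) (A' 𝒟 g χ β i b) (GM 𝒟 g χ β i) (algATwo 𝒟 g χ β i b h).toSMul
      (Two.moduleTo (GA 𝒟 g χ β i) (FB 𝒟 g χ β i) (GM 𝒟 g χ β i) b).toSMul _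
  | true, _ => inferInstanceAs (IsScalarTower (𝒟.A i) (GA 𝒟 g χ β i) (GM 𝒟 g χ β i))

theorem towerSAATwo : ∀ (b : Bool) (h : b = true),
    @IsScalarTower S (𝒟.A 0) (A' 𝒟 g χ β 0 b) _ (algATwo 𝒟 g χ β 0 b h).toSMul
      (Two.algebraFrom (GA 𝒟 g χ β 0) (FB 𝒟 g χ β 0) S b).toSMul
  | true, _ => inferInstanceAs (IsScalarTower S (𝒟.A 0) (GA 𝒟 g χ β 0))

theorem towerBA1ATwo (i : ℕ) : ∀ (b : Bool) (h : b = true),
    @IsScalarTower (𝒟.B i) (𝒟.A (i + 1)) (A' 𝒟 g χ β (i + 1) b) _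
      (algATwo 𝒟 g χ β (i + 1) b h).toSMul
      (Two.algebraFrom (GA 𝒟 g χ β (i + 1)) (FB 𝒟 g χ β (i + 1)) (𝒟.B i) b).toSMul
  | true, _ => inferInstanceAs (IsScalarTower (𝒟.B i) (𝒟.A (i + 1)) (GA 𝒟 g χ β (i + 1)))

theorem locATwo (i : ℕ) : ∀ (b : Bool) (h : b = true),
    @IsLocalization.Away (𝒟.A i) _ (aEl 𝒟 g χ β i) (A' 𝒟 g χ β i b) _ (algATwo 𝒟 g χ β i b h)
  | true, _ => inferInstanceAs (IsLocalization.Away (aEl 𝒟 g χ β i) (GA 𝒟 g χ β i))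

theorem locBTwo (i : ℕ) : ∀ (b : Bool) (h : b = true),
    @IsLocalization.Away (𝒟.B i) _ (bEl 𝒟 g β i) (B' 𝒟 g β i b) _ (algBTwo 𝒟 g β i b h)
  | true, _ => inferInstanceAs (IsLocalization.Away (bEl 𝒟 g β i) (GB 𝒟 g β i))

theorem rangeTwo (i : ℕ) : ∀ b : Bool, b = true → LinearMap.range (αTwo 𝒟 g χ β i b) =
    Submodule.span (B' 𝒟 g β i b)
      ((gM 𝒟 g χ β i) '' (LinearMap.range (𝒟.α i) : Set (𝒟.M i)))
  | true, _ => range_α₁ 𝒟 g χ β i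

variable {𝒟 g χ β} (H : Hyp 𝒜 g χ β)

include H

theorem overQATwo (i : ℕ) (hi : i < 𝒟.n) : ∀ (b : Bool) (h : b = true),
    @Ideal.LiesOver (𝒟.A i) _ (A' 𝒟 g χ β i b) _ (algATwo 𝒟 g χ β i b h)
      (qATwo 𝒜 g χ β i b) (𝒜.qA i)
  | true, _ => (⟨(qA₁_comap H i hi).symm⟩ : (qA₁ 𝒜 g χ β i).LiesOver (𝒜.qA i))

theorem overQBTwo (i : ℕ) : ∀ (b : Bool) (h : b = true),
    @Ideal.LiesOver (𝒟.B i) _ (B' 𝒟 g β i b) _ (algBTwo 𝒟 g β i b h)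
      (qBTwo 𝒜 g β i b) (𝒜.qB i)
  | true, _ => (⟨(qB₁_comap H i).symm⟩ : (qB₁ 𝒜 g β i).LiesOver (𝒜.qB i))

set_option linter.unusedVariables false in
open FlatMor in
/-- the standard shrinking determined by the chosen elements -/
theorem core (w : 𝒟.B (𝒟.n - 1)) (hw : β (𝒟.n - 1) = w) :
    g ∉ p ∧ (hXel g χ) ∉ q ∧
      ∃ (_ : Algebra (Localization.Away g) (Localization.Away (hXel g χ))) (_ : IsScalarTower R (Localization.Away g) (Localization.Away (hXel g χ)))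
        (_ : Module (Localization.Away g) (LocalizedModule (Submonoid.powers (hXel g χ)) N)) (_ : IsScalarTower (Localization.Away g) (Localization.Away (hXel g χ)) (LocalizedModule (Submonoid.powers (hXel g χ)) N))
        (_ : (Ideal.map (algebraMap R (Localization.Away g)) p).IsPrime) (_ : (Ideal.map (algebraMap S (Localization.Away (hXel g χ))) q).IsPrime)
        (𝒟' : FlatCA.CompleteDevissage (Localization.Away g) (Localization.Away (hXel g χ)) (LocalizedModule (Submonoid.powers (hXel g χ)) N) (Ideal.map (algebraMap R (Localization.Away g)) p))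
        (𝒜' : FlatCA.CompleteDevissageAt (Localization.Away g) (Localization.Away (hXel g χ)) (LocalizedModule (Submonoid.powers (hXel g χ)) N) (Ideal.map (algebraMap R (Localization.Away g)) p) (Ideal.map (algebraMap S (Localization.Away (hXel g χ))) q) 𝒟')
        (a : ∀ i : Fin 𝒟.n, 𝒟.A i) (b : ∀ i : Fin 𝒟.n, 𝒟.B i)
      (aA : ∀ i : Fin 𝒟.n, Algebra (𝒟.A i) (𝒟'.A i)) (rA : ∀ i : Fin 𝒟.n, Algebra R (𝒟'.A i))
      (_t1 : ∀ i : Fin 𝒟.n, IsScalarTower R (Localization.Away g) (𝒟'.A i)) (_t2 : ∀ i : Fin 𝒟.n, IsScalarTower R (𝒟.A i) (𝒟'.A i))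
      (aB : ∀ i : Fin 𝒟.n, Algebra (𝒟.B i) (𝒟'.B i)) (rB : ∀ i : Fin 𝒟.n, Algebra R (𝒟'.B i))
      (_t3 : ∀ i : Fin 𝒟.n, IsScalarTower R (Localization.Away g) (𝒟'.B i)) (_t4 : ∀ i : Fin 𝒟.n, IsScalarTower R (𝒟.B i) (𝒟'.B i))
      (bA : ∀ i : Fin 𝒟.n, Algebra (𝒟.B i) (𝒟'.A i)) (_t5 : ∀ i : Fin 𝒟.n, IsScalarTower (𝒟.B i) (𝒟.A i) (𝒟'.A i))
      (_t6 : ∀ i : Fin 𝒟.n, IsScalarTower (𝒟.B i) (𝒟'.B i) (𝒟'.A i))
      (bA' : ∀ i : Fin 𝒟.n, Algebra (𝒟.B i) (𝒟'.A (i + 1)))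
      (_t7 : ∀ i : Fin 𝒟.n, IsScalarTower (𝒟.B i) (𝒟'.B i) (𝒟'.A (i + 1)))
      (sA : Algebra S (𝒟'.A 0)) (_t8 : IsScalarTower S (Localization.Away (hXel g χ)) (𝒟'.A 0))
      (mA : ∀ i : Fin 𝒟.n, Module (𝒟.A i) (𝒟'.M i)) (_t9 : ∀ i : Fin 𝒟.n, IsScalarTower (𝒟.A i) (𝒟'.A i) (𝒟'.M i))
      (gM : ∀ i : Fin 𝒟.n, 𝒟.M i →ₗ[𝒟.A i] 𝒟'.M i),
        𝒟'.n = 𝒟.n ∧ 𝒟'.r = 𝒟.r ∧ 𝒜'.d = 𝒜.d ∧
        (letI := aA ⟨0, 𝒟.pos⟩; IsScalarTower S (𝒟.A 0) (𝒟'.A 0)) ∧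
      (∀ x : N, 𝒟'.isoN (LocalizedModule.mkLinearMap (Submonoid.powers (hXel g χ)) N x) = gM ⟨0, 𝒟.pos⟩ (𝒟.isoN x)) ∧
      (∀ (i : Fin 𝒟.n) (h : (i : ℕ) + 1 < 𝒟.n),
        letI := aA ⟨i + 1, h⟩; IsScalarTower (𝒟.B i) (𝒟.A (i + 1)) (𝒟'.A (i + 1))) ∧
        b ⟨𝒟.n - 1, Nat.sub_one_lt_of_lt 𝒟.pos⟩ = w * algebraMap R (𝒟.B (𝒟.n - 1)) g ∧
        ∀ i : Fin 𝒟.n,
          a i ∉ 𝒜.qA i ∧ b i ∉ 𝒜.qB i ∧
          IsLocalization.Away (a i) (𝒟'.A i) ∧ IsLocalization.Away (b i) (𝒟'.B i) ∧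
          IsLocalizedModule (Submonoid.powers (a i)) (gM i) ∧
          (𝒜'.qA i).LiesOver (𝒜.qA i) ∧ (𝒜'.qB i).LiesOver (𝒜.qB i) ∧
          LinearMap.range (𝒟'.α i) =
            Submodule.span (𝒟'.B i) ((gM i) '' (LinearMap.range (𝒟.α i) : Set (𝒟.M i))) := by
  classical
  subst hw
  have hp' := hp'prime H
  have hq' := hq'prime H
  refine ⟨H.hg, hXel_not_mem H, inferInstance, inferInstance, inferInstance, inferInstance,
    hp', hq', mkCD H, mkAt H,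
    fun i => aEl 𝒟 g χ β i, fun i => bEl 𝒟 g β i,
    fun i => algATwo 𝒟 g χ β i _ (decide_eq_true i.2),
    fun i => Two.algebraFrom (GA 𝒟 g χ β i) (FB 𝒟 g χ β i) R _,
    fun i => Two.tower_from_from (GA 𝒟 g χ β i) (FB 𝒟 g χ β i) R (Rg g) _,
    fun i => towerRAATwo 𝒟 g χ β i _ (decide_eq_true i.2),
    fun i => algBTwo 𝒟 g β i _ (decide_eq_true i.2),
    fun i => Two.algebraFrom (GB 𝒟 g β i) (Rg g) R _,
    fun i => Two.tower_from_from (GB 𝒟 g β i) (Rg g) R (Rg g) _,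
    fun i => towerRBBTwo 𝒟 g β i _ (decide_eq_true i.2),
    fun i => algBATwo 𝒟 g χ β i _ (decide_eq_true i.2),
    fun i => towerBAATwo 𝒟 g χ β i _ (decide_eq_true i.2),
    fun i => towerBBATwo 𝒟 g χ β i _ (decide_eq_true i.2),
    fun i => Two.algebraFrom (GA 𝒟 g χ β (i + 1)) (FB 𝒟 g χ β (i + 1)) (𝒟.B i) _,
    fun i => towerBBA1Two 𝒟 g χ β i _ (decide_eq_true i.2) _,
    Two.algebraFrom (GA 𝒟 g χ β 0) (FB 𝒟 g χ β 0) S _,
    Two.tower_from_from (GA 𝒟 g χ β 0) (FB 𝒟 g χ β 0) S (Sh g χ) _,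
    fun i => inferInstanceAs (Module (𝒟.A i) (GM 𝒟 g χ β i)),
    fun i => towerAAMTwo 𝒟 g χ β i _ (decide_eq_true i.2),
    fun i => gM 𝒟 g χ β i, rfl, rfl, rfl, ?_, ?_, ?_, rfl, ?_⟩
  · exact towerSAATwo 𝒟 g χ β _ (decide_eq_true 𝒟.pos)
  · intro x
    exact isoN₁_apply H x
  · intro i h
    exact towerBA1ATwo 𝒟 g χ β i _ (decide_eq_true h)
  · intro i
    refine ⟨aEl_not_mem H i i.2, bEl_not_mem H i, ?_, ?_, ?_, ?_, ?_, ?_⟩
    · exact locATwo 𝒟 g χ β i _ (decide_eq_true i.2)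
    · exact locBTwo 𝒟 g β i _ (decide_eq_true i.2)
    · exact inferInstanceAs (IsLocalizedModule (Submonoid.powers (aEl 𝒟 g χ β i))
        (LocalizedModule.mkLinearMap (Submonoid.powers (aEl 𝒟 g χ β i)) (𝒟.M i)))
    · exact overQATwo H i i.2 _ (decide_eq_true i.2)
    · exact overQBTwo H i _ (decide_eq_true i.2)
    · exact rangeTwo 𝒟 g χ β i _ (decide_eq_true i.2)

end core

end Groth.Agent.Lib.Helper64.ShrinkCD
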