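import Mathlib
import Groth.Agent.Lib.Helper64.ShrinkCD3

/-!
# Standard shrinking of a complete dévissage: choice of the elements (helper64)
-/

set_option autoImplicit false
universe u
open TensorProduct

namespace Groth.Agent.Lib.Helper64.ShrinkCD

open Groth.Agent.Lib.Helper64.AwayGen Groth.Agent.Lib.Helper64.Shrink

attribute [local instance] FlatCA.CompleteDevissageAt.hqB FlatCA.CompleteDevissageAt.hqA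
  FlatCA.CompleteDevissageAt.overB FlatCA.CompleteDevissageAt.overA

section select

variable {R S : Type u} [CommRing R] [CommRing S] [Algebra R S]
  {N : Type u} [AddCommGroup N] [Module S N] {p : Ideal R} [p.IsPrime] {q : Ideal S} [q.IsPrime]
  (𝒟 : FlatCA.CompleteDevissage R S N p)

/-- the backward pass: correction factors -/
noncomputable def tfun (c : ∀ i, 𝒟.A i) : ∀ i : ℕ, 𝒟.B i := fun i =>
  if h : i + 1 < 𝒟.n then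
    Function.surjInv (𝒟.surjBA' i h)
      (c (i + 1) * algebraMap (𝒟.B (i + 1)) (𝒟.A (i + 1)) (tfun c (i + 1)))
  else 1
termination_by i => 𝒟.n - i
decreasing_by omega

theorem tfun_of_not_lt (c : ∀ i, 𝒟.A i) (i : ℕ) (h : ¬ i + 1 < 𝒟.n) : tfun 𝒟 c i = 1 := by
  rw [tfun, dif_neg h]

theorem tfun_spec (c : ∀ i, 𝒟.A i) (i : ℕ) (h : i + 1 < 𝒟.n) :
    algebraMap (𝒟.B i) (𝒟.A (i + 1)) (tfun 𝒟 c i) =
      c (i + 1) * algebraMap (𝒟.B (i + 1)) (𝒟.A (i + 1)) (tfun 𝒟 c (i + 1)) := by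
  conv_lhs => rw [tfun, dif_pos h]
  exact Function.surjInv_eq (𝒟.surjBA' i h) _

variable {𝒟}

theorem chain (y : ∀ i, 𝒟.B i) (c : ∀ i, 𝒟.A i)
    (hyc : ∀ i, i + 1 < 𝒟.n → algebraMap (𝒟.B (i + 1)) (𝒟.A (i + 1)) (y (i + 1)) =
      algebraMap (𝒟.B i) (𝒟.A (i + 1)) (y i) * c (i + 1)) (i : ℕ) (h : i + 1 < 𝒟.n) :
    algebraMap (𝒟.B i) (𝒟.A (i + 1)) (y i * tfun 𝒟 c i) =
      algebraMap (𝒟.B (i + 1)) (𝒟.A (i + 1)) (y (i + 1) * tfun 𝒟 c (i + 1)) := by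
  rw [map_mul, map_mul, tfun_spec 𝒟 c i h, ← mul_assoc, ← hyc i h]

theorem chain_not_mem (𝒜 : FlatCA.CompleteDevissageAt R S N p q 𝒟) (y : ∀ i, 𝒟.B i)
    (c : ∀ i, 𝒟.A i)
    (hyc : ∀ i, i + 1 < 𝒟.n → algebraMap (𝒟.B (i + 1)) (𝒟.A (i + 1)) (y (i + 1)) =
      algebraMap (𝒟.B i) (𝒟.A (i + 1)) (y i) * c (i + 1))
    (hy : ∀ i, 𝒟.n ≤ i + 1 → y i ∉ 𝒜.qB i) :
    ∀ (k i : ℕ), i + k + 1 = 𝒟.n → y i * tfun 𝒟 c i ∉ 𝒜.qB i := by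
  intro k
  induction k with
  | zero =>
    intro i hi
    rw [tfun_of_not_lt 𝒟 c i (by omega), mul_one]
    exact hy i (by omega)
  | succ k ih =>
    intro i hi hmem
    have hlt : i + 1 < 𝒟.n := by omega
    apply ih (i + 1) (by omega)
    rw [(𝒜.overA (i + 1)).over]
    show algebraMap (𝒟.B (i + 1)) (𝒟.A (i + 1)) _ ∈ 𝒜.qA (i + 1)
    rw [← chain y c hyc i hlt]
    rw [← 𝒜.qStep i hlt] at hmem
    exact hmem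

theorem not_mem_all (𝒜 : FlatCA.CompleteDevissageAt R S N p q 𝒟) (y : ∀ i, 𝒟.B i)
    (c : ∀ i, 𝒟.A i)
    (hyc : ∀ i, i + 1 < 𝒟.n → algebraMap (𝒟.B (i + 1)) (𝒟.A (i + 1)) (y (i + 1)) =
      algebraMap (𝒟.B i) (𝒟.A (i + 1)) (y i) * c (i + 1))
    (hy : ∀ i, 𝒟.n ≤ i + 1 → y i ∉ 𝒜.qB i) (i : ℕ) : y i * tfun 𝒟 c i ∉ 𝒜.qB i := by
  by_cases hi : i < 𝒟.n
  · exact chain_not_mem 𝒜 y c hyc hy (𝒟.n - 1 - i) i (by omega)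
  · rw [tfun_of_not_lt 𝒟 c i (by omega), mul_one]
    exact hy i (by omega)

theorem exists_g_all (𝒜 : FlatCA.CompleteDevissageAt R S N p q 𝒟) (β : ∀ i, 𝒟.B i)
    (hβ : ∀ i, β i ∉ 𝒜.qB i) :
    ∃ g : R, g ∉ p ∧ ∀ i, i < 𝒟.n → ∀ P : PrimeSpectrum R, g ∉ P.asIdeal →
      ∃ Q : PrimeSpectrum (𝒟.B i), β i ∉ Q.asIdeal ∧
        Q.asIdeal.comap (algebraMap R (𝒟.B i)) = P.asIdeal := by
  have key : ∀ i, ∃ gi : R, gi ∉ p ∧ (i < 𝒟.n → ∀ P : PrimeSpectrum R, gi ∉ P.asIdeal →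
      ∃ Q : PrimeSpectrum (𝒟.B i), β i ∉ Q.asIdeal ∧
        Q.asIdeal.comap (algebraMap R (𝒟.B i)) = P.asIdeal) := by
    intro i
    by_cases hi : i < 𝒟.n
    · obtain ⟨gi, h1, h2⟩ := exists_g (𝒜.d i) (𝒜.relDim i hi) p (𝒜.qB i) (β i) (hβ i)
      exact ⟨gi, h1, fun _ => h2⟩
    · exact ⟨1, Ideal.IsPrime.one_notMem ‹_›, fun h => absurd h hi⟩
  choose gi hgi1 hgi2 using key
  refine ⟨∏ i ∈ Finset.range 𝒟.n, gi i, ?_, ?_⟩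
  · rw [Ideal.IsPrime.prod_mem_iff]
    rintro ⟨i, -, hi⟩
    exact hgi1 i hi
  · intro i hi P hP
    apply hgi2 i hi P
    intro hmem
    apply hP
    exact Ideal.mem_of_dvd _ (Finset.dvd_prod_of_mem gi (Finset.mem_range.mpr hi)) hmem

/-- the hypotheses hold for the elements produced by the backward pass -/
theorem hyp_of_chain (𝒜 : FlatCA.CompleteDevissageAt R S N p q 𝒟) (y : ∀ i, 𝒟.B i)
    (c : ∀ i, 𝒟.A i)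
    (hyc : ∀ i, i + 1 < 𝒟.n → algebraMap (𝒟.B (i + 1)) (𝒟.A (i + 1)) (y (i + 1)) =
      algebraMap (𝒟.B i) (𝒟.A (i + 1)) (y i) * c (i + 1))
    (hy : ∀ i, 𝒟.n ≤ i + 1 → y i ∉ 𝒜.qB i) (χ : S)
    (hχ : algebraMap S (𝒟.A 0) χ = algebraMap (𝒟.B 0) (𝒟.A 0) (y 0 * tfun 𝒟 c 0)) :
    ∃ g : R, Hyp 𝒜 g χ (fun i => y i * tfun 𝒟 c i) := by
  obtain ⟨g, hg, hsurj⟩ := exists_g_all 𝒜 (fun i => y i * tfun 𝒟 c i)
    (not_mem_all 𝒜 y c hyc hy)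
  exact ⟨g, ⟨hg, not_mem_all 𝒜 y c hyc hy, hχ, fun i hi => chain y c hyc i hi, hsurj⟩⟩

end select


section forward

variable {R S : Type u} [CommRing R] [CommRing S] [Algebra R S]
  {N : Type u} [AddCommGroup N] [Module S N] {p : Ideal R} [p.IsPrime] {q : Ideal S} [q.IsPrime]
  {𝒟 : FlatCA.CompleteDevissage R S N p} (𝒜 : FlatCA.CompleteDevissageAt R S N p q 𝒟)

theorem exists_base (u : S) (hu : u ∉ q) :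
    ∃ (y₀ : 𝒟.B 0) (c₀ : 𝒟.A 0), y₀ ∉ 𝒜.qB 0 ∧
      algebraMap (𝒟.B 0) (𝒟.A 0) y₀ = algebraMap S (𝒟.A 0) u * c₀ := by
  have : Module.Finite (𝒟.B 0) (𝒟.A 0) := 𝒟.finiteBA 0 𝒟.pos
  have : (𝒜.qA 0).LiesOver q := ⟨𝒜.q0.symm⟩
  exact exists_hY₀ (S := S) (C := 𝒟.A 0) (D := 𝒟.B 0) q (𝒜.qA 0) (𝒜.qB 0)
    (fun z₁ _ h => 𝒜.uniq 0 𝒟.pos z₁ h) u hu

theorem exists_step (i : ℕ) (hi : i + 1 < 𝒟.n) (v : 𝒟.B i) (hv : v ∉ 𝒜.qB i) :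
    ∃ (y' : 𝒟.B (i + 1)) (c : 𝒟.A (i + 1)), y' ∉ 𝒜.qB (i + 1) ∧
      algebraMap (𝒟.B (i + 1)) (𝒟.A (i + 1)) y' = algebraMap (𝒟.B i) (𝒟.A (i + 1)) v * c := by
  have : Module.Finite (𝒟.B (i + 1)) (𝒟.A (i + 1)) := 𝒟.finiteBA (i + 1) hi
  have : (𝒜.qA (i + 1)).LiesOver (𝒜.qB i) := ⟨(𝒜.qStep i hi).symm⟩
  exact exists_hY₀ (S := 𝒟.B i) (C := 𝒟.A (i + 1)) (D := 𝒟.B (i + 1)) (𝒜.qB i) (𝒜.qA (i + 1))
    (𝒜.qB (i + 1)) (fun z₁ _ h => 𝒜.uniq (i + 1) hi z₁ h) v hv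

/-- the forward pass: elements of the smooth algebras -/
noncomputable def fwd (y₀ : {y : 𝒟.B 0 // y ∉ 𝒜.qB 0}) : ∀ i : ℕ, {y : 𝒟.B i // y ∉ 𝒜.qB i}
  | 0 => y₀
  | i + 1 =>
    if h : i + 1 < 𝒟.n then
      ⟨(exists_step 𝒜 i h (fwd y₀ i).1 (fwd y₀ i).2).choose,
        (exists_step 𝒜 i h (fwd y₀ i).1 (fwd y₀ i).2).choose_spec.choose_spec.1⟩
    else ⟨1, Ideal.IsPrime.one_notMem (𝒜.hqB (i + 1))⟩

/-- the forward pass: the cofactors -/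
noncomputable def cfwd (y₀ : {y : 𝒟.B 0 // y ∉ 𝒜.qB 0}) (c₀ : 𝒟.A 0) : ∀ i : ℕ, 𝒟.A i
  | 0 => c₀
  | i + 1 =>
    if h : i + 1 < 𝒟.n then
      (exists_step 𝒜 i h (fwd 𝒜 y₀ i).1 (fwd 𝒜 y₀ i).2).choose_spec.choose
    else 1

theorem fwd_spec (y₀ : {y : 𝒟.B 0 // y ∉ 𝒜.qB 0}) (c₀ : 𝒟.A 0) (i : ℕ) (h : i + 1 < 𝒟.n) :
    algebraMap (𝒟.B (i + 1)) (𝒟.A (i + 1)) (fwd 𝒜 y₀ (i + 1)).1 =
      algebraMap (𝒟.B i) (𝒟.A (i + 1)) (fwd 𝒜 y₀ i).1 * cfwd 𝒜 y₀ c₀ (i + 1) := by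
  simp only [fwd, cfwd, dif_pos h]
  exact (exists_step 𝒜 i h (fwd 𝒜 y₀ i).1 (fwd 𝒜 y₀ i).2).choose_spec.choose_spec.2

end forward

end Groth.Agent.Lib.Helper64.ShrinkCD
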