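import Mathlib

set_option autoImplicit false
universe u

open CategoryTheory CategoryTheory.Limits TopologicalSpace Opposite

namespace Groth.Agent.Lib.Helper64.SpecRestr

variable {X Y : TopCat.{u}} (f : Y ⟶ X) (F : TopCat.Sheaf (Type u) X)

/-- the adjunction -/
noncomputable abbrev adj := TopCat.Sheaf.pullbackPushforwardAdjunction (Type u) f

/-- the pullback sheaf -/
noncomputable abbrev G : TopCat.Sheaf (Type u) Y := (TopCat.Sheaf.pullback (Type u) f).obj F

/-- the unit -/
noncomputable abbrev η : F ⟶ (TopCat.Sheaf.pushforward (Type u) f).obj (G f F) := (adj f).unit.app F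

/-- the unit on sections -/
noncomputable def ηU (U : Opens X) :
    F.1.obj (op U) → (G f F).1.obj (op ((Opens.map f).obj U)) :=
  (η f F).hom.app (op U)

lemma ηU_res {U V : Opens X} (h : V ≤ U) (s : F.1.obj (op U)) :
    (G f F).1.map (homOfLE ((Opens.map f).monotone h)).op (ηU f F U s) =
      ηU f F V (F.1.map (homOfLE h).op s) := by
  have := (η f F).hom.naturality (homOfLE h).op
  exact (congrFun (congrArg (fun k => (ConcreteCategory.hom k : _ → _)) this) s).symm

/-- the sheaf of families of germs along `f` -/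
noncomputable def germSheaf : TopCat.Sheaf (Type u) Y :=
  TopCat.sheafToTypes Y (fun y => F.presheaf.stalk (f y))

/-- the germ map `F ⟶ f_* germSheaf` -/
noncomputable def germMap : F ⟶ (TopCat.Sheaf.pushforward (Type u) f).obj (germSheaf f F) :=
  ⟨{ app := fun U => ↾(fun (s : F.1.obj U) (y : ((Opens.map f).obj U.unop)) =>
        F.presheaf.germ U.unop (f y.1) y.2 s)
     naturality := by
      intro U V k
      ext s
      funext y
      change F.presheaf.germ V.unop (f y.1) y.2 (F.1.map k s) =
        F.presheaf.germ U.unop (f y.1) (k.unop.le y.2) s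
      exact TopCat.Presheaf.germ_res_apply F.presheaf k.unop (f y.1) y.2 s }⟩


lemma germ_eq_of_ηU_eq (U : Opens X) (s t : F.1.obj (op U)) (h : ηU f F U s = ηU f F U t)
    (y : Y) (hy : f y ∈ U) : F.presheaf.germ U (f y) hy s = F.presheaf.germ U (f y) hy t := by
  let φ := ((adj f).homEquiv F (germSheaf f F)).symm (germMap f F)
  have hφ : germMap f F = η f F ≫ (TopCat.Sheaf.pushforward (Type u) f).map φ := by
    rw [← Adjunction.homEquiv_unit]
    exact (Equiv.apply_symm_apply _ _).symm
  have key : ∀ r : F.1.obj (op U), (germMap f F).hom.app (op U) r =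
      ((TopCat.Sheaf.pushforward (Type u) f).map φ).hom.app (op U) (ηU f F U r) := by
    intro r
    rw [hφ]
    rfl
  have h2 : (germMap f F).hom.app (op U) s = (germMap f F).hom.app (op U) t := by
    rw [key, key, h]
  exact congrFun h2 ⟨y, hy⟩


/-- the subpresheaf of sections which are restrictions of images of the unit -/
noncomputable def G₀ : Subfunctor (G f F).1 where
  obj V := {g | ∃ (U : Opens X) (h : V.unop ≤ (Opens.map f).obj U) (s : F.1.obj (op U)),
    g = (G f F).1.map (homOfLE h).op (ηU f F U s)}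
  map := by
    rintro V V' k g ⟨U, h, s, rfl⟩
    refine ⟨U, k.unop.le.trans h, s, ?_⟩
    change (G f F).1.map k ((G f F).1.map (homOfLE h).op (ηU f F U s)) = _
    rw [← Functor.map_comp_apply]
    rfl

/-- the generated subsheaf -/
noncomputable def G' : Subfunctor (G f F).1 := (G₀ f F).sheafify (Opens.grothendieckTopology Y)

lemma G'_isSheaf : Presieve.IsSheaf (Opens.grothendieckTopology Y) (G' f F).toFunctor :=
  (G₀ f F).sheafify_isSheaf ((isSheaf_iff_isSheaf_of_type _ _).1 (G f F).property)

/-- the generated subsheaf, as a sheaf -/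
noncomputable def G'sh : TopCat.Sheaf (Type u) Y :=
  ⟨(G' f F).toFunctor, (isSheaf_iff_isSheaf_of_type _ _).2 (G'_isSheaf f F)⟩

/-- inclusion of the generated subsheaf -/
noncomputable def ι' : G'sh f F ⟶ G f F := ⟨(G' f F).ι⟩

lemma ηU_mem (U : Opens X) (s : F.1.obj (op U)) :
    ηU f F U s ∈ (G' f F).obj (op ((Opens.map f).obj U)) := by
  apply (G₀ f F).le_sheafify
  refine ⟨U, le_rfl, s, ?_⟩
  exact (Functor.map_id_apply (G f F).1 _ _).symm

/-- the unit factors through the generated subsheaf -/
noncomputable def η' : F ⟶ (TopCat.Sheaf.pushforward (Type u) f).obj (G'sh f F) :=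
  ⟨{ app := fun U => ↾(fun (s : F.1.obj U) =>
        (⟨ηU f F U.unop s, ηU_mem f F U.unop s⟩ : (G' f F).obj (op ((Opens.map f).obj U.unop))))
     naturality := by
      intro U V k
      ext s
      apply Subtype.ext
      have := (η f F).hom.naturality k
      exact congrFun (congrArg (fun k => (ConcreteCategory.hom k : _ → _)) this) s }⟩

lemma η'_ι' : η' f F ≫ (TopCat.Sheaf.pushforward (Type u) f).map (ι' f F) = η f F := by
  apply Sheaf.hom_ext
  ext U s
  rfl

lemma mem_G' (V : Opens Y) (g : (G f F).1.obj (op V)) : g ∈ (G' f F).obj (op V) := by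
  let ψ := ((adj f).homEquiv F (G'sh f F)).symm (η' f F)
  have hψ : η' f F = η f F ≫ (TopCat.Sheaf.pushforward (Type u) f).map ψ := by
    rw [← Adjunction.homEquiv_unit]
    exact (Equiv.apply_symm_apply _ _).symm
  have hid : ψ ≫ ι' f F = 𝟙 (G f F) := by
    apply ((adj f).homEquiv F (G f F)).injective
    rw [Adjunction.homEquiv_unit, Adjunction.homEquiv_unit, Functor.map_comp, ← Category.assoc,
      ← hψ, η'_ι', CategoryTheory.Functor.map_id]
    exact (Category.comp_id _).symm
  have h1 : (ι' f F).hom.app (op V) (ψ.hom.app (op V) g) = g := by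
    have := congrArg (fun k => k.hom.app (op V)) hid
    exact congrFun (congrArg (fun k => (ConcreteCategory.hom k : _ → _)) this) g
  rw [← h1]
  exact (ψ.hom.app (op V) g).2

/-- every section of the pullback is locally the restriction of an image of the unit -/
theorem exists_local (V : Opens Y) (g : (G f F).1.obj (op V)) (y : Y) (hy : y ∈ V) :
    ∃ (V' : Opens Y) (_ : y ∈ V') (hV' : V' ≤ V) (U : Opens X) (h : V' ≤ (Opens.map f).obj U)
      (s : F.1.obj (op U)),
      (G f F).1.map (homOfLE hV').op g = (G f F).1.map (homOfLE h).op (ηU f F U s) := by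
  have hg := mem_G' f F V g
  obtain ⟨V', k, hk, hyV'⟩ := hg y hy
  obtain ⟨U, h, s, hs⟩ := hk
  exact ⟨V', hyV', k.le, U, h, s, hs⟩

end Groth.Agent.Lib.Helper64.SpecRestr
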