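import Mathlib
import Groth.Agent.Lib.Helper75.SpecTop

set_option autoImplicit false
universe u

open TopologicalSpace Topology Set

namespace Groth.Agent.Lib.Helper64.SpecRestr

variable {X : Type u} [TopologicalSpace X] [SpectralSpace X]

/-- separation of generization sets from a pro-constructible set -/
lemma exists_nhds_pair (A B : Set X) (hA : IsCompact A) (hB : IsCompact B)
    (P Q W : Set X) (hP : IsOpen P) (hPc : IsCompact P) (hQ : IsOpen Q) (hQc : IsCompact Q)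
    (hW : IsOpen W)
    (H : ∀ x, x ∈ P → x ∈ Q → (∃ z ∈ A, x ⤳ z) → (∃ z ∈ B, x ⤳ z) → x ∈ W) :
    ∃ N N' : Set X, IsOpen N ∧ IsOpen N' ∧ A ⊆ N ∧ B ⊆ N' ∧ N ∩ N' ∩ (P ∩ Q) ⊆ W := by
  classical
  let 𝒟₁ : Set (Set X) := {U | IsOpen U ∧ IsCompact U ∧ A ⊆ U}
  let 𝒟₂ : Set (Set X) := {U | IsOpen U ∧ IsCompact U ∧ B ⊆ U}
  let 𝒟₃ : Set (Set X) := {T | ∃ O : Set X, IsOpen O ∧ IsCompact O ∧ O ⊆ W ∧ T = (P ∩ Q) \ O}
  have hPQc : IsCompact (P ∩ Q) := hPc.inter_of_isOpen hQc hP hQ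
  have hPQo : IsOpen (P ∩ Q) := hP.inter hQ
  have hcons : ∀ C ∈ 𝒟₁ ∪ 𝒟₂ ∪ 𝒟₃, IsConstructible C := by
    rintro C ((⟨hCo, hCc, _⟩ | ⟨hCo, hCc, _⟩) | ⟨O, hOo, hOc, _, rfl⟩)
    · exact hCc.isConstructible hCo
    · exact hCc.isConstructible hCo
    · exact (hPQc.isConstructible hPQo).sdiff (hOc.isConstructible hOo)
  have hemp : ⋂₀ (𝒟₁ ∪ 𝒟₂ ∪ 𝒟₃) = ∅ := by
    rw [eq_empty_iff_forall_notMem]
    intro x hx
    have hx1 : x ∈ ⋂₀ 𝒟₁ := fun C hC => hx C (Or.inl (Or.inl hC))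
    have hx2 : x ∈ ⋂₀ 𝒟₂ := fun C hC => hx C (Or.inl (Or.inr hC))
    rw [← Groth.Agent.Lib.Helper75.setOf_specializes_eq_sInter hA] at hx1
    rw [← Groth.Agent.Lib.Helper75.setOf_specializes_eq_sInter hB] at hx2
    have hxPQ : x ∈ P ∩ Q := by
      have := hx ((P ∩ Q) \ ∅) (Or.inr ⟨∅, isOpen_empty, isCompact_empty, empty_subset _, rfl⟩)
      exact this.1
    have hxW : x ∈ W := H x hxPQ.1 hxPQ.2 hx1 hx2
    obtain ⟨O, ⟨hOo, hOc⟩, hxO, hOW⟩ :=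
      PrespectralSpace.isTopologicalBasis.exists_subset_of_mem_open hxW hW
    have := hx ((P ∩ Q) \ O) (Or.inr ⟨O, hOo, hOc, hOW, rfl⟩)
    exact this.2 hxO
  obtain ⟨𝒟₀, hsub, hfin, hemp₀⟩ :=
    Groth.Agent.Lib.Helper16.exists_finite_sInter_eq_empty hcons hemp
  refine ⟨⋂₀ (𝒟₀ ∩ 𝒟₁), ⋂₀ (𝒟₀ ∩ 𝒟₂), ?_, ?_, ?_, ?_, ?_⟩
  · exact (hfin.subset inter_subset_left).isOpen_sInter (fun C hC => hC.2.1)
  · exact (hfin.subset inter_subset_left).isOpen_sInter (fun C hC => hC.2.1)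
  · exact subset_sInter (fun C hC => hC.2.2.2)
  · exact subset_sInter (fun C hC => hC.2.2.2)
  · rintro x ⟨⟨hxN, hxN'⟩, hxPQ⟩
    by_contra hxW
    have : x ∈ ⋂₀ 𝒟₀ := by
      intro C hC
      rcases hsub hC with (hC1 | hC2) | ⟨O, hOo, hOc, hOW, rfl⟩
      · exact hxN C ⟨hC, hC1⟩
      · exact hxN' C ⟨hC, hC2⟩
      · exact ⟨hxPQ, fun hxO => hxW (hOW hxO)⟩
    rw [hemp₀] at this
    exact this

end Groth.Agent.Lib.Helper64.SpecRestr
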