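import Mathlib
import Groth.Agent.Lib.Helper64.SpecRestr
import Groth.Agent.Lib.Helper64.SpecRestr2

set_option autoImplicit false
universe u
open CategoryTheory CategoryTheory.Limits TopologicalSpace Opposite Topology Set

namespace Groth.Agent.Lib.Helper64.SpecRestr

section germs

variable {X : TopCat.{u}} (F : TopCat.Presheaf (Type u) X)

/-- agreement locus of two sections -/
def agree {U U' : Opens X} (s : F.obj (op U)) (s' : F.obj (op U')) : Set X :=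
  {x | ∃ (hx : x ∈ U) (hx' : x ∈ U'), F.germ U x hx s = F.germ U' x hx' s'}

lemma isOpen_agree {U U' : Opens X} (s : F.obj (op U)) (s' : F.obj (op U')) :
    IsOpen (agree F s s') := by
  rw [isOpen_iff_forall_mem_open]
  rintro x ⟨hx, hx', e⟩
  obtain ⟨W, hxW, iU, iV, e'⟩ := TopCat.Presheaf.germ_eq F x hx hx' s s' e
  refine ⟨W, ?_, W.2, hxW⟩
  intro y hy
  exact ⟨iU.le hy, iV.le hy, TopCat.Presheaf.germ_ext F W hy iU iV e'⟩

lemma conn_germ {ι : Type*} (U : ι → Opens X) (s : ∀ m, F.obj (op (U m)))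
    (x : X) (A : Set X) (hA : IsPreconnected A) (hxA : ∀ a ∈ A, x ⤳ a)
    (hcov : ∀ a ∈ A, ∃ m, a ∈ U m)
    (hwd : ∀ m m' a, a ∈ A → a ∈ U m → a ∈ U m' → ∀ (hx : x ∈ U m) (hx' : x ∈ U m'),
      F.germ (U m) x hx (s m) = F.germ (U m') x hx' (s m'))
    (k l : ι) (z z' : X) (hz : z ∈ A) (hzk : z ∈ U k) (hz' : z' ∈ A) (hzl : z' ∈ U l)
    (hxk : x ∈ U k) (hxl : x ∈ U l) :
    F.germ (U k) x hxk (s k) = F.germ (U l) x hxl (s l) := by
  classical
  by_contra hne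
  let S : Set X := ⋃ m ∈ {m | ∃ hx : x ∈ U m, F.germ (U m) x hx (s m) = F.germ (U k) x hxk (s k)},
    (U m : Set X)
  let S' : Set X := ⋃ m ∈ {m | ∃ hx : x ∈ U m, F.germ (U m) x hx (s m) ≠ F.germ (U k) x hxk (s k)},
    (U m : Set X)
  have hS : IsOpen S := isOpen_biUnion (fun m _ => (U m).2)
  have hS' : IsOpen S' := isOpen_biUnion (fun m _ => (U m).2)
  have hcov' : A ⊆ S ∪ S' := by
    intro a ha
    obtain ⟨m, hm⟩ := hcov a ha
    have hxm : x ∈ U m := (hxA a ha).mem_open (U m).2 hm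
    by_cases h : F.germ (U m) x hxm (s m) = F.germ (U k) x hxk (s k)
    · exact Or.inl (mem_biUnion (show m ∈ {m | ∃ hx : x ∈ U m, F.germ (U m) x hx (s m) =
        F.germ (U k) x hxk (s k)} from ⟨hxm, h⟩) hm)
    · exact Or.inr (mem_biUnion (show m ∈ {m | ∃ hx : x ∈ U m, F.germ (U m) x hx (s m) ≠
        F.germ (U k) x hxk (s k)} from ⟨hxm, h⟩) hm)
  have h1 : (A ∩ S).Nonempty := ⟨z, hz, mem_biUnion (show k ∈ {m | ∃ hx : x ∈ U m,
    F.germ (U m) x hx (s m) = F.germ (U k) x hxk (s k)} from ⟨hxk, rfl⟩) hzk⟩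
  have h2 : (A ∩ S').Nonempty := ⟨z', hz', mem_biUnion (show l ∈ {m | ∃ hx : x ∈ U m,
    F.germ (U m) x hx (s m) ≠ F.germ (U k) x hxk (s k)} from ⟨hxl, fun h => hne h.symm⟩) hzl⟩
  obtain ⟨a, ha, haS, haS'⟩ := hA S S' hS hS' hcov' h1 h2
  obtain ⟨m, ⟨hxm, hm⟩, ham⟩ := mem_iUnion₂.1 haS
  obtain ⟨m', ⟨hxm', hm'⟩, ham'⟩ := mem_iUnion₂.1 haS'
  exact hm' ((hwd m' m a ha ham' ham hxm' hxm).trans hm)

end germs

variable (X : TopCat.{u}) (Z : Set X) (F : TopCat.Sheaf (Type u) X)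

/-- inclusion -/
abbrev incl : TopCat.of Z ⟶ X := TopCat.ofHom ⟨(Subtype.val : Z → X), continuous_subtype_val⟩

variable {X Z}

theorem unit_inj (hne : ∀ x : X, (Z ∩ closure {x}).Nonempty) :
    Function.Injective (ηU (incl X Z) F ⊤) := by
  intro s t h
  apply TopCat.Presheaf.section_ext F ⊤ s t
  intro x hx
  obtain ⟨z, hzZ, hzx⟩ := hne x
  have hspec : x ⤳ z := specializes_iff_mem_closure.2 hzx
  have hg := germ_eq_of_ηU_eq (incl X Z) F ⊤ s t h ⟨z, hzZ⟩ trivial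
  obtain ⟨W, hzW, iU, iV, e⟩ := TopCat.Presheaf.germ_eq F.presheaf (U := ⊤) (V := ⊤) z trivial trivial s t hg
  have hxW : x ∈ W := hspec.mem_open W.2 hzW
  exact TopCat.Presheaf.germ_ext F.presheaf W hxW iU iV e


section good

variable (g : (G (incl X Z) F).1.obj (op ((Opens.map (incl X Z)).obj ⊤)))

/-- `(U, s)` represents `g` over `U ∩ Z` -/
def Good (U : Opens X) (s : F.1.obj (op U)) : Prop :=
  (G (incl X Z) F).1.map (homOfLE (show (Opens.map (incl X Z)).obj U ≤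
    (Opens.map (incl X Z)).obj ⊤ from (Opens.map (incl X Z)).monotone le_top)).op g =
    ηU (incl X Z) F U s

lemma Good.res {U V : Opens X} {s : F.1.obj (op U)} (h : Good F g U s) (hVU : V ≤ U) :
    Good F g V (F.1.map (homOfLE hVU).op s) := by
  unfold Good at h ⊢
  rw [← ηU_res (incl X Z) F hVU s, ← h, ← Functor.map_comp_apply]
  rfl

lemma exists_good [SpectralSpace X] (z : X) (hz : z ∈ Z) :
    ∃ (U : Opens X) (_ : z ∈ U) (_ : IsCompact (U : Set X)) (s : F.1.obj (op U)),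
      Good F g U s := by
  obtain ⟨V', hzV', hV', U, h, s, e⟩ :=
    exists_local (incl X Z) F ((Opens.map (incl X Z)).obj ⊤) g ⟨z, hz⟩ trivial
  obtain ⟨T, hT, hTV'⟩ := isOpen_induced_iff.1 V'.2
  have hzT : z ∈ T := by
    have : (⟨z, hz⟩ : Z) ∈ Subtype.val ⁻¹' T := by rw [hTV']; exact hzV'
    exact this
  have hzU : z ∈ U := h hzV'
  obtain ⟨O, ⟨hOo, hOc⟩, hzO, hOTU⟩ :=
    PrespectralSpace.isTopologicalBasis.exists_subset_of_mem_open
      (show z ∈ T ∩ (U : Set X) from ⟨hzT, hzU⟩) (hT.inter U.2)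
  let O' : Opens X := ⟨O, hOo⟩
  have hO'U : O' ≤ U := fun y hy => (hOTU hy).2
  have hO'V' : (Opens.map (incl X Z)).obj O' ≤ V' := by
    intro y hy
    have : y ∈ Subtype.val ⁻¹' T := (hOTU hy).1
    rw [hTV'] at this
    exact this
  refine ⟨O', hzO, hOc, F.1.map (homOfLE hO'U).op s, ?_⟩
  unfold Good
  rw [← ηU_res (incl X Z) F hO'U s]
  have e' := congrArg ((G (incl X Z) F).1.map (homOfLE hO'V').op) e
  rw [← Functor.map_comp_apply, ← Functor.map_comp_apply] at e'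
  exact e'


lemma good_germ_eq {U U' : Opens X} {s : F.1.obj (op U)} {s' : F.1.obj (op U')}
    (h : Good F g U s) (h' : Good F g U' s') (a : X) (haZ : a ∈ Z) (haU : a ∈ U) (haU' : a ∈ U')
    (x : X) (hxa : x ⤳ a) (hxU : x ∈ U) (hxU' : x ∈ U') :
    F.presheaf.germ U x hxU s = F.presheaf.germ U' x hxU' s' := by
  have h1 := h.res F g (inf_le_left : U ⊓ U' ≤ U)
  have h2 := h'.res F g (inf_le_right : U ⊓ U' ≤ U')
  have h3 : ηU (incl X Z) F (U ⊓ U') (F.1.map (homOfLE (inf_le_left : U ⊓ U' ≤ U)).op s) =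
      ηU (incl X Z) F (U ⊓ U') (F.1.map (homOfLE (inf_le_right : U ⊓ U' ≤ U')).op s') := by
    rw [← h1, ← h2]
  have h4 := germ_eq_of_ηU_eq (incl X Z) F (U ⊓ U') _ _ h3 ⟨a, haZ⟩ ⟨haU, haU'⟩
  obtain ⟨W, haW, iU, iV, e⟩ := TopCat.Presheaf.germ_eq F.presheaf (U := U ⊓ U') (V := U ⊓ U')
    a ⟨haU, haU'⟩ ⟨haU, haU'⟩ _ _ h4
  have hxW : x ∈ W := hxa.mem_open W.2 haW
  rw [← Functor.map_comp_apply, ← Functor.map_comp_apply] at e
  exact TopCat.Presheaf.germ_ext F.presheaf W hxW _ _ e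

end good


lemma germ_res2 {U V W : Opens X} (k : W ⟶ V) (k' : V ⟶ U) (x : X) (hx : x ∈ W)
    (s : F.1.obj (op U)) :
    F.presheaf.germ W x hx (F.1.map k.op (F.1.map k'.op s)) =
      F.presheaf.germ U x (k'.le (k.le hx)) s :=
  (TopCat.Presheaf.germ_res_apply F.presheaf k x hx _).trans
    (TopCat.Presheaf.germ_res_apply F.presheaf k' x (k.le hx) s)

theorem unit_surj [SpectralSpace X] (hZ : IsClosed Z)
    (hconn : ∀ x : X, IsConnected (Z ∩ closure {x})) :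
    Function.Surjective (ηU (incl X Z) F ⊤) := by
  classical
  intro g
  choose U hzU hUc s hgood using fun (z : Z) => exists_good F g z.1 z.2
  have hZc : IsCompact Z := hZ.isCompact
  obtain ⟨t, ht⟩ := hZc.elim_finite_subcover (fun z : Z => (U z : Set X)) (fun z => (U z).2)
    (fun z hz => mem_iUnion.2 ⟨⟨z, hz⟩, hzU ⟨z, hz⟩⟩)
  have key : ∀ (k l : Z) (x : X), x ∈ U k → x ∈ U l → (∃ z ∈ Z ∩ (U k : Set X), x ⤳ z) →
      (∃ z ∈ Z ∩ (U l : Set X), x ⤳ z) → x ∈ agree F.presheaf (s k) (s l) := by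
    rintro k l x hxk hxl ⟨z, ⟨hzZ, hzk⟩, hxz⟩ ⟨z', ⟨hz'Z, hz'l⟩, hxz'⟩
    refine ⟨hxk, hxl, ?_⟩
    refine conn_germ F.presheaf U s x (Z ∩ closure {x}) (hconn x).isPreconnected ?_ ?_ ?_ k l z z'
      ⟨hzZ, specializes_iff_mem_closure.1 hxz⟩ hzk ⟨hz'Z, specializes_iff_mem_closure.1 hxz'⟩
      hz'l hxk hxl
    · intro a ha
      exact specializes_iff_mem_closure.2 ha.2
    · intro a ha
      exact ⟨⟨a, ha.1⟩, hzU ⟨a, ha.1⟩⟩
    · intro m m' a ha ham ham' hx hx'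
      exact good_germ_eq F g (hgood m) (hgood m') a ha.1 ham ham' x
        (specializes_iff_mem_closure.2 ha.2) hx hx'
  have sep : ∀ k l : Z, ∃ N N' : Set X, IsOpen N ∧ IsOpen N' ∧ Z ∩ (U k : Set X) ⊆ N ∧
      Z ∩ (U l : Set X) ⊆ N' ∧
      N ∩ N' ∩ ((U k : Set X) ∩ (U l : Set X)) ⊆ agree F.presheaf (s k) (s l) := by
    intro k l
    exact exists_nhds_pair (Z ∩ (U k : Set X)) (Z ∩ (U l : Set X)) ((hUc k).inter_left hZ)
      ((hUc l).inter_left hZ) (U k) (U l) _ (U k).2 (hUc k) (U l).2 (hUc l)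
      (isOpen_agree F.presheaf (s k) (s l)) (fun x hxk hxl h1 h2 => key k l x hxk hxl h1 h2)
  choose N N' hN hN' hAN hBN' hNN using sep
  let U' : Z → Opens X := fun k => ⟨(U k : Set X) ∩ ⋂ l ∈ t, (N k l ∩ N' l k),
    (U k).2.inter (isOpen_biInter_finset (fun l _ => (hN k l).inter (hN' l k)))⟩
  have hU'U : ∀ k, U' k ≤ U k := fun k x hx => hx.1
  have hZU' : ∀ k, Z ∩ (U k : Set X) ⊆ U' k := by
    intro k x hx
    refine ⟨hx.2, ?_⟩
    refine mem_iInter₂.2 (fun l _ => ⟨hAN k l hx, hBN' l k hx⟩)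
  have hU'agree : ∀ k ∈ t, ∀ l ∈ t, ((U' k : Set X) ∩ (U' l : Set X)) ⊆
      agree F.presheaf (s k) (s l) := by
    intro k hk l hl x hx
    apply hNN k l
    exact ⟨⟨(mem_iInter₂.1 hx.1.2 l hl).1, (mem_iInter₂.1 hx.2.2 k hk).2⟩, hx.1.1, hx.2.1⟩
  have hcovZ : ∀ z ∈ Z, ∃ k ∈ t, z ∈ U' k := by
    intro z hz
    obtain ⟨k, hk, hzk⟩ := mem_iUnion₂.1 (ht hz)
    exact ⟨k, hk, hZU' k ⟨hz, hzk⟩⟩
  have hcovX : ∀ x : X, ∃ k ∈ t, x ∈ U' k := by
    intro x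
    obtain ⟨z, hzZ, hzx⟩ := (hconn x).nonempty
    obtain ⟨k, hk, hzk⟩ := hcovZ z hzZ
    exact ⟨k, hk, (specializes_iff_mem_closure.2 hzx).mem_open (U' k).2 hzk⟩
  let Uι : {k : Z // k ∈ t} → Opens X := fun k => U' k.1
  let sf : ∀ k : {k : Z // k ∈ t}, F.1.obj (op (Uι k)) :=
    fun k => F.1.map (homOfLE (hU'U k.1)).op (s k.1)
  have hcompat : TopCat.Presheaf.IsCompatible F.1 Uι sf := by
    intro i j
    apply TopCat.Presheaf.section_ext F (Uι i ⊓ Uι j)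
    intro x hx
    obtain ⟨hxk, hxl, e⟩ := hU'agree i.1 i.2 j.1 j.2 hx
    exact (germ_res2 F _ _ x hx (s i.1)).trans (e.trans (germ_res2 F _ _ x hx (s j.1)).symm)
  have hcov : (⊤ : Opens X) ≤ iSup Uι := by
    intro x _
    obtain ⟨k, hk, hxk⟩ := hcovX x
    exact Opens.mem_iSup.2 ⟨⟨k, hk⟩, hxk⟩
  obtain ⟨t₀, ht₀, -⟩ := TopCat.Sheaf.existsUnique_gluing' F Uι ⊤ (fun i => homOfLE le_top) hcov
    sf hcompat
  refine ⟨t₀, ?_⟩
  have hcov' : (Opens.map (incl X Z)).obj ⊤ ≤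
      iSup (fun k : {k : Z // k ∈ t} => (Opens.map (incl X Z)).obj (Uι k)) := by
    intro z _
    obtain ⟨k, hk, hzk⟩ := hcovZ z.1 z.2
    exact Opens.mem_iSup.2 ⟨⟨k, hk⟩, hzk⟩
  apply TopCat.Sheaf.eq_of_locally_eq' (G (incl X Z) F)
    (fun k : {k : Z // k ∈ t} => (Opens.map (incl X Z)).obj (Uι k))
    ((Opens.map (incl X Z)).obj ⊤)
    (fun k => homOfLE ((Opens.map (incl X Z)).monotone le_top)) hcov'
  intro k
  have h1 := ηU_res (incl X Z) F (le_top : Uι k ≤ ⊤) t₀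
  have h2 := ht₀ k
  have h3 := (hgood k.1).res F g (hU'U k.1)
  unfold Good at h3
  exact h1.trans ((congrArg _ h2).trans h3.symm)


theorem main (X : TopCat.{u}) [SpectralSpace X]
    (Z : Set X) (hZ : IsClosed Z)
    (hconn : ∀ x : X, IsConnected (Z ∩ closure {x}))
    (F : TopCat.Sheaf (Type u) X) :
    Function.Bijective
      (((TopCat.Sheaf.pullbackPushforwardAdjunction (Type u)
        (TopCat.ofHom ⟨(Subtype.val : Z → X), continuous_subtype_val⟩)).unit.app F).hom.app (op ⊤)) :=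
  ⟨unit_inj F (fun x => (hconn x).nonempty), unit_surj F hZ hconn⟩

end Groth.Agent.Lib.Helper64.SpecRestr
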