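import Mathlib

set_option autoImplicit false
set_option linter.unusedSectionVars false
universe v u v' u'

open CategoryTheory CategoryTheory.Limits CategoryTheory.Pretriangulated CategoryTheory.Triangulated

namespace Groth.Agent.Lib.Helper64.TStrH0

variable {C : Type u} [Category.{v} C] [Preadditive C] [HasZeroObject C] [HasShift C ℤ]
  [∀ n : ℤ, (shiftFunctor C n).Additive] [Pretriangulated C] [IsTriangulated C] (t : TStructure C)

/-- (L): for a distinguished triangle `W ⟶ Z ⟶ V ⟶ W⟦1⟧` with `V ≥ 0` and `A ≤ 0`, the map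
`Hom(A, τ≥0 W) ⟶ Hom(A, τ≥0 Z)` is injective. -/
lemma eq_zero_of_comp_truncGE_map (T : Triangle C) (hT : T ∈ distTriang C) [t.IsGE T.obj₃ 0]
    (A : C) [t.IsLE A 0] (u : A ⟶ (t.truncGE 0).obj T.obj₁)
    (hu : u ≫ (t.truncGE 0).map T.mor₁ = 0) : u = 0 := by
  have hiso : IsIso ((t.truncLT 0).map T.mor₁) := t.isIso₁_truncLT_map_of_isGE T hT 0 inferInstance
  -- Step 1
  have h1 : u ≫ (t.truncGEδLT 0).app T.obj₁ = 0 := by
    have hnat := (t.truncGEδLT 0).naturality T.mor₁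
    have : (u ≫ (t.truncGEδLT 0).app T.obj₁) ≫ ((t.truncLT 0).map T.mor₁)⟦(1 : ℤ)⟧' = 0 := by
      rw [Category.assoc]
      erw [← hnat]
      rw [← Category.assoc, hu, zero_comp]
    rw [← cancel_mono (((t.truncLT 0).map T.mor₁)⟦(1 : ℤ)⟧'), this, zero_comp]
  -- Step 2
  obtain ⟨(v : A ⟶ T.obj₁), (hv : u = v ≫ (t.truncGEπ 0).app T.obj₁)⟩ :=
    Triangle.coyoneda_exact₃ _ (t.triangleLTGE_distinguished 0 T.obj₁) u h1
  -- Step 3
  have h3 : (v ≫ T.mor₁) ≫ (t.truncGEπ 0).app T.obj₂ = 0 := by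
    have hnat := (t.truncGEπ 0).naturality T.mor₁
    dsimp at hnat
    rw [Category.assoc, hnat, ← Category.assoc, ← hv, hu]
  obtain ⟨(w : A ⟶ (t.truncLT 0).obj T.obj₂), (hw : v ≫ T.mor₁ = w ≫ (t.truncLTι 0).app T.obj₂)⟩ :=
    Triangle.coyoneda_exact₂ _ (t.triangleLTGE_distinguished 0 T.obj₂) (v ≫ T.mor₁) h3
  -- Step 4
  have h4 : (v - ((w ≫ inv ((t.truncLT 0).map T.mor₁)) ≫ (t.truncLTι 0).app T.obj₁ : A ⟶ T.obj₁)) ≫
      T.mor₁ = 0 := by
    have hnat := (t.truncLTι 0).naturality T.mor₁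
    dsimp at hnat
    rw [Preadditive.sub_comp, Category.assoc, Category.assoc, ← hnat, IsIso.inv_hom_id_assoc, hw,
      sub_self]
  -- Step 5
  obtain ⟨z, hz⟩ := Triangle.coyoneda_exact₂ _ (inv_rot_of_distTriang _ hT) _ h4
  have hz0 : z = 0 := by
    have : t.IsGE (T.invRotate.obj₁) 1 := by
      dsimp [Triangle.invRotate]
      exact t.isGE_shift T.obj₃ 0 (-1) 1 (by lia)
    exact t.zero_of_isLE_of_isGE z 0 1 (by lia) inferInstance this
  rw [hz0, zero_comp] at hz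
  have hz' : v = (w ≫ inv ((t.truncLT 0).map T.mor₁)) ≫ (t.truncLTι 0).app T.obj₁ :=
    sub_eq_zero.1 hz
  -- Step 6
  rw [hv, hz', Category.assoc, t.truncLTι_comp_truncGEπ_app, comp_zero]


/-- for `X ≤ 0` and a distinguished triangle `X ⟶ Y ⟶ W ⟶ X⟦1⟧`, there is a distinguished
triangle `X ⟶ τ≤0 Y ⟶ τ≤0 W ⟶ X⟦1⟧`. -/
lemma exists_distTriang_truncLE (T : Triangle C) (hT : T ∈ distTriang C) [t.IsLE T.obj₁ 0] :
    ∃ (r : (t.truncLE 0).obj T.obj₃ ⟶ T.obj₁⟦(1 : ℤ)⟧),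
      Triangle.mk (t.liftTruncLE T.mor₁ 0) ((t.truncLE 0).map T.mor₂) r ∈ distTriang C := by
  obtain ⟨Q, q, r, hQ⟩ := distinguished_cocone_triangle (t.liftTruncLE T.mor₁ 0)
  have hT' : Triangle.mk T.mor₁ T.mor₂ T.mor₃ ∈ distTriang C := hT
  have hLG : Triangle.mk ((t.truncLEι 0).app T.obj₂) ((t.truncGEπ 1).app T.obj₂)
      ((t.truncGEδLE 0 1 rfl).app T.obj₂) ∈ distTriang C :=
    t.triangleLEGE_distinguished 0 1 rfl T.obj₂
  let H := someOctahedron (t.liftTruncLE_ι T.mor₁ 0) hQ hLG hT'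
  have hX1 : t.IsLE (T.obj₁⟦(1 : ℤ)⟧) 0 := by
    have : t.IsLE (T.obj₁⟦(1 : ℤ)⟧) (-1) := t.isLE_shift T.obj₁ 0 1 (-1) (by lia)
    exact t.isLE_of_le _ (-1) 0 (by lia)
  have hQle : t.IsLE Q 0 :=
    t.isLE₂ _ (rot_of_distTriang _ hQ) 0
      (show t.IsLE ((t.truncLE 0).obj T.obj₂) 0 from inferInstance) hX1
  have hLG₃ : Triangle.mk ((t.truncLEι 0).app T.obj₃) ((t.truncGEπ 1).app T.obj₃)
      ((t.truncGEδLE 0 1 rfl).app T.obj₃) ∈ distTriang C :=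
    t.triangleLEGE_distinguished 0 1 rfl T.obj₃
  obtain ⟨e', he'⟩ := t.triangle_iso_exists H.mem hLG₃
    (Iso.refl _) 0 1 hQle (show t.IsGE ((t.truncGE 1).obj T.obj₂) 1 from inferInstance)
    (show t.IsLE ((t.truncLE 0).obj T.obj₃) 0 from inferInstance)
    (show t.IsGE ((t.truncGE 1).obj T.obj₃) 1 from inferInstance)
  let θ : Q ≅ (t.truncLE 0).obj T.obj₃ := Triangle.π₁.mapIso e'
  have hθ : θ.hom ≫ (t.truncLEι 0).app T.obj₃ = H.m₁ := by
    have h1 : H.m₁ ≫ e'.hom.hom₂ = e'.hom.hom₁ ≫ (t.truncLEι 0).app T.obj₃ := e'.hom.comm₁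
    have h2 : e'.hom.hom₂ = 𝟙 T.obj₃ := he'
    have h3 : H.m₁ ≫ e'.hom.hom₂ = H.m₁ :=
      (congrArg (fun k => H.m₁ ≫ k) h2).trans (Category.comp_id _)
    exact h1.symm.trans h3
  have hq : q ≫ θ.hom = (t.truncLE 0).map T.mor₂ := by
    apply t.to_truncLE_obj_ext
    have hnat := (t.truncLEι 0).naturality T.mor₂
    dsimp at hnat
    rw [Category.assoc, hθ, hnat]
    exact H.comm₁
  refine ⟨θ.inv ≫ r, isomorphic_distinguished _ hQ _ ?_⟩
  refine Triangle.isoMk _ _ (Iso.refl _) (Iso.refl _) θ.symm ?_ ?_ ?_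
  · exact (Category.comp_id _).trans (Category.id_comp _).symm
  · show (t.truncLE 0).map T.mor₂ ≫ θ.inv = 𝟙 _ ≫ q
    rw [Category.id_comp, ← hq, Category.assoc, Iso.hom_inv_id, Category.comp_id]
  · show (θ.inv ≫ r) ≫ (shiftFunctor C (1 : ℤ)).map (𝟙 _) = θ.inv ≫ r
    rw [CategoryTheory.Functor.map_id, Category.comp_id]


omit [IsTriangulated C] in
lemma liftTruncLE_eq (T : Triangle C) [t.IsLE T.obj₁ 0] :
    t.liftTruncLE T.mor₁ 0 = inv ((t.truncLEι 0).app T.obj₁) ≫ (t.truncLE 0).map T.mor₁ := by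
  apply t.to_truncLE_obj_ext
  have hnat := (t.truncLEι 0).naturality T.mor₁
  dsimp at hnat
  rw [t.liftTruncLE_ι, Category.assoc, hnat, IsIso.inv_hom_id_assoc]

/-- (R)(i) -/
lemma eq_zero_of_truncLE_map_comp (T : Triangle C) (hT : T ∈ distTriang C) [t.IsLE T.obj₁ 0]
    (B : C) [t.IsGE B 0] (φ : (t.truncLE 0).obj T.obj₃ ⟶ B)
    (h : (t.truncLE 0).map T.mor₂ ≫ φ = 0) : φ = 0 := by
  obtain ⟨r, hr⟩ := exists_distTriang_truncLE t T hT
  obtain ⟨z, hz⟩ := Triangle.yoneda_exact₃ _ hr φ h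
  have hz0 : z = 0 :=
    t.zero_of_isLE_of_isGE z (-1) 0 (by lia) (t.isLE_shift T.obj₁ 0 1 (-1) (by lia)) inferInstance
  rw [hz, hz0]
  exact comp_zero

/-- (R)(ii) -/
lemma exists_truncLE_map_comp_eq (T : Triangle C) (hT : T ∈ distTriang C) [t.IsLE T.obj₁ 0]
    (B : C) [t.IsGE B 0] (φ : (t.truncLE 0).obj T.obj₂ ⟶ B)
    (h : (t.truncLE 0).map T.mor₁ ≫ φ = 0) :
    ∃ φ' : (t.truncLE 0).obj T.obj₃ ⟶ B, (t.truncLE 0).map T.mor₂ ≫ φ' = φ := by
  obtain ⟨r, hr⟩ := exists_distTriang_truncLE t T hT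
  have h' : t.liftTruncLE T.mor₁ 0 ≫ φ = 0 := by
    rw [liftTruncLE_eq, Category.assoc, h, comp_zero]
  obtain ⟨φ', hφ'⟩ := Triangle.yoneda_exact₂ _ hr φ h'
  exact ⟨φ', hφ'.symm⟩


section heart

variable {t}
variable {H : Type u'} [Category.{v'} H] [Abelian H] [t.Heart H] {H0 : C ⥤ H}
  (e : H0 ⋙ t.ιHeart ≅ t.truncGE 0 ⋙ t.truncLE 0)

include e

lemma map_zero_of_iso (X Y : C) : H0.map (0 : X ⟶ Y) = 0 := by
  apply t.ιHeart.map_injective
  rw [t.ιHeart.map_zero]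
  have hnat := e.hom.naturality (0 : X ⟶ Y)
  rw [(t.truncGE 0 ⋙ t.truncLE 0).map_zero, comp_zero] at hnat
  rw [← cancel_mono (e.hom.app Y), zero_comp]
  exact hnat

lemma preservesZeroMorphisms_of_iso : H0.PreservesZeroMorphisms :=
  ⟨fun X Y => map_zero_of_iso e X Y⟩

/-- (L): `H0` of the first map is mono when the third vertex is `≥ 0` -/
lemma mono_map_of_isGE (T : Triangle C) (hT : T ∈ distTriang C) [t.IsGE T.obj₃ 0] :
    Mono (H0.map T.mor₁) := by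
  apply Preadditive.mono_of_cancel_zero
  intro U u hu
  apply t.ιHeart.map_injective
  rw [t.ιHeart.map_zero]
  have key : (t.ιHeart.map u ≫ e.hom.app T.obj₁) ≫
      (t.truncLEι 0).app ((t.truncGE 0).obj T.obj₁) = 0 := by
    apply eq_zero_of_comp_truncGE_map t T hT (t.ιHeart.obj U)
    have hnat1 := (t.truncLEι 0).naturality ((t.truncGE 0).map T.mor₁)
    have hnat2 := e.hom.naturality T.mor₁
    dsimp at hnat1 hnat2
    rw [Category.assoc, Category.assoc, ← hnat1, ← Category.assoc (e.hom.app T.obj₁), ← hnat2,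
      Category.assoc, ← Category.assoc, ← Functor.map_comp, hu, t.ιHeart.map_zero, zero_comp]
  have h2 : t.ιHeart.map u ≫ e.hom.app T.obj₁ = 0 :=
    t.to_truncLE_obj_ext (by rw [key, zero_comp])
  rw [← cancel_mono (e.hom.app T.obj₁), zero_comp]
  exact h2


/-- (I) -/
lemma isIso_map_truncLEι (X : C) : IsIso (H0.map ((t.truncLEι 0).app X)) := by
  have h1 : IsIso ((t.truncGELE 0 0).map ((t.truncLEι 0).app X)) := by
    dsimp [TStructure.truncGELE]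
    infer_instance
  have h2 : IsIso ((t.truncGE 0 ⋙ t.truncLE 0).map ((t.truncLEι 0).app X)) :=
    (NatIso.isIso_map_iff (t.truncGELEIsoLEGE 0 0) _).1 h1
  have h3 : IsIso ((H0 ⋙ t.ιHeart).map ((t.truncLEι 0).app X)) :=
    (NatIso.isIso_map_iff e _).2 h2
  have h4 : IsIso (t.ιHeart.map (H0.map ((t.truncLEι 0).app X))) := h3
  exact isIso_of_fully_faithful t.ιHeart _

/-- the comparison map `τ≤0 Y ⟶ ι (H0 Y)` -/
noncomputable def cmp (Y : C) : (t.truncLE 0).obj Y ⟶ t.ιHeart.obj (H0.obj Y) :=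
  (t.truncGEπ 0).app ((t.truncLE 0).obj Y) ≫ (t.truncGELEIsoLEGE 0 0).hom.app Y ≫ e.inv.app Y

lemma cmp_naturality {Y W : C} (k : Y ⟶ W) :
    (t.truncLE 0).map k ≫ cmp e W = cmp e Y ≫ t.ιHeart.map (H0.map k) := by
  have hnat1 := (t.truncGEπ 0).naturality ((t.truncLE 0).map k)
  have hnat2 := (t.truncGELEIsoLEGE 0 0).hom.naturality k
  have hnat3 := e.inv.naturality k
  dsimp at hnat1 hnat2 hnat3
  dsimp only [cmp]
  rw [reassoc_of% hnat1, reassoc_of% hnat2, hnat3, Category.assoc, Category.assoc]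

lemma cmp_comp_injective (Y : C) (B : C) [t.IsGE B 0] (φ₁ φ₂ : t.ιHeart.obj (H0.obj Y) ⟶ B)
    (h : cmp e Y ≫ φ₁ = cmp e Y ≫ φ₂) : φ₁ = φ₂ := by
  dsimp only [cmp] at h
  rw [Category.assoc, Category.assoc, Category.assoc, Category.assoc] at h
  have h2 := t.from_truncGE_obj_ext h
  rw [cancel_epi] at h2
  rwa [cancel_epi] at h2

lemma exists_cmp_comp_eq (Y : C) (B : C) [t.IsGE B 0] (ψ : (t.truncLE 0).obj Y ⟶ B) :
    ∃ φ : t.ιHeart.obj (H0.obj Y) ⟶ B, cmp e Y ≫ φ = ψ := by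
  refine ⟨e.hom.app Y ≫ (t.truncGELEIsoLEGE 0 0).inv.app Y ≫ t.descTruncGE ψ 0, ?_⟩
  dsimp only [cmp]
  simp


/-- (R) existence -/
lemma exists_desc_of_isLE (T : Triangle C) (hT : T ∈ distTriang C) [t.IsLE T.obj₁ 0]
    {U : H} (φ : H0.obj T.obj₂ ⟶ U) (hφ : H0.map T.mor₁ ≫ φ = 0) :
    ∃ φ' : H0.obj T.obj₃ ⟶ U, H0.map T.mor₂ ≫ φ' = φ := by
  have h1 : (t.truncLE 0).map T.mor₁ ≫ (cmp e T.obj₂ ≫ t.ιHeart.map φ) = 0 := by
    rw [← Category.assoc, cmp_naturality, Category.assoc, ← Functor.map_comp, hφ,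
      t.ιHeart.map_zero, comp_zero]
  obtain ⟨φ₁', h2⟩ := exists_truncLE_map_comp_eq t T hT (t.ιHeart.obj U) _ h1
  obtain ⟨φ₂, h3⟩ := exists_cmp_comp_eq e T.obj₃ (t.ιHeart.obj U) φ₁'
  refine ⟨t.ιHeart.preimage φ₂, t.ιHeart.map_injective ?_⟩
  rw [Functor.map_comp, Functor.map_preimage]
  apply cmp_comp_injective e T.obj₂ (t.ιHeart.obj U)
  rw [← Category.assoc, ← cmp_naturality, Category.assoc, h3, h2]

/-- (R) epi -/
lemma epi_of_isLE (T : Triangle C) (hT : T ∈ distTriang C) [t.IsLE T.obj₁ 0] :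
    Epi (H0.map T.mor₂) := by
  apply Preadditive.epi_of_cancel_zero
  intro U φ hφ
  have h1 : (t.truncLE 0).map T.mor₂ ≫ (cmp e T.obj₃ ≫ t.ιHeart.map φ) = 0 := by
    rw [← Category.assoc, cmp_naturality, Category.assoc, ← Functor.map_comp, hφ,
      t.ιHeart.map_zero, comp_zero]
  have h2 := eq_zero_of_truncLE_map_comp t T hT (t.ιHeart.obj U) _ h1
  have h3 : t.ιHeart.map φ = 0 :=
    cmp_comp_injective e T.obj₃ (t.ιHeart.obj U) _ _ (by rw [h2, comp_zero])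
  apply t.ιHeart.map_injective
  rw [h3, t.ιHeart.map_zero]

/-- (R) -/
lemma exact_of_isLE (T : Triangle C) (hT : T ∈ distTriang C) [t.IsLE T.obj₁ 0]
    (hz : H0.map T.mor₁ ≫ H0.map T.mor₂ = 0) :
    (ShortComplex.mk (H0.map T.mor₁) (H0.map T.mor₂) hz).Exact := by
  have hepi := epi_of_isLE e T hT
  have hcok : IsColimit (CokernelCofork.ofπ (H0.map T.mor₂) hz) :=
    CokernelCofork.IsColimit.ofπ _ _
      (fun φ hφ => (exists_desc_of_isLE e T hT φ hφ).choose)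
      (fun φ hφ => (exists_desc_of_isLE e T hT φ hφ).choose_spec)
      (fun φ hφ m hm => by
        rw [← cancel_epi (H0.map T.mor₂), hm, (exists_desc_of_isLE e T hT φ hφ).choose_spec])
  exact ShortComplex.exact_of_g_is_cokernel _ hcok


theorem isHomological : H0.IsHomological := by
  have : H0.PreservesZeroMorphisms := preservesZeroMorphisms_of_iso e
  refine Functor.IsHomological.mk' _ (fun T hT => ⟨T, Iso.refl _, ?_⟩)
  have hT' : Triangle.mk T.mor₁ T.mor₂ T.mor₃ ∈ distTriang C := hT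
  obtain ⟨W, g', h', hW⟩ := distinguished_cocone_triangle ((t.truncLEι 0).app T.obj₁ ≫ T.mor₁)
  have hLG : Triangle.mk ((t.truncLEι 0).app T.obj₁) ((t.truncGEπ 1).app T.obj₁)
      ((t.truncGEδLE 0 1 rfl).app T.obj₁) ∈ distTriang C :=
    t.triangleLEGE_distinguished 0 1 rfl T.obj₁
  let O := someOctahedron rfl hLG hT' hW
  have hrot := rot_of_distTriang _ O.mem
  have : t.IsGE (Triangle.mk O.m₁ O.m₃
      (T.mor₃ ≫ ((t.truncGEπ 1).app T.obj₁)⟦(1 : ℤ)⟧')).rotate.obj₃ 0 :=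
    t.isGE_shift ((t.truncGE 1).obj T.obj₁) 1 1 0 (by lia)
  have hmono : Mono (H0.map O.m₃) := mono_map_of_isGE e _ hrot
  have : t.IsLE (Triangle.mk ((t.truncLEι 0).app T.obj₁ ≫ T.mor₁) g' h').obj₁ 0 :=
    (inferInstance : t.IsLE ((t.truncLE 0).obj T.obj₁) 0)
  have hz₁ : H0.map ((t.truncLEι 0).app T.obj₁ ≫ T.mor₁) ≫ H0.map g' = 0 := by
    rw [← H0.map_comp]
    have h0 : ((t.truncLEι 0).app T.obj₁ ≫ T.mor₁) ≫ g' = 0 := comp_distTriang_mor_zero₁₂ _ hW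
    rw [h0, map_zero_of_iso e]
  have hex₁ := exact_of_isLE e _ hW hz₁
  have hiso := isIso_map_truncLEι e T.obj₁
  let φ : ShortComplex.mk _ _ hz₁ ⟶ (shortComplexOfDistTriangle T hT).map H0 :=
    { τ₁ := H0.map ((t.truncLEι 0).app T.obj₁)
      τ₂ := 𝟙 _
      τ₃ := H0.map O.m₃
      comm₁₂ := by
        show H0.map ((t.truncLEι 0).app T.obj₁) ≫ H0.map T.mor₁ =
          H0.map ((t.truncLEι 0).app T.obj₁ ≫ T.mor₁) ≫ 𝟙 _
        rw [Category.comp_id, H0.map_comp]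
      comm₂₃ := by
        show 𝟙 _ ≫ H0.map T.mor₂ = H0.map g' ≫ H0.map O.m₃
        rw [Category.id_comp, ← H0.map_comp]
        exact congrArg H0.map O.comm₃.symm }
  have hτ₁ : IsIso φ.τ₁ := hiso
  have : Epi φ.τ₁ := inferInstance
  have : IsIso φ.τ₂ := (inferInstance : IsIso (𝟙 (H0.obj T.obj₂)))
  have : Mono φ.τ₃ := hmono
  exact (ShortComplex.exact_iff_of_epi_of_isIso_of_mono φ).1 hex₁

end heart

end Groth.Agent.Lib.Helper64.TStrH0
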