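import Mathlib
import Groth.Agent.Lib.Helper25.TraceFiltration

/-!
# Trace modulo a prime in an extension of Dedekind domains
-/

set_option autoImplicit false

namespace Groth.Agent.Lib.Helper64.TraceDed

open Groth.Agent.Lib.Helper25.TraceFiltration

section Pi

variable {k : Type*} [Field k] {ι : Type*} [Fintype ι] [DecidableEq ι]
  (C : ι → Type*) [∀ i, CommRing (C i)] [∀ i, Algebra k (C i)] [∀ i, FiniteDimensional k (C i)]

/-- The trace on a finite product of finite-dimensional algebras is the sum of the traces. -/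
theorem trace_pi (x : ∀ i, C i) :
    Algebra.trace k (∀ i, C i) x = ∑ i, Algebra.trace k (C i) (x i) := by
  classical
  have hid : (LinearMap.id : (∀ i, C i) →ₗ[k] (∀ i, C i)) =
      ∑ i, (LinearMap.single k C i) ∘ₗ (LinearMap.proj i) := by
    refine LinearMap.ext fun v => ?_
    ext j
    simp [LinearMap.sum_apply, Finset.sum_apply]
  rw [Algebra.trace_apply]
  calc LinearMap.trace k _ (Algebra.lmul k _ x)
      = LinearMap.trace k _ (Algebra.lmul k _ x ∘ₗ
          ∑ i, (LinearMap.single k C i) ∘ₗ (LinearMap.proj i)) := by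
        rw [← hid, LinearMap.comp_id]
    _ = ∑ i, LinearMap.trace k _ ((Algebra.lmul k _ x ∘ₗ LinearMap.single k C i) ∘ₗ
          (LinearMap.proj i)) := by
        have h2 : Algebra.lmul k _ x ∘ₗ ∑ i, (LinearMap.single k C i) ∘ₗ (LinearMap.proj i) =
            ∑ i, (Algebra.lmul k _ x ∘ₗ LinearMap.single k C i) ∘ₗ (LinearMap.proj i) := by
          refine LinearMap.ext fun v => ?_
          simp only [LinearMap.comp_apply, LinearMap.sum_apply, map_sum]
        rw [h2, map_sum]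
    _ = ∑ i, LinearMap.trace k _ ((LinearMap.proj i) ∘ₗ
          (Algebra.lmul k _ x ∘ₗ LinearMap.single k C i)) := by
        refine Finset.sum_congr rfl fun i _ => ?_
        rw [LinearMap.trace_comp_comm']
    _ = ∑ i, Algebra.trace k (C i) (x i) := by
        refine Finset.sum_congr rfl fun i _ => ?_
        rw [Algebra.trace_apply]
        congr 1
        refine LinearMap.ext fun v => ?_
        simp
end Pi

section Filtration

variable {k C : Type*} [Field k] [CommRing C] [Algebra k C] [FiniteDimensional k C]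

/-- One step of the filtration argument: `0 → C/𝔮 --a--> C/I' → C/I → 0`. -/
theorem trace_quot_step (I' I q : Ideal C) (a : C) (hle : I' ≤ I)
    (h1 : ∀ x ∈ q, a * x ∈ I') (h2 : ∀ x, a * x ∈ I' → x ∈ q)
    (h3 : ∀ x ∈ I, ∃ d, x - a * d ∈ I') (h4 : a ∈ I) (c : C) :
    Algebra.trace k (C ⧸ I') (Ideal.Quotient.mk _ c) =
      Algebra.trace k (C ⧸ q) (Ideal.Quotient.mk _ c) +
        Algebra.trace k (C ⧸ I) (Ideal.Quotient.mk _ c) := by
  let i : (C ⧸ q) →ₗ[k] (C ⧸ I') := mulQ _ _ a h1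
  let π : (C ⧸ I') →ₗ[k] (C ⧸ I) := (Ideal.Quotient.factorₐ k hle).toLinearMap
  have hπ_mk : ∀ x, π (Ideal.Quotient.mk _ x) = Ideal.Quotient.mk _ x := fun x => rfl
  rw [Algebra.trace_apply, Algebra.trace_apply, Algebra.trace_apply]
  refine trace_eq_add_of_exact i π ?_ ?_ ?_ _ _ _ ?_ ?_
  · rw [injective_iff_map_eq_zero]
    intro x hx
    obtain ⟨x, rfl⟩ := Ideal.Quotient.mk_surjective x
    rw [mulQ_mk, Ideal.Quotient.eq_zero_iff_mem] at hx
    exact Ideal.Quotient.eq_zero_iff_mem.2 (h2 x hx)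
  · exact Ideal.Quotient.factor_surjective hle
  · ext x
    obtain ⟨x, rfl⟩ := Ideal.Quotient.mk_surjective x
    rw [LinearMap.mem_ker, hπ_mk, Ideal.Quotient.eq_zero_iff_mem]
    constructor
    · rintro ⟨y, hy⟩
      obtain ⟨y, rfl⟩ := Ideal.Quotient.mk_surjective y
      rw [mulQ_mk, Ideal.Quotient.eq] at hy
      have h5 := hle hy
      have h6 : a * y ∈ I := I.mul_mem_right y h4
      have := I.sub_mem h6 h5
      simpa using this
    · intro hx
      obtain ⟨d, hd⟩ := h3 x hx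
      refine ⟨Ideal.Quotient.mk _ d, ?_⟩
      rw [mulQ_mk, Ideal.Quotient.eq]
      have := I'.neg_mem hd
      simpa using this
  · refine LinearMap.ext fun x => ?_
    obtain ⟨x, rfl⟩ := Ideal.Quotient.mk_surjective x
    simp only [LinearMap.comp_apply, Algebra.coe_lmul_eq_mul, LinearMap.mul_apply', i]
    rw [← map_mul, mulQ_mk, mulQ_mk, ← map_mul]
    congr 1; ring
  · refine LinearMap.ext fun x => ?_
    obtain ⟨x, rfl⟩ := Ideal.Quotient.mk_surjective x
    simp only [LinearMap.comp_apply, Algebra.coe_lmul_eq_mul, LinearMap.mul_apply']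
    rw [← map_mul, hπ_mk, hπ_mk, ← map_mul]

/-- If each `𝔮^j/𝔮^(j+1)` (`j < e`) is generated by an element `a` with annihilator `𝔮` modulo
`𝔮^(j+1)`, then the trace on `C ⧸ 𝔮 ^ e` is `e` times the trace on `C ⧸ 𝔮`. -/
theorem trace_quot_pow_ideal (q : Ideal C) (e : ℕ)
    (H : ∀ j < e, ∃ a ∈ q ^ j, (∀ x, a * x ∈ q ^ (j + 1) → x ∈ q) ∧
      ∀ x ∈ q ^ j, ∃ d, x - a * d ∈ q ^ (j + 1)) (c : C) :
    Algebra.trace k (C ⧸ q ^ e) (Ideal.Quotient.mk _ c) =
      e • Algebra.trace k (C ⧸ q) (Ideal.Quotient.mk _ c) := by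
  induction e with
  | zero =>
    have : Subsingleton (C ⧸ q ^ 0) := by
      rw [pow_zero, Ideal.one_eq_top]
      exact Ideal.Quotient.subsingleton_iff.2 rfl
    rw [zero_smul, Subsingleton.elim (Ideal.Quotient.mk _ c) 0, map_zero]
  | succ j ih =>
    obtain ⟨a, ha, h2, h3⟩ := H j (Nat.lt_succ_self j)
    rw [succ_nsmul', ← ih (fun i hi => H i (Nat.lt_succ_of_lt hi))]
    refine trace_quot_step (q ^ (j + 1)) (q ^ j) q a (Ideal.pow_le_pow_right (Nat.le_succ j))
      (fun x hx => ?_) h2 h3 ha c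
    rw [pow_succ]
    exact Ideal.mul_mem_mul ha hx

end Filtration

section Dedekind

attribute [local instance] Ideal.Quotient.field

variable (A B : Type*) [CommRing A] [CommRing B] [IsDedekindDomain A] [IsDedekindDomain B]
  [Algebra A B] [Module.Finite A B] [Module.IsTorsionFree A B] (p : Ideal A) [p.IsMaximal]

/-- the image of a prime over `p` in `B ⧸ pB`. -/
noncomputable abbrev qbar (Q : p.primesOver B) : Ideal (B ⧸ p.map (algebraMap A B)) :=
  Q.1.map (Ideal.Quotient.mk (p.map (algebraMap A B)))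

variable {A B p}

theorem map_le_pow (hp : p ≠ ⊥) (Q : p.primesOver B) :
    p.map (algebraMap A B) ≤ Q.1 ^ Q.1.ramificationIdx A := by
  classical
  have h := Ideal.map_algebraMap_eq_finsetProd_pow (R := B) (p := p) hp
  rw [h]
  refine Ideal.le_of_dvd (Finset.dvd_prod_of_mem (fun P : Ideal B => P ^ P.ramificationIdx A) ?_)
  simp

theorem mk_mem_qbar_pow_iff (hp : p ≠ ⊥) (Q : p.primesOver B) {i : ℕ}
    (hi : i ≤ Q.1.ramificationIdx A) (x : B) :
    Ideal.Quotient.mk (p.map (algebraMap A B)) x ∈ qbar A B p Q ^ i ↔ x ∈ Q.1 ^ i := by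
  rw [qbar, ← Ideal.map_pow]
  exact Ideal.mem_quotient_iff_mem ((map_le_pow hp Q).trans (Ideal.pow_le_pow_right hi))

theorem trace_quot_qbar_pow (hp : p ≠ ⊥) (Q : p.primesOver B) (c : B ⧸ p.map (algebraMap A B)) :
    Algebra.trace (A ⧸ p) (_ ⧸ qbar A B p Q ^ Q.1.ramificationIdx A) (Ideal.Quotient.mk _ c) =
      Q.1.ramificationIdx A •
        Algebra.trace (A ⧸ p) (_ ⧸ qbar A B p Q) (Ideal.Quotient.mk _ c) := by
  have hQ0 : Q.1 ≠ ⊥ := Ideal.ne_bot_of_mem_primesOver hp Q.2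
  have hQtop : Q.1 ≠ ⊤ := Ideal.IsPrime.ne_top inferInstance
  refine trace_quot_pow_ideal (qbar A B p Q) _ (fun j hj => ?_) c
  obtain ⟨a, ha, ha'⟩ := SetLike.exists_of_lt
    (Ideal.pow_right_strictAnti Q.1 hQ0 hQtop (Nat.lt_succ_self j))
  have hj1 : j + 1 ≤ Q.1.ramificationIdx A := hj
  refine ⟨Ideal.Quotient.mk _ a, (mk_mem_qbar_pow_iff hp Q hj.le a).2 ha, fun x hx => ?_,
    fun x hx => ?_⟩
  · obtain ⟨x, rfl⟩ := Ideal.Quotient.mk_surjective x
    rw [← map_mul, mk_mem_qbar_pow_iff hp Q hj1] at hx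
    have := Ideal.mem_prime_of_mul_mem_pow hQ0 ha' hx
    exact Ideal.mem_map_of_mem _ this
  · obtain ⟨x, rfl⟩ := Ideal.Quotient.mk_surjective x
    rw [mk_mem_qbar_pow_iff hp Q hj.le] at hx
    obtain ⟨d, e, he, hde⟩ := Ideal.exists_mul_add_mem_pow_succ hQ0 a x ha ha' hx
    refine ⟨Ideal.Quotient.mk _ d, ?_⟩
    rw [← map_mul, ← map_sub, mk_mem_qbar_pow_iff hp Q hj1, ← hde]
    simp [he]

/-- `(B ⧸ pB) ⧸ Q̄ ≃ B ⧸ Q` as `A ⧸ p`-algebras. -/
noncomputable def quotQbarEquiv (Q : p.primesOver B) :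
    ((B ⧸ p.map (algebraMap A B)) ⧸ qbar A B p Q) ≃ₐ[A ⧸ p] (B ⧸ Q.1) :=
  AlgEquiv.ofRingEquiv (f := DoubleQuot.quotQuotEquivQuotOfLE
    (Ideal.map_le_of_le_comap (Q.1.over_def p).le)) (by
    intro r
    obtain ⟨r, rfl⟩ := Ideal.Quotient.mk_surjective r
    rfl)

theorem quotQbarEquiv_mk (Q : p.primesOver B) (y : B) :
    quotQbarEquiv Q (Ideal.Quotient.mk _ (Ideal.Quotient.mk _ y)) = Ideal.Quotient.mk _ y := rfl

/-- The Chinese remainder map `B ⧸ pB → ∏ (B ⧸ pB) ⧸ Q̄ ^ e`. -/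
noncomputable def crtHom :
    (B ⧸ p.map (algebraMap A B)) →ₐ[A ⧸ p]
      (∀ Q : p.primesOver B, (B ⧸ p.map (algebraMap A B)) ⧸
        qbar A B p Q ^ Q.1.ramificationIdx A) :=
  AlgHom.pi fun Q => Ideal.Quotient.mkₐ (A ⧸ p) (qbar A B p Q ^ Q.1.ramificationIdx A)

theorem crtHom_bijective (hp : p ≠ ⊥) : Function.Bijective (crtHom (A := A) (B := B) (p := p)) := by
  classical
  constructor
  · rw [injective_iff_map_eq_zero]
    intro x hx
    obtain ⟨x, rfl⟩ := Ideal.Quotient.mk_surjective x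
    have h1 : ∀ Q : p.primesOver B, x ∈ Q.1 ^ Q.1.ramificationIdx A := by
      intro Q
      have := congrFun hx Q
      rw [← mk_mem_qbar_pow_iff hp Q le_rfl]
      exact Ideal.Quotient.eq_zero_iff_mem.1 this
    rw [Ideal.Quotient.eq_zero_iff_mem, Ideal.map_algebraMap_eq_finsetProd_pow (R := B) hp]
    have h2 := IsDedekindDomain.inf_pow_eq_prod_of_prime (Finset.univ : Finset (p.primesOver B))
      (fun Q => Q.1) (fun Q => Q.1.ramificationIdx A)
      (fun Q _ => Ideal.prime_of_isPrime (Ideal.ne_bot_of_mem_primesOver hp Q.2) inferInstance)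
      (fun Q _ Q' _ h => fun h' => h (Subtype.ext h'))
    have h3 : ∏ P ∈ (p.primesOver B).toFinset, P ^ P.ramificationIdx A =
        ∏ Q : p.primesOver B, Q.1 ^ Q.1.ramificationIdx A :=
      (Finset.prod_set_coe (p.primesOver B) (f := fun P => P ^ P.ramificationIdx A)).symm
    rw [h3, ← h2, Submodule.mem_finsetInf]
    exact fun Q _ => h1 Q
  · intro z
    choose w hw using fun Q => Ideal.Quotient.mk_surjective (z Q)
    choose w' hw' using fun Q => Ideal.Quotient.mk_surjective (w Q)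
    obtain ⟨x, hx⟩ := IsDedekindDomain.exists_forall_sub_mem_ideal
      (s := (Finset.univ : Finset (p.primesOver B)))
      (fun Q => Q.1) (fun Q => Q.1.ramificationIdx A)
      (fun Q _ => Ideal.prime_of_isPrime (Ideal.ne_bot_of_mem_primesOver hp Q.2) inferInstance)
      (fun Q _ Q' _ h => fun h' => h (Subtype.ext h')) (fun Q => w' Q.1)
    refine ⟨Ideal.Quotient.mk _ x, funext fun Q => ?_⟩
    rw [← hw, ← hw']
    refine (Ideal.Quotient.eq).2 ?_
    rw [← map_sub, mk_mem_qbar_pow_iff hp Q le_rfl]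
    exact hx Q (Finset.mem_univ Q)

/-- The trace of `y` on `B ⧸ pB` is the sum of `e(Q|p)` times the traces on `B ⧸ Q`. -/
theorem trace_quot_map_eq_sum (hp : p ≠ ⊥) (y : B) :
    Algebra.trace (A ⧸ p) (B ⧸ p.map (algebraMap A B)) (Ideal.Quotient.mk _ y) =
      ∑ Q : p.primesOver B, Q.1.ramificationIdx A •
        Algebra.trace (A ⧸ p) (B ⧸ Q.1) (Ideal.Quotient.mk Q.1 y) := by
  classical
  let φ := AlgEquiv.ofBijective (crtHom (A := A) (B := B) (p := p)) (crtHom_bijective hp)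
  rw [← Algebra.trace_eq_of_algEquiv φ, trace_pi]
  refine Finset.sum_congr rfl fun Q _ => ?_
  have h1 : φ (Ideal.Quotient.mk _ y) Q = Ideal.Quotient.mk _ (Ideal.Quotient.mk _ y) := rfl
  rw [h1, trace_quot_qbar_pow hp Q, ← quotQbarEquiv_mk Q y, Algebra.trace_eq_of_algEquiv]

end Dedekind

section Main

attribute [local instance] FractionRing.liftAlgebra

universe u

theorem main (A B : Type u) [CommRing A] [CommRing B]
    [IsDedekindDomain A] [IsDedekindDomain B] [Algebra A B] [Module.Finite A B]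
    [Module.IsTorsionFree A B]
    [Algebra.IsSeparable (FractionRing A) (FractionRing B)]
    (p : Ideal A) [p.IsMaximal] (hp : p ≠ ⊥) (y : B) :
    Ideal.Quotient.mk p (Algebra.intTrace A B y) =
      ∑ᶠ Q : p.primesOver B,
        Q.1.ramificationIdx A •
          Algebra.trace (A ⧸ p) (B ⧸ Q.1) (Ideal.Quotient.mk Q.1 y) := by
  rw [← Algebra.trace_quotient_eq_of_isDedekindDomain, finsum_eq_sum_of_fintype]
  exact trace_quot_map_eq_sum hp y

end Main

end Groth.Agent.Lib.Helper64.TraceDed
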